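import Cfsg.Agent.Lib.RF4.Inv

/-!
Automorphisms of `R` commuting with the torus.
-/

set_option autoImplicit false

namespace Cfsg.Lib.RF4

open V Subgroup

variable {K : Type*} [Field K] [Tw K]

theorem ρs_mul {v w : V K} (hv : v ∈ R) (hw : w ∈ R) : ρs (v * w) = ρs v * ρs w := by
  dst v hv; dst w hw; vp

theorem ρs_ρs {v : V K} (hv : v ∈ R) : ρs (ρs v) = v := by
  dst v hv; vp

theorem ρs_tor (l : Kˣ × Kˣ) (v : V K) : ρs (tor l v) = tor (ws l) (ρs v) := by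
  obtain ⟨a, b⟩ := l
  have h1 := a.mul_inv
  have h2 := congrArg σ h1
  simp only [ws]
  vs
  simp only [Units.val_mul, map_mul, map_one, map_add, map_pow, σσ] at *
  generalize (a⁻¹ : Kˣ).1 = a' at *
  constructorm* _ ∧ _ <;> grind

theorem wts {a : K} (a1 : a ≠ 1) : σ a ≠ 1 ∧ a * σ a ≠ 1 ∧ a ^ 2 * σ a ≠ 1 :=
  ⟨mt σ_eq_one.1 a1, mt nm_one a1, fun e => a1 (nm_one (σ_eq_one.1 (by simpa [mul_comm] using e)))⟩

theorem fix8 {a : Kˣ} (a1 : a ≠ 1) {v : V K} (hv : v ∈ R) (h : tor (a, 1) v = v) : v ∈ U8 := by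
  have h0 := mt Units.val_eq_one.1 a1
  obtain ⟨h1, h2, h3⟩ := wts h0
  dst v hv
  vs at *
  simp only [Units.val_one, map_one, one_pow, mul_one, mul_left_eq_self₀] at h
  grind

theorem fix2 {a : Kˣ} (a1 : a ≠ 1) {v : V K} (hv : v ∈ R) (h : tor (ws (a, 1)) v = v) : v ∈ U2 := by
  have := fix8 a1 (v := ρs v) (by vs) (by rw [← ρs_ρs (aut_R _ (show ρs v ∈ R by vs)), ρs_tor, ρs_ρs hv, h])
  rw [← ρs_ρs hv]
  generalize ρs v = w at *
  clear * - this; dst w this; vp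

theorem fix4 {l : T4 K} (h1 : l ≠ 1) {v : V K} (h : tor l v = v) : v ∈ U4 := by
  have a1 : (l.1.1 : K) ≠ 1 := fun e => h1 (Subtype.ext (T4_fst l.2 (Units.ext e)))
  have b1 : (l.1.2 : K) ≠ 1 := fun e => h1 (Subtype.ext (T4_snd l.2 (Units.ext e)))
  have k1 := mem_T4.1 l.2
  have k2 := T4_sq l.2
  have k3 := add_σ_ne l.1.1.ne_zero a1
  obtain ⟨h1, h2, h3⟩ := wts a1
  obtain ⟨h4, h5, h6⟩ := wts b1
  have k4 : (l.1.1 : K) * l.1.2 ≠ 1 := by grind
  have k5 := (wts k4).2.1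
  vs at h ⊢
  simp only [mul_left_eq_self₀, map_mul] at h k5
  generalize (l.1.1 : K) = a, (l.1.2 : K) = b at *
  obtain ⟨p1, p2, p3, p4, -, -, p5, p6, p7, p8, p9, p10⟩ := h
  have q1 : a * b * σ b ≠ 1 := by clear * - k1 k3; grind
  have q2 : a * b ^ 2 * σ b ≠ 1 := fun e => a1 (by linear_combination k2 - a * e)
  exact ⟨p1.resolve_left a1, p2.resolve_left k4, p3.resolve_left fun e => k5 (by linear_combination e),
    p4.resolve_left fun e => k4 (by linear_combination e - a * b * k1),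
    p5.resolve_left fun e => q1 (by linear_combination e - a * b * σ b * k1), p6.resolve_left q1,
    p7.resolve_left fun e => q2 (by linear_combination e - a * b ^ 2 * σ b * k1), p8.resolve_left q2,
    p9.resolve_left b1, p10.resolve_left h5⟩

theorem fix6 {l : T4 K} (h1 : l ≠ 1) {v : V K} (hv : v ∈ R) (h : tor (ws l) v = v) : v ∈ U6 := by
  have := fix4 h1 (v := ρs v) (by rw [← ρs_ρs (aut_R _ (show ρs v ∈ R by vs)), ρs_tor, ρs_ρs hv, h])
  rw [← ρs_ρs hv]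
  generalize ρs v = w at *
  clear * - this; dst w this; vp

/-- An equivariant map on a root group of Suzuki type. -/
theorem root [Finite K] {y x : K → V K} {β : V K → V K} {N : Subgroup (V K)} {wt : Kˣ × Kˣ → K} {a : K} (a0 : a ≠ 0)
    (a1 : a ≠ 1) (hm : ∀ v ∈ R, ∀ w ∈ R, β (v * w) = β v * β w) (ht : ∀ l, ∀ v ∈ R, β (tor l v) = tor l (β v))
    (hy : ∀ t, y t ∈ R) (hx : ∀ t, x t ∈ R) (h0 : β (y 1) ∈ N) (hN : ∀ v ∈ N, ∃ c d, v = y c * x d)
    (h1 : ∀ t ≠ 0, ∃ l, wt l = t) (h2 : ∀ l c d, tor l (y c * x d) = y (wt l * c) * x (wt l * σ (wt l) * d))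
    (h3 : ∀ c d c' d', y c * x d * (y c' * x d') = y (c + c') * x (d + d' + c * σ c'))
    (h4 : ∀ c d c' d', y c * x d = y c' * x d' → d = d') (h5 : x 0 = 1) (h6 : y 0 = 1) :
    ∃ c, (∀ t, β (y t) = y (t * c)) ∧ ∀ t, β (x t) = x (t * (c * σ c)) := by
  obtain ⟨c, d, e⟩ := hN _ h0
  have b1 : β 1 = 1 := by simpa using hm 1 (one_mem _) 1 (one_mem _)
  have k : ∀ t, β (y t) = y (t * c) * x (t * σ t * d) := fun t => by
    by_cases h : t = 0
    · simp [h, h5, h6, b1]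
    obtain ⟨l, rfl⟩ := h1 t h
    have := ht l _ (hy 1)
    rw [e, h2] at this
    rw [← this]
    simpa [h5] using congrArg β (h2 l 1 0).symm
  have k' : ∀ t, β (x t) = x (t * (c * σ c)) := fun t => by
    obtain ⟨t, rfl⟩ := nm_surj t
    have := h3 t 0 t 0
    rw [h5, mul_one, CharTwo.add_self_eq_zero, h6, one_mul, add_zero, zero_add] at this
    rw [← this, hm _ (hy t) _ (hy t), k, h3, CharTwo.add_self_eq_zero, CharTwo.add_self_eq_zero, h6, one_mul]
    congr 1; pol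
  have : d = 0 := by
    have e1 := congrArg β (h3 1 0 a 0)
    have e2 := h3 ((1 + a) * c) ((1 + a) * σ (1 + a) * d) 0 (1 * σ a * (c * σ c))
    rw [h5, mul_one, mul_one, hm _ (hy _) _ (hy _), hm _ (hy _) _ (hx _), k, k, k, k', h3, add_zero, zero_add,
      ← one_mul (x (1 * σ a * _)), ← h6, e2] at e1
    have := h4 _ _ _ _ e1
    have h7 := add_σ_ne a0 a1
    simp only [map_add, map_mul, map_one, map_zero] at this
    clear * - this h7
    grind
  exact ⟨c, fun t => by rw [k, this, mul_zero, h5, mul_one], k'⟩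

theorem eq_prod {v : V K} (h : v ∈ R) : v = y2 v.b2 * x2 v.c2 * x3 v.a3 * y4 v.b4 * x4 v.c4 * x5 v.a5 * y6 v.b6 *
    x6 v.c6 * x7 v.a7 * y8 v.b8 * x8 v.c8 := by
  dst v h; vp

set_option maxHeartbeats 1600000 in
/-- An equivariant endomorphism of `R` which is trivial on `Z₂` is trivial. -/
theorem ident [Finite K] {β : V K → V K} {a : K} (a0 : a ≠ 0) (a1 : a ≠ 1) (hR : ∀ v ∈ R, β v ∈ R)
    (hm : ∀ v ∈ R, ∀ w ∈ R, β (v * w) = β v * β w) (ht : ∀ l, ∀ v ∈ R, β (tor l v) = tor l (β v))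
    (h4 : ∀ t, β (x4 t) = x4 t) (h6 : ∀ t, β (x6 t) = x6 t) {v : V K} (hv : v ∈ R) : β v = v := by
  have u1 : Units.mk0 a a0 ≠ 1 := fun e => a1 (congrArg Units.val e)
  obtain ⟨l, hl, e⟩ := T4_ex_fst (Units.mk0 a a0)
  have l1 : (⟨l, hl⟩ : T4 K) ≠ 1 := fun h => u1 (by rw [← e, show l = 1 from congrArg Subtype.val h]; rfl)
  have k1 := mem_T4.1 hl
  obtain ⟨c8, k8, k8'⟩ := root (y := y8) (x := x8) (wt := fun l => l.2) a0 a1 hm ht (fun _ => by vs) (fun _ => by vs)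
    (fix8 u1 (hR _ (by vs)) (by rw [← ht _ _ (by vs)]; congr 1; vs; simp))
    (fun v h => ⟨v.b8, v.c8, by clear * - h; dst v h; vp⟩) (fun t h => ⟨(1, .mk0 t h), rfl⟩)
    (by clear * -; intros; vp) (by clear * -; intros; vp) (by clear * -; vs; tauto) rfl rfl
  obtain ⟨c2, k2, k2'⟩ := root (y := y2) (x := x2) (wt := fun l : Kˣ × Kˣ => (l.1 : K) * (l.2 : K)) a0 a1 hm ht (fun _ => by vs)
    (fun _ => by vs) (fix2 u1 (hR _ (by vs)) (by rw [← ht _ _ (by vs)]; congr 1; vs; simp [ws, a0]))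
    (fun v h => ⟨v.b2, v.c2, by clear * - h; dst v h; vp⟩) (fun t h => ⟨(1, .mk0 t h), by simp⟩)
    (by clear * -; intros; vp) (by clear * -; intros; vp) (by clear * -; vs; tauto) rfl rfl
  obtain ⟨c4, k4, k4'⟩ := root (y := y4) (x := x4) (wt := fun l : Kˣ × Kˣ => σ (l.1 : K) * (l.2 : K) * σ (l.2 : K)) a0 a1 hm ht
    (fun _ => by vs) (fun _ => by vs) (fix4 l1 (by rw [← ht _ _ (by vs)]; congr 1; vs; exact k1))
    (fun v h => ⟨v.b4, v.c4, by clear * - h; dst v h; vp⟩) (fun t h => by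
      obtain ⟨s, rfl⟩ := σ_surj t
      exact ⟨(.mk0 s (mt σ_eq_zero.2 h), 1), by simp⟩)
    (by clear * -; intros; vp) (by clear * -; intros; vp) (by clear * -; vs; tauto) rfl rfl
  obtain ⟨c6, k6, k6'⟩ := root (y := y6) (x := x6) (wt := fun l : Kˣ × Kˣ => (l.1 : K) * (l.2 : K) * σ (l.2 : K)) a0 a1 hm ht
    (fun _ => by vs) (fun _ => by vs) (fix6 l1 (hR _ (by vs)) (by
      rw [← ht _ _ (by vs)]; congr 1; vs; simpa [ws, mul_right_comm _ (l.2 : K), mul_comm (l.2 : K)] using k1))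
    (fun v h => ⟨v.b6, v.c6, by clear * - h; dst v h; vp⟩) (fun t h => ⟨(.mk0 t h, 1), by simp⟩)
    (by clear * -; intros; vp) (by clear * -; intros; vp) (by clear * -; vs; tauto) rfl rfl
  obtain rfl : c4 = 1 := nm_one (by simpa [h4, x4_inj, eq_comm] using k4' 1)
  obtain rfl : c6 = 1 := nm_one (by have := congrArg V.c6 (k6' 1); rw [h6] at this; simpa [x6] using this.symm)
  have b1 : β 1 = 1 := h4 0
  have hc : ∀ v ∈ R, ∀ w ∈ R, β (cm v w) = cm (β v) (β w) := fun v hv w hw => by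
    have hi : ∀ v ∈ R, β v⁻¹ = (β v)⁻¹ := fun v hv =>
      eq_inv_of_mul_eq_one_left (by rw [← hm _ (inv_mem hv) _ hv, inv_mul_cancel, b1])
    rw [cm, hm _ (mul_mem (mul_mem hv hw) (inv_mem hv)) _ (inv_mem hw), hm _ (mul_mem hv hw) _ (inv_mem hv),
      hm _ hv _ hw, hi _ hv, hi _ hw, cm]
  simp only [mul_one] at k4 k6
  have k5 : ∀ t, β (x5 t) = x5 t := fun t => by
    rw [show x5 t = cm (y6 t) (y4 1) by clear * -; vp, hc _ (by vs) _ (by vs), k4, k6]
  obtain rfl : c2 = 1 := by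
    have := hc (x5 1) (by vs) (y2 1) (by vs)
    rw [k5, k2, show cm (x5 1) (y2 1) = x4 (1 : K) by clear * -; vp, h4] at this
    clear * - this; simp only [cm] at this; vs at this; grind
  obtain rfl : c8 = 1 := by
    have := hc (x5 1) (by vs) (y8 1) (by vs)
    rw [k5, k8, show cm (x5 1) (y8 1) = x6 (1 : K) by clear * -; vp, h6] at this
    clear * - this; simp only [cm] at this; vs at this; grind
  simp only [mul_one, map_one] at k2 k8 k2' k8'
  have k3 : ∀ t, β (x3 t) = x3 t := fun t => by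
    rw [show x3 t = cm (y4 t) (y2 1) by clear * -; vp, hc _ (by vs) _ (by vs), k4, k2]
  have k7 : ∀ t, β (x7 t) = x7 t := fun t => by
    rw [show x7 t = cm (y8 t) (y6 1) by clear * -; vp, hc _ (by vs) _ (by vs), k8, k6]
  rw [eq_prod hv]
  repeat rw [hm _ (by vs) _ (by vs)]
  rw [k2, k2', k3, k4, h4, k5, k6, h6, k7, k8, k8']

end Cfsg.Lib.RF4
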