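import Cfsg.Agent.Lib.RF4.Par
import Cfsg.Agent.Lib.RF4.Ident

/-!
The torus and the second reflection.
-/

set_option autoImplicit false

namespace Cfsg.Lib.RF4

open V Subgroup Cfsg.Lib.BG Cfsg.Lib.Transfer Cfsg.Lib.GW

variable {K : Type*} [Field K] [Tw K]

/-- The weight on `V₄`. -/
def w4 (l : Kˣ × Kˣ) : Kˣ := l.1 ^ 2 * σu l.1 * l.2 ^ 3 * σu l.2 ^ 2

/-- The weight on `V₆`. -/
def w6 (l : Kˣ × Kˣ) : Kˣ := l.1 * σu l.1 * l.2 ^ 3 * σu l.2 ^ 2

theorem tor_w4 (l : Kˣ × Kˣ) (a : K) : tor l (x4 a) = x4 (w4 l * a) := by vs; simp [w4]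

theorem T4_fix {l : T4 K} {y : V K} (hy : y.c6 ≠ 0) (h : tor l y = y) : l = 1 := by
  have := T4_c6 l y
  rw [h, mul_eq_left₀ hy] at this
  exact Subtype.ext (T4_fst l.2 (Units.ext this))

theorem fixR {a : Kˣ} (a1 : a ≠ 1) {v : V K} (hv : v ∈ R) (h : tor (1, a) v = v) : v = 1 := by
  have h0 := mt Units.val_eq_one.1 a1
  obtain ⟨h1, h2, h3⟩ := wts h0
  have h4 := (wts h2).2.1
  dst v hv
  vs at *
  simp only [Units.val_one, map_one, one_pow, mul_one, one_mul, mul_left_eq_self₀, map_mul, σσ] at h h4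
  obtain ⟨p1, p2, p3, p4, p5, p6, p7, p8, p9, p10, p11⟩ := h
  have q : (a : K) ^ 2 * σ (a : K) ^ 2 ≠ 1 := by clear * - h2; grind
  exact ⟨p1.resolve_left h0, p2.resolve_left h2, p3.resolve_left h3, p4.resolve_left h2,
    p5.resolve_left fun e => h4 (by linear_combination e), p6.resolve_left q, p7.resolve_left h2,
    p8.resolve_left fun e => h4 (by linear_combination e), p9.resolve_left h3, p10.resolve_left h0, p11.resolve_left h2⟩

theorem conj_conj_conj {G : Type*} [Group G] (s a b : G) :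
    s * a * s⁻¹ * (s * b * s⁻¹) * (s * a * s⁻¹)⁻¹ = s * (a * b * a⁻¹) * s⁻¹ := by group

theorem conj_left_inj {G : Type*} [Group G] (s : G) {a b : G} : s * a * s⁻¹ = s * b * s⁻¹ ↔ a = b := by simp

/-- Coordinates on `Z₂`. -/
def zz (p : K × K) : V K := x4 p.1 * x6 p.2

namespace GD

variable {G : Type*} [Group G] (c : GD K G) [Finite K] [Finite G]

theorem h_comm (l l' : T4 K) : c.h l * c.h l' = c.h l' * c.h l := by rw [← map_mul, mul_comm, map_mul]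

section
variable {c} {s : G} (h1 : s ∈ c.P) (h2 : s ∉ 𝐍(c.S)) (h3 : s ∈ 𝐍(c.D))
include h1 h2

theorem D89 {l l' : T4 K} (e : c.h l = s * c.h l' * s⁻¹) : l = 1 := by
  obtain ⟨y, hy, e'⟩ := c.P_act h1 (Z_le_Z2 (x4_mem c.a))
  refine T4_fix (y := y) (fun h => c.nB_τ h1 h2 ⟨y, by change _ ∈ Z; revert hy h; vs; tauto, e'.symm⟩) (c.inj ?_)
  rw [← c.he, e, ← e', conj_conj_conj, c.C_conj (x4_mem _) (c.h_mem l')]

include h3

theorem D9_lin (l : T4 K) : ∃ l', ∀ v, s * c.h l * s⁻¹ * c.e v * (s * c.h l * s⁻¹)⁻¹ = c.e (tor l' v) := by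
  obtain ⟨l', h, -⟩ := c.lin _ (conj_mem_of_norm h3 (c.hD l)) fun l' => by
    obtain ⟨l1, e1⟩ := c.D_h (conj_mem_of_norm h3 (c.hD l)) l'
    obtain ⟨l2, e2⟩ := c.D_h (conj_mem_of_norm' h3 (c.hD l')) l⁻¹
    have := D89 h1 h2 (l := l1 * l'⁻¹) (l' := l * l2) (by
      rw [map_mul, map_mul, ← e1, ← e2, map_inv, map_inv]; group)
    rw [← mul_inv_eq_iff_eq_mul, e1, mul_inv_eq_one.1 this]
  exact ⟨l', h⟩

theorem D9_one {l : T4 K} (h : ∀ a, s * c.h l * s⁻¹ * c.e (x4 a) * (s * c.h l * s⁻¹)⁻¹ = c.e (x4 a)) : l = 1 := by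
  obtain ⟨l', e⟩ := c.D_CZ (conj_mem_of_norm h3 (c.hD l)) h
  rw [D89 h1 h2 e.symm, map_one, conj_eq_one_iff] at e
  exact T4_fix (y := x6 1) (by simp [x6]) (c.inj (by rw [← c.he, e]; simp))

theorem exists_H : ∃ H : Kˣ × Kˣ →* G, (∀ l, H l ∈ c.D) ∧ ∀ l v, H l * c.e v * (H l)⁻¹ = c.e (tor l v) := by
  choose π hπ using D9_lin h1 h2 h3
  have k : Function.Surjective fun l => w4 (π l) := (Finite.injective_iff_surjective_of_equiv
    (Equiv.ofBijective (fun l : T4 K => l.1.1) ⟨fun a b e => inv_mul_eq_one.1 (Subtype.ext (T4_fst (a⁻¹ * b).2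
      (inv_mul_eq_one.2 e))), fun a => by obtain ⟨l, h, e⟩ := T4_ex_fst a; exact ⟨⟨l, h⟩, e⟩⟩)).1 fun a b e =>
    inv_mul_eq_one.1 (D9_one h1 h2 h3 fun t => by
      have := hπ b (x4 t)
      rw [tor_w4, ← show w4 (π a) = w4 (π b) from e, ← tor_w4, ← hπ] at this
      rw [map_mul, map_inv]
      calc _ = (s * c.h a * s⁻¹)⁻¹ * (s * c.h b * s⁻¹ * c.e (x4 t) * (s * c.h b * s⁻¹)⁻¹) * (s * c.h a * s⁻¹) := by group
        _ = _ := by rw [this]; group)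
  have : ∀ l, ∃ d ∈ c.D, ∀ v, d * c.e v * d⁻¹ = c.e (tor l v) := fun l => by
    obtain ⟨l1, e⟩ := k (w4 l)
    have h : l * (π l1)⁻¹ ∈ T4 K := (T4_x4 one_ne_zero).1 (by
      rw [mul_comm, map_mul, map_inv, MulAut.mul_apply, tor_w4, ← show w4 (π l1) = w4 l from e, ← tor_w4]
      simp)
    refine ⟨c.h ⟨_, h⟩ * (s * c.h l1 * s⁻¹), mul_mem (c.hD _) (conj_mem_of_norm h3 (c.hD _)), fun v => ?_⟩
    rw [mul_inv_rev, mul_assoc, mul_assoc, ← mul_assoc _ _ (c.h _)⁻¹, ← mul_assoc _ _ (c.h _)⁻¹, ← mul_assoc _ (c.e v), hπ,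
      ← mul_assoc, c.he, ← MulAut.mul_apply, ← map_mul, inv_mul_cancel_right]
  choose H k1 k2 using this
  refine ⟨.mk' H fun a b => inv_mul_eq_one.1 (c.D_one (mul_mem (inv_mem (k1 _)) (mul_mem (k1 _) (k1 _))) fun v => ?_),
    k1, k2⟩
  calc _ = (H (a * b))⁻¹ * (H a * (H b * c.e v * (H b)⁻¹) * (H a)⁻¹) * H (a * b) := by group
    _ = _ := by rw [k2, k2, ← MulAut.mul_apply, ← map_mul, ← k2]; group

theorem Y_eq {a : K} (a0 : a ≠ 0) (a1 : a ≠ 1) (t : K) : ∃ b, s * c.e (x4 t) * s⁻¹ = c.e (x6 b) := by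
  obtain ⟨l, hl, e⟩ := T4_ex_fst (Units.mk0 a a0)
  obtain ⟨l', h⟩ := D9_lin h1 h2 h3 ⟨l, hl⟩
  have k : (w4 l' : K) ≠ 1 := fun e' => a1 (by
    have := D9_one h1 h2 h3 fun t => by rw [h, tor_w4, e', one_mul]
    rw [show l = 1 from congrArg Subtype.val this] at e
    exact (congrArg Units.val e).symm)
  obtain ⟨y, hy, e'⟩ := c.P_act h1 (Z_le_Z2 (x4_mem t))
  have : tor l' y = y := c.inj (by
    rw [← h, ← e', conj_conj_conj, c.C_conj (x4_mem t) (c.h_mem ⟨l, hl⟩)])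
  refine ⟨y.c6, e'.trans (congrArg _ ?_)⟩
  have := congrArg V.c4 this
  simp only [w4, Units.val_mul, Units.val_pow_eq_pow_val, coe_σu] at k
  clear * - this hy k
  dst y hy; vs at *; grind

end

section
variable {c} {H : Kˣ × Kˣ →* G} (hD : ∀ l, H l ∈ c.D) (he : ∀ l v, H l * c.e v * (H l)⁻¹ = c.e (tor l v))
include hD he

theorem H_T4 (l : T4 K) : H l = c.h l := c.D_T4 (hD l) (he l)

theorem H_lin {d : G} (hd : d ∈ c.D) (h : ∀ l, d * c.h l = c.h l * d) :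
    ∃ l, d = H l ∧ d * c.r * d⁻¹ = c.h ⟨l * (wr l)⁻¹, wr_mem l⟩ * c.r := by
  obtain ⟨l, h1, h2⟩ := c.lin d hd h
  refine ⟨l, (inv_mul_eq_one.1 (c.D_one (mul_mem (inv_mem (hD l)) hd) fun v => ?_)).symm, h2⟩
  calc _ = (H l)⁻¹ * (d * c.e v * d⁻¹) * H l := by group
    _ = _ := by rw [h1, ← he]; group

theorem H_inj {l l' : Kˣ × Kˣ} (h : H l = H l') : l = l' := by
  have a := congrArg V.a1 (c.inj ((he l (x1 1)).symm.trans (h ▸ he l' (x1 1))))
  have b := congrArg V.b8 (c.inj ((he l (y8 1)).symm.trans (h ▸ he l' (y8 1))))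
  vs at a b
  exact Prod.ext (Units.ext a) (Units.ext b)

theorem H_r (l : Kˣ × Kˣ) : c.r * H l * c.r⁻¹ = H (wr l) := by
  obtain ⟨l', e, h⟩ := H_lin hD he (hD l) fun l' => by rw [← H_T4 hD he, ← map_mul, mul_comm, map_mul]
  obtain rfl := H_inj hD he e
  rw [← H_T4 hD he, map_mul, map_inv] at h
  calc _ = H (wr l) * (H l)⁻¹ * (H l * (H (wr l))⁻¹ * c.r) * H l * c.r⁻¹ := by group
    _ = _ := by rw [← h]; group

theorem H_norm {s : G} (h1 : s ∈ c.P) (h2 : s ∉ 𝐍(c.S)) (h3 : s ∈ 𝐍(c.D)) (h4 : s * s ∈ 𝐍(c.S)) (l : Kˣ × Kˣ) :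
    ∃ l', s⁻¹ * H l * s = H l' := by
  refine (H_lin hD he (conj_mem_of_norm' h3 (hD l)) fun l' => ?_).imp fun _ h => h.1
  obtain ⟨l1, e⟩ := c.D_C (conj_mem_of_norm (mul_mem h3 h3) (c.hD l')) (conj_mem_of_norm (c.NS_NC h4) (c.h_mem l'))
  obtain ⟨l2, e', -⟩ := H_lin hD he (conj_mem_of_norm h3 (c.hD l')) fun l'' => by
    obtain ⟨l2, e2⟩ := D9_lin h1 h2 h3 l'
    rw [(inv_mul_eq_one.1 (c.D_one (mul_mem (inv_mem (hD l2)) (conj_mem_of_norm h3 (c.hD l'))) fun v => by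
      calc _ = (H l2)⁻¹ * (s * c.h l' * s⁻¹ * c.e v * (s * c.h l' * s⁻¹)⁻¹) * H l2 := by group
        _ = _ := by rw [e2, ← he]; group)).symm, ← H_T4 hD he, ← map_mul, mul_comm, map_mul]
  calc _ = s⁻¹ * (H l * (s * c.h l' * s⁻¹)) * s := by group
    _ = _ := by rw [e', ← map_mul, mul_comm l, map_mul, ← e']; group

end

/-- The action on `Z₂`. -/
def Act (g : G) (f : K × K → K × K) : Prop := ∀ p, g * c.e (zz p) * g⁻¹ = c.e (zz (f p))

variable {c} in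
theorem Act.mul {g g' : G} {f f' : K × K → K × K} (h : c.Act g f) (h' : c.Act g' f') : c.Act (g * g') (f ∘ f') :=
  fun p => by rw [Function.comp, ← h, ← h']; group

variable {c} in
theorem Act.mem {g g' : G} {f f' : K × K → K × K} (h : c.Act g f) (h' : c.Act g' f') (e : ∀ p, f p = f' p) :
    g⁻¹ * g' ∈ R.map c.e := by
  have : ∀ p, g⁻¹ * g' * c.e (zz p) * (g⁻¹ * g')⁻¹ = c.e (zz p) := fun p => by
    calc _ = g⁻¹ * (g' * c.e (zz p) * g'⁻¹) * g := by group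
      _ = _ := by rw [h', ← e, ← h]; group
  exact c.CZ2 (fun a => by simpa [zz, show x6 (0 : K) = 1 from rfl] using this (a, 0))
    (by simpa [zz, show x4 (0 : K) = 1 from rfl] using this (0, 1))

theorem act_x1 (t : K) : c.Act (c.e (x1 t)) fun p => (p.1 + t * p.2, p.2) := fun p => by
  rw [← map_inv, ← map_mul, ← map_mul]; congr 1; simp only [zz]; vp

/-- The torus and the second reflection. -/
structure HS where
  H : Kˣ × Kˣ →* G
  s : G
  hD : ∀ l, H l ∈ c.D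
  he : ∀ l v, H l * c.e v * (H l)⁻¹ = c.e (tor l v)
  ss : s * s = 1
  se : ∀ v ∈ R, s * c.e v * s⁻¹ = c.e (ρs v)
  sh : ∀ l, s * H l * s⁻¹ = H (ws l)
  s3 : s * c.e (x1 1) * s = c.e (x1 1) * s * c.e (x1 1)

theorem exists_u (hm : c.Main) {a : K} (a0 : a ≠ 0) (a1 : a ≠ 1) : ∃ H : Kˣ × Kˣ →* G, (∀ l, H l ∈ c.D) ∧
    (∀ l v, H l * c.e v * (H l)⁻¹ = c.e (tor l v)) ∧ ∃ u ∈ c.P, ∃ t : Kˣ,
      c.Act u (fun p => (p.1, p.2 + (t⁻¹ : Kˣ) * p.1)) ∧ ∀ m, u * H (1, m) = H (1, m) * u := by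
  obtain ⟨s, h1, h2, h3, h4⟩ := c.exists_s1 hm
  obtain ⟨H, hD, he⟩ := exists_H h1 h2 h3
  have hx : ∀ t, c.e (x1 t) ∈ 𝐍(c.S) := fun t => le_norm _ ⟨_, rfl⟩
  choose α hα using Y_eq h1 h2 h3 a0 a1
  choose β hβ using Y_eq (inv_mem h1) (mt inv_mem_iff.1 h2) (inv_mem h3) a0 a1
  have i4 : ∀ a b : K, c.e (x4 a) = c.e (x4 b) → a = b := fun a b e => x4_inj.1 (c.inj e)
  have sα : Function.Surjective α := Finite.surjective_of_injective fun a b e => i4 _ _ (by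
    rw [← conj_left_inj s, hα, hα, e])
  have sβ : Function.Surjective β := Finite.surjective_of_injective fun a b e => i4 _ _ (by
    rw [← conj_left_inj s⁻¹, hβ, hβ, e])
  set u := s * c.e (x1 1) * s⁻¹ with hu
  have u6 : ∀ b, u * c.e (x6 b) * u⁻¹ = c.e (x6 b) := fun b => by
    obtain ⟨b, rfl⟩ := sα b
    rw [← hα, conj_conj_conj, c.C_conj (x4_mem _) (c.e_mem _)]
  have u4 : ∀ a, u * c.e (x4 a) * u⁻¹ = c.e (x4 a * x6 (α (β a))) := fun a => by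
    have : c.e (x4 a) = s * c.e (x6 (β a)) * s⁻¹ := by rw [← hβ]; group
    rw [map_mul, ← hα, this, conj_conj_conj, conj_mul, ← map_inv, ← map_mul, ← map_mul, ← map_mul]
    congr 3; clear * -; vp
  have n0 : ∀ a, α (β a) = 0 → a = 0 := fun a e => by
    have e1 : β a = 0 := i4 _ _ (by rw [← conj_left_inj s, hα, e]; simp [show x4 (0 : K) = 1 from rfl, show x6 (0 : K) = 1 from rfl])
    exact i4 _ _ (by rw [← conj_left_inj s⁻¹, hβ, e1]; simp [show x4 (0 : K) = 1 from rfl, show x6 (0 : K) = 1 from rfl])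
  have uP : u ∈ c.P := mul_mem (mul_mem h1 (c.B_le_P (hx 1))) (inv_mem h1)
  obtain ⟨t, ht⟩ := hm.dec h1 h2 uP fun h => one_ne_zero (n0 1 (by
    have := c.mem_map.1 (u4 1 ▸ conj_mem_of_norm (c.B_Z h) ⟨_, x4_mem 1, rfl⟩)
    revert this; vs; exact id))
  have k : ∀ a, a = t * α (β a) := fun a => by
    obtain ⟨z, hz, e⟩ := conj_mem_of_norm' (c.B_Z ht) ⟨_, x4_mem a, rfl⟩
    have : c.e (x4 a * x6 (α (β a))) = c.e (x1 t * x6 (α z.c4) * (x1 t)⁻¹) := by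
      rw [← u4, map_mul, map_mul, ← hα, ← eq_x4 hz, e, map_inv]; group
    have := c.inj this
    clear * - this
    vs at this; grind
  have t0 : t ≠ 0 := fun e => one_ne_zero ((k 1).trans (by rw [e, zero_mul]))
  have uA : c.Act u fun p => (p.1, p.2 + (Units.mk0 t t0)⁻¹ * p.1) := fun p => by
    rw [zz, map_mul, ← conj_mul, u4, u6, ← map_mul, zz, show α (β p.1) = t⁻¹ * p.1 by
      rw [eq_inv_mul_iff_mul_eq₀ t0, ← k]]
    congr 1; simp only [Units.val_inv_eq_inv_val, Units.val_mk0]; clear * -; vp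
  refine ⟨H, hD, he, u, uP, .mk0 t t0, uA, fun m => ?_⟩
  obtain ⟨l, e⟩ := H_norm hD he h1 h2 h3 h4 (1, m)
  have hA : c.Act (H (1, m)) fun p => (w4 (1, m) * p.1, w4 (1, m) * p.2) := fun p => by
    rw [he]; congr 1; simp only [zz, w4]; vs; simp
  have h5 := conj_mem_of_norm' (c.P_R h1) ((uA.mul hA).mem (hA.mul uA) fun p => by simp; ring)
  have h6 : s⁻¹ * ((u * H (1, m))⁻¹ * (H (1, m) * u)) * s = c.e (tor l⁻¹ ((x1 1)⁻¹ * tor l (x1 1))) := by
    rw [← he, map_mul c.e, ← he, map_inv, map_inv, ← e, hu]; group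
  have h7 : tor l (x1 1) = x1 1 := by
    have := aut_R (tor l) (c.mem_map.1 (h6 ▸ h5))
    rw [← MulAut.mul_apply, ← map_mul, mul_inv_cancel, map_one, MulAut.one_apply] at this
    clear * - this; vs at *; grind
  rw [h7, inv_mul_cancel, map_one, map_one, mul_assoc, inv_mul_eq_one, right_eq_mul, inv_mul_eq_one] at h6
  exact h6

theorem exists_HS (hm : c.Main) {a : K} (a0 : a ≠ 0) (a1 : a ≠ 1) : Nonempty c.HS := by
  obtain ⟨H, hD, he, u, uP, t, uA, uc⟩ := c.exists_u hm a0 a1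
  set E := 𝐂[H (1, .mk0 a a0)]
  have hA : ∀ l, c.Act (H l) fun p => (w4 l * p.1, w6 l * p.2) := fun l p => by
    rw [he]; congr 1; simp only [zz, w4, w6]; vs; simp
  have key : ∀ {g g' f f'}, c.Act g f → c.Act g' f' → (∀ p, f p = f' p) → g ∈ E → g' ∈ E → g = g' :=
    fun h h' e hg hg' => by
      obtain ⟨v, hv, e'⟩ := h.mem h' e
      have := mem_cent1.1 (mul_mem (inv_mem hg) hg')
      rw [← e', eq_comm, ← mul_inv_eq_iff_eq_mul, he] at this
      rw [← inv_mul_eq_one, ← e', fixR (fun e => a1 (congrArg Units.val e)) hv (c.inj this), map_one]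
  have HE : ∀ l, H l ∈ E := fun l => mem_cent1.2 (by rw [← map_mul, mul_comm, map_mul])
  have xE : c.e (x1 1) ∈ E := mem_cent1.2 (by
    rw [eq_comm, ← mul_inv_eq_iff_eq_mul, he]; congr 1; vs; simp)
  have xP : c.e (x1 1) ∈ c.P := c.B_le_P (le_norm _ ⟨_, rfl⟩)
  have HP : ∀ l, H l ∈ c.P := fun l => c.B_le_P (c.D_le (hD l))
  obtain ⟨s, sP, sE, sA⟩ : ∃ s ∈ c.P, s ∈ E ∧ c.Act s fun p => (p.2, p.1) := by
    refine ⟨c.e (x1 1) * (H (t⁻¹, 1) * u * H (t, 1)) * c.e (x1 1),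
      mul_mem (mul_mem xP (mul_mem (mul_mem (HP _) uP) (HP _))) xP,
      mul_mem (mul_mem xE (mul_mem (mul_mem (HE _) (mem_cent1.2 (uc _))) (HE _))) xE, fun p => ?_⟩
    rw [((c.act_x1 1).mul (((hA _).mul uA).mul (hA _))).mul (c.act_x1 1) p]
    have h1 := t.ne_zero
    have h2 := mt σ_eq_zero.1 h1
    congr 2
    simp [w4, w6]
    constructor <;> field_simp <;> grind
  have ss : s * s = 1 := key (sA.mul sA) (f' := id) (fun p => by simp) (fun _ => rfl) (mul_mem sE sE) (one_mem _)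
  have sh : ∀ l, s * H l * s⁻¹ = H (ws l) := fun l => mul_inv_eq_iff_eq_mul.2 (key (sA.mul (hA l)) ((hA _).mul sA)
    (fun p => by
      have h1 := l.1.ne_zero
      have h2 := mt σ_eq_zero.1 h1
      simp [w4, w6, ws]
      constructor <;> left <;> field_simp) (mul_mem sE (HE _)) (mul_mem (HE _) sE))
  refine ⟨⟨H, s, hD, he, ss, fun v hv => ?_, sh, key ((sA.mul (c.act_x1 1)).mul sA)
    (((c.act_x1 1).mul sA).mul (c.act_x1 1)) (fun p => by simp; grind) (mul_mem (mul_mem sE xE) sE)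
    (mul_mem (mul_mem xE sE) xE)⟩⟩
  have : ∀ v, ∃ w, v ∈ R → w ∈ R ∧ s * c.e v * s⁻¹ = c.e w := fun v => by
    by_cases h : v ∈ R
    · obtain ⟨w, hw, e⟩ := conj_mem_of_norm (c.P_R sP) ⟨v, h, rfl⟩
      exact ⟨w, fun _ => ⟨hw, e.symm⟩⟩
    · exact ⟨1, fun h' => absurd h' h⟩
  choose θ hθ using this
  have := ident (β := fun v => ρs (θ v)) a0 a1 (fun _ _ => by vs) (fun v hv w hw => by
      rw [← ρs_mul (hθ v hv).1 (hθ w hw).1]
      congr 1
      exact c.inj (by rw [← (hθ _ (mul_mem hv hw)).2, map_mul, map_mul, ← (hθ v hv).2, ← (hθ w hw).2, conj_mul]))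
    (fun l v hv => by
      have : θ (tor l v) = tor (ws l) (θ v) := c.inj (by
        rw [← (hθ _ (aut_R _ hv)).2, ← he, ← he, ← (hθ v hv).2, ← sh, conj_conj_conj])
      rw [this, ρs_tor, show ws (ws l) = l by simp [ws]])
    (fun t => by
      have := sA (t, 0)
      rw [show zz (t, 0) = x4 t by simp only [zz]; vs, (hθ _ (by vs)).2] at this
      rw [c.inj this]; simp only [zz]; vs)
    (fun t => by
      have := sA (0, t)
      rw [show zz (0, t) = x6 t by simp only [zz]; vs, (hθ _ (by vs)).2] at this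
      rw [c.inj this]; simp only [zz]; vs) hv
  rw [(hθ v hv).2, ← ρs_ρs (hθ v hv).1, this]

end GD

end Cfsg.Lib.RF4
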