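import Cfsg.Agent.Lib.RF4.Std2
import Cfsg.Agent.Lib.Twisted.AutF4

/-!
The large Ree groups are generated by a root datum of octagon type.
-/

set_option autoImplicit false
set_option maxRecDepth 100000

namespace Cfsg.Lib.RF4

open Cfsg.Lie Cfsg.Lib.Chev Cfsg.Lib.Chev.ChevSys Cfsg.Lib.Twisted Cfsg.Lib.Twisted.Twist Cfsg.Lib.BN V Subgroup

variable {K : Type*} [Field K] [Tw K]

/-- The normal form of the rank one relation. -/
theorem sz_of {G : Type*} [Group G] {e : V K →* G} {h : Kˣ × Kˣ →* G} {r : G} (inj : Function.Injective e)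
    (he : ∀ l v, h l * e v * (h l)⁻¹ = e (tor l v)) (rr : r * r = 1) (re : ∀ v ∈ Q, r * e v * r⁻¹ = e (ρr v))
    (rh : ∀ l, r * h l * r⁻¹ = h (wr l)) {x v w : V K} {l l' : Kˣ × Kˣ}
    (H : r * e x * r = e v * h l * r * (h l' * e w)) :
    ∃ y : V K × T4 K × V K, y.2.2 ∈ U8 ∧ r * e x * r = e y.1 * h y.2.1 * r * e y.2.2 := by
  have h1 : r * e x * r = e (v * tor (l * wr l') (ρr (w * (y8 w.b8 * x8 w.c8)⁻¹))) * h (l * wr l') * r *
      e (y8 w.b8 * x8 w.c8) := by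
    rw [H, map_mul e v, ← he, ← re _ (dec_Q w), map_mul h, ← rh, map_mul e w, map_inv]
    group
  have c1 : ∀ v, e v * e (x4 1) * (e v)⁻¹ = e (x4 1) := fun v => by
    rw [← map_mul, Z_comm (x4_mem 1), map_mul, mul_inv_cancel_right]
  have c2 : r * e (x4 1) * r⁻¹ = e (x4 1) := by rw [re _ (by vs), ρr_x4]
  have c3 : ∀ a b : G, a * e (x4 1) * a⁻¹ = e (x4 1) → b * e (x4 1) * b⁻¹ = e (x4 1) →
      a * b * e (x4 1) * (a * b)⁻¹ = e (x4 1) := fun a b ha hb => by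
    rw [show a * b * e (x4 1) * (a * b)⁻¹ = a * (b * e (x4 1) * b⁻¹) * a⁻¹ by group, hb, ha]
  have c4 := c3 _ _ (c3 _ _ c2 (c1 x)) c2
  rw [h1] at c4
  generalize v * tor (l * wr l') (ρr (w * (y8 w.b8 * x8 w.c8)⁻¹)) = v' at h1 c4
  refine ⟨(v', ⟨l * wr l', (T4_x4 one_ne_zero).1 (inj ?_)⟩, _), mem_U8' _ _, h1⟩
  have c5 := c3 _ _ (c3 _ _ (map_inv e v' ▸ c1 v'⁻¹) c4) (c3 _ _ (map_inv e _ ▸ c1 (y8 w.b8 * x8 w.c8)⁻¹) c2)
  rw [← he, ← c5]
  congr 2 <;> simp [mul_assoc, rr]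

variable {m : ℕ} {S : Twist (CF4 K) symF4} {φ : K →+* K} (h : Twisted.IsF4 m S φ σ)

omit h in
theorem rrF : nW K [1, 2, 1, 2] * nW K [1, 2, 1, 2] = 1 :=
  (nW_append _ _).symm.trans (nW_eq (l' := []) (by decide +kernel))

omit h in
theorem rhF (l : Kˣ × Kˣ) : nW K [1, 2, 1, 2] * hF l * (nW K [1, 2, 1, 2])⁻¹ = hF (wr l) := by
  refine nW_h _ (by decide +kernel) (o := ![37, 20, 22, 32]) (by decide +kernel) fun j => ?_
  have : ∀ j : Fin 4, ∀ i : Fin 4, aN chevF4 certF4 (![37, 20, 22, 32] j : Fin 48) i =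
    ![![1, 2, 1, 0], ![0, -1, 0, 0], ![0, 0, -1, 0], ![0, 2, 2, 1]] j i := by decide +kernel
  rw [chr_cF']
  erw [this j 0, this j 1, this j 2, this j 3]
  fin_cases j <;> simp [wr, σuσu, zpow_ofNat, mul_comm, mul_left_comm]

omit h in
theorem shF (l : Kˣ × Kˣ) : nW K [0, 3] * hF l * (nW K [0, 3])⁻¹ = hF (ws l) := by
  refine nW_h _ (by decide +kernel) (o := ![14, 34, 26, 23]) (by decide +kernel) fun j => ?_
  have : ∀ j : Fin 4, ∀ i : Fin 4, aN chevF4 certF4 (![14, 34, 26, 23] j : Fin 48) i =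
    ![![-1, 0, 0, 0], ![1, 1, 0, 0], ![0, 0, 1, 1], ![0, 0, 0, -1]] j i := by decide +kernel
  rw [chr_cF']
  erw [this j 0, this j 1, this j 2, this j 3]
  fin_cases j <;> simp [ws, mul_comm]

include h

theorem BF {g : chevF4.group K} (h1 : g ∈ (CF4 K).B) (h2 : g ∈ KF4 K (2 ^ m)) : ∃ v l, g = eF v * hF l := by
  obtain ⟨u, hu, k, hk, rfl⟩ := h.isTw.mem_B_iff.1 ⟨h1, h2⟩
  obtain ⟨v, rfl⟩ := (e_range h).ge hu
  obtain ⟨l, rfl⟩ := (h_range h).ge hk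
  exact ⟨v, l, rfl⟩

theorem nkF (k : Fin 2) : ∃ l, (h.isTw.nk k : chevF4.group K) = nW K (keysF4.ws k) * hF l := by
  have h1 := h.isTw.nw_nk k
  rw [keysF4.s_eq] at h1
  obtain ⟨l, hl⟩ := (h_range h).ge ⟨((CF4 K).nw_wp _).cong h1, (KF4 K _).mul_mem (inv_mem (nW_mem h (l := keysF4.ws k)
    (by clear h1; revert k; decide +kernel))) (h.isTw.nk k).2⟩
  exact ⟨l, by rw [hl]; exact (mul_inv_cancel_left _ _).symm⟩

theorem szF {x : V K} (hx : x ∈ U8) (x1 : x ≠ 1) : ∃ y : V K × T4 K × V K, y.2.2 ∈ U8 ∧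
    nW K [1, 2, 1, 2] * eF x * nW K [1, 2, 1, 2] = eF y.1 * hF y.2.1 * nW K [1, 2, 1, 2] * eF y.2.2 := by
  obtain ⟨l, hl⟩ := nkF h 1
  change _ = nW K [1, 2, 1, 2] * _ at hl
  have r := nW_mem h (l := [1, 2, 1, 2]) (by decide +kernel)
  have hb : (hF l)⁻¹ * eF x ∈ (CF4 K).B ⊓ KF4 K (2 ^ m) := mul_mem (inv_mem (inf_le_inf_right _ (CF4 K).H_le_B
    ((h_range h).le ⟨l, rfl⟩))) (inf_le_inf_right _ (CF4 K).U_le_B ((e_range h).le ⟨x, rfl⟩))
  have := h.isTw.bn.mul_mem_union _ ⟨1, rfl⟩ ⟨_, r⟩ (mem_sub.2 ((CF4 K).wp_mem_N _)) ⟨_, hb.2⟩ (mem_sub.2 hb.1)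
  rcases this with H | H <;> obtain ⟨a, ha, b, hb, e⟩ := DoubleCoset.mem_doubleCoset.1 H <;>
    obtain ⟨v, l1, e1⟩ := BF h (mem_sub.1 ha) a.2 <;> have e := congrArg Subtype.val e <;>
    simp only [coe_mul, hl, e1, mul_assoc, mul_inv_cancel_left] at e
  · obtain ⟨w, l2, e2⟩ := BF h (mem_sub.1 hb) b.2
    refine absurd (not_rB eF_inj (fun _ => nW_r) (v := v * tor (l1 * wr l) w) (b := hF (l1 * wr l * l2)) hx
      (hF_e _) ?_) x1
    rw [inv_eq_of_mul_eq_one_left rrF, mul_assoc, e, e2, map_mul eF, ← hF_e, map_mul hF (_ * _), mul_assoc,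
      mul_assoc _ (_)⁻¹, inv_mul_cancel_left, map_mul hF, ← rhF, inv_eq_of_mul_eq_one_left rrF]
    simp only [mul_assoc]
  · obtain ⟨w, l2, e2⟩ := BF h (mem_sub.1 (inv_mem hb)) b⁻¹.2
    refine sz_of eF_inj hF_e rrF (fun _ => nW_r) rhF (v := v) (w := w⁻¹) (l := l1) (l' := l2⁻¹) ?_
    rw [mul_assoc, e, map_inv, map_inv, ← mul_inv_rev, ← e2]
    simp [mul_assoc]

/-- The standard datum. -/
noncomputable def fullF : Full K (chevF4.group K) where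
  e := eF
  h := hF
  r := nW K [1, 2, 1, 2]
  s := nW K [0, 3]
  f x := open Classical in if hx : x ∈ U8 ∧ x ≠ 1 then (szF h hx.1 hx.2).choose else 1
  inj := eF_inj
  he := hF_e
  rr := rrF
  ss := (nW_append _ _).symm.trans (nW_eq (l' := []) (by decide +kernel))
  re _ := nW_r
  se _ := nW_s
  rh := rhF
  sh := shF
  s3 := s3F
  sz x h1 h2 := by
    rw [dif_pos ⟨h1, h2⟩]
    exact (szF h h1 h2).choose_spec
  braid := by
    simp only [pow_succ, pow_zero, one_mul, ← nW_append]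
    exact nW_eq (by decide +kernel)

theorem gen_fullF : (fullF h).gen = KF4 K (2 ^ m) := by
  have k : ∀ k, (h.isTw.nk k : chevF4.group K) ∈ (fullF h).gen := fun k => by
    obtain ⟨l, hl⟩ := nkF h k
    rw [hl]
    refine mul_mem ?_ ((fullF h).h_mem l)
    fin_cases k
    exacts [(fullF h).s_mem, (fullF h).r_mem]
  refine le_antisymm ((fullF h).gen_le (e_mem h) (fun l => ((h_range h).le ⟨l, rfl⟩).2)
    (nW_mem h (by decide +kernel)) (nW_mem h (by decide +kernel))) fun g hg => ?_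
  obtain ⟨w, hw, u, hu, n, hn, h1, v, hv, rfl⟩ := h.isTw.bruhat hg
  obtain ⟨u, rfl⟩ := (e_range h).ge hu
  obtain ⟨v, rfl⟩ := (e_range h).ge ⟨(CF4 K).Uw_le_U _ hv.1, hv.2⟩
  obtain ⟨L, rfl⟩ := Sym.exists_wp1 hw
  obtain ⟨l, hl⟩ := (h_range h).ge ⟨(h.isTw.nw_wp_nk L).cong h1, (KF4 K _).mul_mem (inv_mem (wp h.isTw.nk L).2) hn⟩
  refine mul_mem (mul_mem ((fullF h).e_mem u) ?_) ((fullF h).e_mem v)
  rw [show n = (wp h.isTw.nk L : KF4 K (2 ^ m)) * hF l by rw [hl, mul_inv_cancel_left]]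
  refine mul_mem ?_ ((fullF h).h_mem l)
  clear hl h1 hv hw hg
  induction L with
  | nil => exact one_mem _
  | cons i L ih => exact mul_mem (k i) ih

end Cfsg.Lib.RF4
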