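import Cfsg.Agent.Lib.RF4.Stdz
import Cfsg.Agent.Lib.RF4.Std3

/-!
Reduction of the hypothesis on the centraliser to coordinates.
-/

set_option autoImplicit false

namespace Cfsg.Lib.RF4

open V Subgroup Cfsg.Lib.BG Cfsg.Lib.Transfer Cfsg.Lib.GW Cfsg.Lie Cfsg.Lib.Twisted

theorem exists_full {K : Type*} [Field K] [Fintype K] {m : ℕ} (hK : Fintype.card K = 2 ^ (2 * m + 1)) :
    ∃ _ : Tw K, ∃ F : Full K (twistedF4 K (2 ^ m)), F.gen = ⊤ ∧ Odd F.e.range.index ∧
      (1 ≤ m → IsSimpleGroup (twistedF4 K (2 ^ m))) := by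
  obtain ⟨S, φ, ψ, h⟩ := exists_isF4 hK
  letI : Tw K := ⟨ψ, h.two, fun t => by rw [h.ψ_eq (ψ t), h.φψ]⟩
  have hle : twistedF4 K (2 ^ m) ≤ chevF4.group K := map_KF4 (K := K) ▸ map_subtype_le _
  have hr : KF4 K (2 ^ m) = (inclusion hle).range := by
    rw [inclusion_range, ← map_KF4, subgroupOf, comap_map_eq_self_of_injective (subtype_injective _)]
  obtain ⟨F, hF⟩ := (fullF h).pull (inclusion_injective hle) ((gen_fullF h).trans hr)
  have e := (MulEquiv.subgroupCongr hr).trans (MonoidHom.ofInjective (inclusion_injective hle)).symm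
  have := h.finite
  refine ⟨inferInstance, F, hF, ?_, fun hm => have := (h.simple hm).1; e.symm.isSimpleGroup⟩
  have h1 := F.e.range.card_mul_index
  rw [← Nat.card_congr (MonoidHom.ofInjective F.inj).toEquiv, card_V, h.card, ← Nat.card_congr e.toEquiv, h.cardK,
    mul_assoc, mul_assoc, mul_assoc, Nat.mul_right_inj (by positivity)] at h1
  have h2 : ∀ k, Even ((2 ^ (2 * m + 1)) ^ (k + 1)) := fun k => by simp [Nat.even_pow]
  rw [h1]
  refine (Nat.Even.sub_odd Nat.one_le_two_pow (by simpa using h2 0) odd_one).mul ((h2 2).add_one.mul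
    ((Nat.Even.sub_odd (Nat.one_le_pow _ _ (by positivity)) (h2 3) odd_one).mul (h2 5).add_one))

theorem Full.reduce {K : Type*} [Field K] [Finite K] [Tw K] {Γ : Type*} [Group Γ] [Finite Γ] (F : Full K Γ)
    (hF : F.gen = ⊤) (ho : Odd F.e.range.index) {G : Type*} [Group G] [Finite G] {τ : G} (hτ : orderOf τ = 2)
    {S : Sylow 2 G} (hτc : ∀ s ∈ (S : Subgroup G), s * τ = τ * s) {U : Sylow 2 Γ} {z : Γ} (hz : orderOf z = 2)
    (hzU : z ∈ (U : Subgroup Γ)) (hzc : ∀ u ∈ (U : Subgroup Γ), u * z = z * u) {C : Subgroup G} (hC : C ≤ 𝐂[τ])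
    (hn : (C.subgroupOf 𝐂[τ]).Normal) (hi : Odd (C.relIndex 𝐂[τ])) (e : C ≃* 𝐂[z]) (hO : oddCore 𝐂[τ] = ⊥) :
    ∃ d : GD K G, d.C = C ∧ d.τ = τ ∧ d.f = F.f := by
  obtain ⟨g, hg⟩ := exists_conj_le_of_not_dvd_index ho.not_two_dvd_nat U.isPGroup'
  have h1 : g ⋆ (U : Subgroup Γ) = F.e.range := eq_of_not_dvd_relIndex_of_le (H := ⊤) (by
    rw [relIndex_top_right, index_conj]; exact U.not_dvd_index)
    (pgV.of_surjective _ (MonoidHom.rangeRestrict_surjective _)) le_top hg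
  obtain ⟨v, hv⟩ := hg (conj_mem_conj.2 hzU)
  have h2 : v ∈ Z := Z_of fun w => F.inj (by
    have := hzc _ (mem_conj.1 (h1.ge ⟨w, rfl⟩))
    rw [map_mul, map_mul, hv]
    calc _ = g * (z * (g⁻¹ * F.e w * g)) * g⁻¹ := by group
      _ = _ := by rw [← this]; group)
  have h3 : v.c4 ≠ 0 := fun h => by
    rw [eq_x4 h2, h, show x4 (0 : K) = 1 from rfl, map_one, eq_comm, conj_eq_one_iff] at hv
    simp [hv] at hz
  have e' : 𝐂[F.e (x4 v.c4)] ≃* C :=
    (e.trans ((conjEquiv g _).trans (MulEquiv.subgroupCongr (by rw [conj_cent1, ← eq_x4 h2, hv])))).symm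
  refine exists_GD ((F.cd hF h3).map e') hτ hC ((normal_subgroupOf_iff_le_normalizer hC).1 hn) hi
    (Nat.not_even_iff_odd.1 (mt even_iff_two_dvd.1 (not_dvd_index_of_sylow_le S fun s hs => mem_cent1.2 (hτc s hs))))
    ?_ ?_
  · change Odd (e'.toMonoidHom.comp (F.cd hF h3).e).range.index
    rw [← MonoidHom.map_range, index_map_of_bijective e'.bijective]
    refine ho.of_dvd_nat ?_
    rw [show F.e.range = (F.cd hF h3).e.range.map (Subgroup.subtype _) from
      (MonoidHom.map_range (Subgroup.subtype _) (F.cd hF h3).e).symm,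
      index_map_subtype]
    exact dvd_mul_right _ _
  · rw [Od, pcore_p'_eq, show pPrimeCore 2 _ = ⊥ from hO, Subgroup.map_bot]

end Cfsg.Lib.RF4
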