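import Cfsg.Agent.Lib.RF4.Two
import Cfsg.Agent.Lib.RF4.Ident
import Cfsg.Agent.Lib.Inv.SylowTwo

/-!
The field with two elements: the second reflection.
-/

set_option autoImplicit false
set_option synthInstance.maxSize 100000
set_option synthInstance.maxHeartbeats 400000

namespace Cfsg.Lib.RF4

open V Subgroup Cfsg.Lib.BG Cfsg.Lib.Transfer Cfsg.Lib.GW

variable {K : Type*} [Field K] [Tw K]

/-- An outer automorphism. -/
def α3 (v : V K) : V K := ⟨v.a1, v.b2, v.b2 + v.c2, v.a3 + v.b4, v.b4, v.a3 + v.c4 + v.a5, v.b4 + v.a5, v.b6 + v.b8,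
  v.b6 + v.c6 + v.b6 * v.b8 + v.c8, v.a7 + v.b8 + v.c8, v.b8, v.c8⟩

instance reα3 {N : ℕ} {i : Fin N} {x : V K} {a : CV} [h : RE i x a] : RE i (α3 x) fun k => a fun v => frcV
    ⟨v.a1, v.b2, v.b2 ^^^ v.c2, v.a3 ^^^ v.b4, v.b4, v.a3 ^^^ v.c4 ^^^ v.a5, v.b4 ^^^ v.a5, v.b6 ^^^ v.b8,
      v.b6 ^^^ v.c6 ^^^ v.b6 &&& v.b8 ^^^ v.c8, v.a7 ^^^ v.b8 ^^^ v.c8, v.b8, v.c8⟩ k := by
  obtain ⟨u, e, rfl⟩ := h
  exact ⟨⟨_, fun _ => by rw [e, frcV_eq], by simp only [α3, ev, bt_xor, bt_and]⟩⟩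

/-- Central automorphisms. -/
abbrev κ (a j : K) (v : V K) : V K := v * x4 (j * (v.b2 + v.b4 + v.b6) + a * v.b8)

/-- Multiplicativity on the generators. -/
abbrev GenM (f : V K → V K) (v : V K) (t : K) : Prop := f (v * x1 t) = f v * f (x1 t) ∧ f (v * y2 t) = f v * f (y2 t) ∧
    f (v * x2 t) = f v * f (x2 t) ∧ f (v * x3 t) = f v * f (x3 t) ∧ f (v * y4 t) = f v * f (y4 t) ∧
    f (v * x4 t) = f v * f (x4 t) ∧ f (v * x5 t) = f v * f (x5 t) ∧ f (v * y6 t) = f v * f (y6 t) ∧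
    f (v * x6 t) = f v * f (x6 t) ∧ f (v * x7 t) = f v * f (x7 t) ∧ f (v * y8 t) = f v * f (y8 t) ∧
    f (v * x8 t) = f v * f (x8 t)

theorem mul_of_gen {f : V K → V K} (h : ∀ v t, GenM f v t) (v w : V K) : f (v * w) = f v * f w := by
  have : w = x1 w.a1 * y2 w.b2 * x2 w.c2 * x3 w.a3 * y4 w.b4 * x4 w.c4 * x5 w.a5 * y6 w.b6 * x6 w.c6 * x7 w.a7 *
    y8 w.b8 * x8 w.c8 := by vs
  rw [this]
  simp only [← mul_assoc, h]

variable [Q2 K]

/-- An automorphism of order two. -/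
def inv2 (f : V K → V K) (h1 : ∀ v, f (f v) = v) (h2 : ∀ v w, f (v * w) = f v * f w) : MulAut (V K) :=
  ⟨⟨f, f, h1, h1⟩, h2⟩

/-- An outer automorphism. -/
def aut3 : MulAut (V K) := inv2 α3 (chk1 (by decide +kernel))
  (mul_of_gen fun v t => chk3 (p := fun v t _ _ => GenM α3 v t) (by decide +kernel) v t 0 0)

/-- Central automorphisms. -/
def autκ (a j : K) : MulAut (V K) := inv2 (κ a j) (fun v => chk3 (p := fun v a j _ => κ a j (κ a j v) = v)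
  (by decide +kernel) v a j 0) (mul_of_gen fun v t => chk3 (p := fun v t a j => GenM (κ a j) v t)
    (by decide +kernel) v t a j)

variable (K) in
/-- The hypothesis together with the second reflection. -/
structure A2 (G : Type*) [Group G] extends G2 K G where
  s : G
  ss : s * s = 1
  se : ∀ v ∈ R, s * e v * s⁻¹ = e (ρs v)
  s3 : s * e (x1 1) * s = e (x1 1) * s * e (x1 1)

theorem Z3_of_R : ∀ v : V K, v ∈ R → cm v (y2 1) ∈ Z2 → cm v (y4 1) ∈ Z2 → cm v (y8 1) ∈ Z2 → v ∈ Z3 :=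
  chk1 (by decide +kernel)

theorem b_form : ∀ b : V K, b ∈ R → b.b2 = 0 → b.b8 = 1 → b.b4 = b.b6 → b * b * (b * b) = 1 →
    let c := x1 1 * b * (x1 1)⁻¹
    let p := y2 1 * c * (y2 1 * c) * (y2 1 * c * (y2 1 * c))
    let q := cm (cm b (y2 1 * c)) c
    let v := y2 b.b4 * x2 b.a3 * x3 (b.a3 + b.b4 + b.a5) * x5 (b.a3 + b.b4 + b.c6)
    (p ∈ R ∧ ρs p ∈ Z2 ∧ q ∈ R ∧ ρs q ∈ Z2) ∧ (b * c * (b * c) * (b * c * (b * c)) = ρs p → cm (cm (y2 1) (b * c)) c = ρs q →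
      v * κ (b.a3 + b.c4 + b.a5 + b.b4 * b.a5) (b.a3 + b.b4 + b.c6) (y2 1) * v⁻¹ = y2 1 ∧
      v * κ (b.a3 + b.c4 + b.a5 + b.b4 * b.a5) (b.a3 + b.b4 + b.c6) (y8 1) * v⁻¹ = b ∧ v ∈ R ∧ v * x1 1 = x1 1 * v) := by
  intro b
  dsimp only
  revert b
  exact chk1 (by decide +kernel)

namespace G2

variable {G : Type*} [Group G] [Finite G] (c : G2 K G)

/-- A candidate for the second reflection. -/
structure Pre (s : G) : Prop where
  P : s ∈ c.P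
  ss : s * s = 1
  s3 : s * c.e (x1 1) * s = c.e (x1 1) * s * c.e (x1 1)
  s4 : s * c.e (x4 1) * s⁻¹ = c.e (x6 1)

variable {c}

theorem cube (hm : c.Main) {g : G} (hg : g ∈ c.P) (ho : Odd (orderOf g)) : g ^ 3 = 1 := by
  obtain ⟨n, hn, h⟩ := hm.ex
  have k : ∀ i, g ^ i ∈ 𝐍(c.S) → g ^ i = 1 := fun i h => mem_bot.1 ((disjoint_of_coprime (cop_two c.pS
    (odd_zpowers ho))).le ⟨c.NS h, pow_mem (mem_zpowers g) i⟩)
  by_contra h3
  have k1 : g ∉ 𝐍(c.S) := fun e => h3 (k 3 (pow_mem e 3))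
  have k2 : g ^ 2 ∉ 𝐍(c.S) := fun e => h3 (by
    rw [orderOf_eq_one_iff.1 ((Nat.coprime_two_right.2 ho).eq_one_of_dvd (orderOf_dvd_of_pow_eq_one (k 2 e))), one_pow])
  obtain ⟨a, ha⟩ := hm.dec hn h hg k1
  obtain ⟨b, hb⟩ := hm.dec hn h (pow_mem hg 2) k2
  obtain ⟨d, hd⟩ := hm.dec hn h (pow_mem hg 3) (mt (k 3) h3)
  obtain rfl | rfl | rfl : a = b ∨ a = d ∨ b = d := by
    rcases Q2.h a with rfl | rfl <;> rcases Q2.h b with rfl | rfl <;> rcases Q2.h d with rfl | rfl <;> simp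
  · exact k1 (by convert mul_mem ha (inv_mem hb) using 1; group)
  · exact k2 (by convert mul_mem ha (inv_mem hd) using 1; group)
  · exact k1 (by convert mul_mem hb (inv_mem hd) using 1; group)

theorem exists_pre (hm : c.Main) : ∃ s, c.Pre s := by
  obtain ⟨n, hn, h⟩ := hm.ex
  have xP : c.e (x1 1) ∈ c.P := c.B_le_P (le_norm _ ⟨_, rfl⟩)
  have xx : c.e (x1 1) * c.e (x1 1) = 1 := by rw [← map_mul, ← map_one c.e]; congr 1; exact chk0 (by decide +kernel)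
  have xi := inv_eq_of_mul_eq_one_left xx
  obtain ⟨x, hx, x1', ho, e⟩ := Inv.exists_odd_inverted_of_not_mem_pCore_map xP xx fun e => h (by
    rw [← pcore_p_eq] at e
    have : c.S = 𝐎({2}, c.P) := Syl.eq_of_le_pgroup (c.syl.of_le ((le_norm _).trans c.B_le_P) le_top) (by
      rintro _ ⟨v, rfl⟩
      have := mul_mem (pcore_max_p (pgroup_of_le c.pS (c.map_le R)) ⟨(c.map_le R).trans ((le_norm _).trans c.B_le_P),
        c.P_R⟩ ⟨_, dec_R v, rfl⟩) (show c.e (x1 v.a1) ∈ _ by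
          rcases Q2.h v.a1 with e' | e' <;> rw [e']
          exacts [(map_one c.e).symm ▸ one_mem _, e])
      simpa using this) (pcore_nml _ _).le (pcore_pgroup 2 _)
    rw [this]; exact (pcore_nml _ _).norm hn)
  have k : ∀ x ∈ c.P, x ^ 3 = 1 → c.e (x1 1) * x * (c.e (x1 1))⁻¹ = x⁻¹ →
      c.e (x1 1) * x * c.e (x4 1) * (c.e (x1 1) * x)⁻¹ = c.e (x6 1) → ∃ s, c.Pre s := fun x hx h3 e e' => by
    refine ⟨_, mul_mem xP hx, ?_, ?_, e'⟩
    · rw [xi] at e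
      rw [← mul_assoc, e, inv_mul_cancel]
    · calc _ = c.e (x1 1) * x * (c.e (x1 1) * c.e (x1 1)) * x := by group
        _ = c.e (x1 1) * x ^ 3 * x⁻¹ := by rw [xx]; simp [pow_succ, mul_assoc]
        _ = _ := by rw [h3, ← e, xi]; group
  have h3 := cube hm hx ho
  obtain ⟨y, hy, e'⟩ := c.P_act (mul_mem xP hx) (Z_le_Z2 (x4_mem 1))
  rcases Z2_cases y hy fun hz => c.nB_τ (mul_mem xP hx) (fun hb => x1' (mem_bot.1 ((disjoint_of_coprime (cop_two c.pS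
    (odd_zpowers ho))).le ⟨(c.S.mul_mem_cancel_left ⟨_, rfl⟩).1 (c.NS hb), mem_zpowers x⟩))) ⟨y, hz, by rw [c.τ1, e']⟩
    with rfl | rfl
  · exact k x hx h3 e e'
  · refine k x⁻¹ (inv_mem hx) (by rw [inv_pow, h3, inv_one]) (by rw [← conj_inv, e]) ?_
    rw [map_mul, map_mul, map_inv] at e'
    calc _ = (c.e (x1 1))⁻¹ * (c.e (x1 1) * (c.e (x1 1) * x⁻¹ * (c.e (x1 1))⁻¹) * (c.e (x1 1) * c.e (x4 1) *
          (c.e (x1 1))⁻¹) * (c.e (x1 1) * (c.e (x1 1) * x⁻¹ * (c.e (x1 1))⁻¹))⁻¹) * c.e (x1 1) := by group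
      _ = _ := by rw [← conj_inv, e, inv_inv, c.C_conj (x4_mem _) (c.e_mem _), e']; group

namespace Pre

variable {s : G} (h : c.Pre s)
include h

theorem s_inv : s⁻¹ = s := inv_eq_of_mul_eq_one_left h.ss

theorem sw {v w : V K} (e : s * c.e v * s⁻¹ = c.e w) : s * c.e w * s⁻¹ = c.e v := by
  rw [← e, h.s_inv, ← mul_assoc, ← mul_assoc, h.ss, one_mul, mul_assoc, h.ss, mul_one]

theorem fix {a b : V K} (ha : a * x1 1 = x1 1 * a) (e : s * c.e a * s⁻¹ = c.e b) :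
    s * c.e (x1 1 * b * (x1 1)⁻¹) * s⁻¹ = c.e (x1 1 * b * (x1 1)⁻¹) := by
  have h1 : c.e a * c.e (x1 1) = c.e (x1 1) * c.e a := by rw [← map_mul, ha, map_mul]
  rw [map_mul, map_mul, map_inv, ← e]
  calc _ = s * c.e (x1 1) * s * c.e a * (s * c.e (x1 1) * s)⁻¹ := by group
    _ = c.e (x1 1) * s * (c.e (x1 1) * c.e a * (c.e (x1 1))⁻¹) * s⁻¹ * (c.e (x1 1))⁻¹ := by rw [h.s3]; group
    _ = _ := by rw [← h1]; group

/-- The elements on which the candidate acts in the standard way. -/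
def Std (s : G) (v : V K) : Prop := v ∈ R ∧ s * c.e v * s⁻¹ = c.e (ρs v)

omit h in
theorem Std.mul {v w : V K} (a : Std (c := c) s v) (b : Std (c := c) s w) : Std (c := c) s (v * w) :=
  ⟨mul_mem a.1 b.1, by rw [map_mul, ← conj_mul, a.2, b.2, ρs_mul a.1 b.1, map_mul]⟩

omit h in
theorem Std.pw (x : K → V K) (h1 : Std (c := c) s (x 1)) (h0 : x 0 = 1) (t : K) : Std (c := c) s (x t) := by
  rcases Q2.h t with rfl | rfl
  · exact h0 ▸ ⟨one_mem _, by rw [show ρs (1 : V K) = 1 by vs]; simp⟩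
  · exact h1

theorem Z2_act {v : V K} (hv : v ∈ R) (h2 : ρs v ∈ Z2) : s * c.e v * s⁻¹ = c.e (ρs v) := by
  have a : Std (c := c) s (x4 1) := ⟨by vs, h.s4.trans (by congr 1; vs)⟩
  have b : Std (c := c) s (x6 1) := ⟨by vs, (h.sw h.s4).trans (by congr 1; vs)⟩
  have := ((a.pw x4 rfl v.c4).mul (b.pw x6 rfl v.c6)).2
  rwa [chk1 (p := fun v : V K => v ∈ R → ρs v ∈ Z2 → x4 v.c4 * x6 v.c6 = v) (by decide +kernel) v hv h2] at this

theorem step3 (e : s * c.e (y2 1) * s⁻¹ = c.e (y8 1)) : Nonempty (A2 K G) := by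
  have A : Std (c := c) s (y2 1) := ⟨by vs, e.trans (by congr 1; vs)⟩
  have B : Std (c := c) s (y8 1) := ⟨by vs, (h.sw e).trans (by congr 1; vs)⟩
  have C : Std (c := c) s (x1 1 * y8 1 * (x1 1)⁻¹) := ⟨by exact chk0 (by decide +kernel),
    (h.fix (chk0 (by decide +kernel)) e).trans (by congr 1; exact chk0 (by decide +kernel))⟩
  have k : ∀ {v w : V K}, Std (c := c) s v → v = w → Std (c := c) s w := fun h e => e ▸ h
  have a2 := k (A.mul A) (w := x2 1) (chk0 (by decide +kernel))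
  have a8 := k (B.mul B) (w := x8 1) (chk0 (by decide +kernel))
  have b4 := k (((((C.mul A).mul B).mul A).mul a8).mul A) (w := y4 1) (chk0 (by decide +kernel))
  have a4 := k (b4.mul b4) (w := x4 1) (chk0 (by decide +kernel))
  have a5 := k (((((A.mul B).mul C).mul a2).mul a8).mul b4) (w := x5 1) (chk0 (by decide +kernel))
  have a6 := k ((((B.mul a8).mul a5).mul B).mul a5) (w := x6 1) (chk0 (by decide +kernel))
  have a3 := k (((((A.mul C).mul B).mul C).mul b4).mul C) (w := x3 1) (chk0 (by decide +kernel))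
  have a7 := k (((((A.mul C).mul A).mul C).mul a3).mul a8) (w := x7 1) (chk0 (by decide +kernel))
  have b6 := k (((((A.mul C).mul C).mul B).mul a5).mul C) (w := y6 1) (chk0 (by decide +kernel))
  exact ⟨⟨c, s, h.ss, fun v hv => (k (((((((((((A.pw y2 rfl _).mul (a2.pw x2 rfl _)).mul (a3.pw x3 rfl _)).mul (b4.pw y4 rfl _)).mul
    (a4.pw x4 rfl _)).mul (a5.pw x5 rfl _)).mul (b6.pw y6 rfl _)).mul (a6.pw x6 rfl _)).mul (a7.pw x7 rfl _)).mul (B.pw y8 rfl _)).mul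
    (a8.pw x8 rfl _)) (eq_prod hv).symm).2, h.s3⟩⟩

omit h in
theorem chg {α : MulAut (V K)} {z hz hm hr hy} (h1 : α (x1 1) = x1 1) (h6 : α (x6 1) = x6 1) (h : c.Pre s) :
    (c.chg α z hz hm hr hy).Pre s := by
  refine ⟨?_, h.ss, ?_, ?_⟩
  · change s ∈ 𝐍(Z2.map (c.e.comp α.toMonoidHom))
    rw [← map_map, show Z2.map α.toMonoidHom = Z2 from le_antisymm (by rintro _ ⟨v, hv, rfl⟩; exact aut_Z2 α hv)
      fun v hv => ⟨_, aut_Z2 α.symm hv, α.apply_symm_apply v⟩]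
    exact h.P
  · change s * c.e (α _) * s = c.e (α _) * s * c.e (α _)
    rw [h1, h.s3]
  · change s * c.e (α _) * s⁻¹ = c.e (α _)
    rw [aut_x4, h6, h.s4]

theorem conj {v : V K} (hv : v ∈ R) (h1 : v * x1 1 = x1 1 * v) : c.Pre ((c.e v)⁻¹ * s * c.e v) := by
  have h2 : c.e v * c.e (x1 1) * (c.e v)⁻¹ = c.e (x1 1) := by rw [← map_mul, h1, map_mul, mul_inv_cancel_right]
  have hP : c.e v ∈ c.P := c.B_le_P (le_norm _ ⟨v, rfl⟩)
  refine ⟨mul_mem (mul_mem (inv_mem hP) h.P) hP, by simpa using sq_conj h.ss (c.e v)⁻¹, ?_, ?_⟩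
  · calc _ = (c.e v)⁻¹ * (s * (c.e v * c.e (x1 1) * (c.e v)⁻¹) * s) * c.e v := by group
      _ = (c.e v)⁻¹ * (c.e v * c.e (x1 1) * (c.e v)⁻¹ * s * (c.e v * c.e (x1 1) * (c.e v)⁻¹)) * c.e v := by
        rw [h2, h.s3]
      _ = _ := by group
  · calc _ = (c.e v)⁻¹ * (s * (c.e v * c.e (x4 1) * (c.e v)⁻¹) * s⁻¹) * c.e v := by group
      _ = _ := by
        rw [c.C_conj (x4_mem _) (c.e_mem v), h.s4, mul_assoc, ← map_mul, ← R_comm hv (by vs), map_mul, inv_mul_cancel_left]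

theorem step2 {b : V K} (hb : b ∈ R) (e : s * c.e (y2 1) * s⁻¹ = c.e b) (h2 : b.b2 = 0) (h8 : b.b8 = 1)
    (hp : b.b4 = b.b6) : Nonempty (A2 K G) := by
  have C := h.fix (chk0 (by decide +kernel)) e
  have e' := h.sw e
  obtain ⟨⟨p1, p2, q1, q2⟩, k⟩ := b_form b hb h2 h8 hp (c.inj (by
    simp only [map_mul, ← e, conj_mul]
    simp only [← map_mul, show (y2 1 * y2 1 * (y2 1 * y2 1) : V K) = 1 from chk0 (by decide +kernel)]
    simp))
  obtain ⟨k1, k2, k3, k4⟩ := k (c.inj (by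
    rw [← h.Z2_act p1 p2]
    generalize x1 1 * b * (x1 1)⁻¹ = d at *
    simp only [map_mul, ← conj_mul, e, C])) (c.inj (by
    rw [← h.Z2_act q1 q2]
    generalize x1 1 * b * (x1 1)⁻¹ = d at *
    simp only [cm, map_mul, map_inv, ← conj_mul, ← conj_inv, e, e', C]))
  generalize y2 b.b4 * x2 b.a3 * x3 (b.a3 + b.b4 + b.a5) * x5 (b.a3 + b.b4 + b.c6) = v at *
  generalize b.a3 + b.c4 + b.a5 + b.b4 * b.a5 = a, b.a3 + b.b4 + b.c6 = j at *
  refine (Pre.chg (α := autκ a j) (z := 1) (hz := one_mem _)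
    (hm := fun v => chk3 (p := fun v a j _ => κ a j v * v⁻¹ ∈ Q) (by decide +kernel) v a j 0)
    (hr := fun v => chk3 (p := fun v a j _ => v ∈ Q → κ a j (ρr v) = ρr (κ a j v)) (by decide +kernel) v a j 0)
    (hy := chk3 (p := fun _ a j _ => ρr (κ a j (y8 1) * (y8 1)⁻¹) * y8 1 =
      κ a j (y8 1) * 1 * ρr (κ a j (x8 1) * (x8 1)⁻¹)) (by decide +kernel) 1 a j 0)
    (chk3 (p := fun _ a j _ => κ a j (x1 1) = x1 1) (by decide +kernel) 1 a j 0)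
    (chk3 (p := fun _ a j _ => κ a j (x6 1) = x6 1) (by decide +kernel) 1 a j 0) (h.conj k3 k4)).step3 ?_
  change _ * c.e (κ a j (y2 1)) * _ = c.e (κ a j (y8 1))
  calc _ = (c.e v)⁻¹ * (s * c.e (v * κ a j (y2 1) * v⁻¹) * s⁻¹) * c.e v := by
        rw [map_mul c.e (v * _), map_mul c.e v, map_inv]; group
    _ = _ := by rw [k1, e, ← k2, map_mul c.e (v * _), map_mul c.e v, map_inv]; group

theorem step1 : Nonempty (A2 K G) := by
  have ex : ∀ v ∈ R, ∃ w ∈ R, s * c.e v * s⁻¹ = c.e w := fun v hv => by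
    obtain ⟨w, hw, e⟩ := conj_mem_of_norm (c.P_R h.P) ⟨v, hv, rfl⟩
    exact ⟨w, hw, e.symm⟩
  obtain ⟨b, hb, e⟩ := ex (y2 1) (by vs)
  obtain ⟨y, hy, e5⟩ := ex (x5 1) (by vs)
  have k : ∀ w ∈ R, cm y w ∈ Z2 := fun w hw => by
    obtain ⟨u, hu, e'⟩ := ex w hw
    obtain ⟨t, ht, e''⟩ := c.P_act h.P (Z3_cm (v := x5 1) (by vs) u)
    rw [show cm y w = t from c.inj (by
      rw [← e'', map_cm, map_cm, ← e5, ← h.sw e']; simp only [cm]; group)]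
    exact ht
  have h3 := Z3_of_R y hy (k _ (by vs)) (k _ (by vs)) (k _ (by vs))
  have h4 : cm y b = x6 1 := c.inj (by
    rw [← h.s4, show x4 (1 : K) = cm (x5 1) (y2 1) from chk0 (by decide +kernel), map_cm, map_cm, ← e, ← e5]
    simp only [cm]; group)
  obtain ⟨h2, h8⟩ : b.b2 = 0 ∧ b.b8 = 1 := chk3 (p := fun b r s t => b ∈ R → cm (x4 r * x5 s * x6 t) b = x6 1 →
    b.b2 = 0 ∧ b.b8 = 1) (by decide +kernel) b y.c4 y.a5 y.c6 hb (by
      rwa [show x4 y.c4 * x5 y.a5 * x6 y.c6 = y by revert h3; vs; tauto])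
  by_cases hp : b.b4 = b.b6
  · exact h.step2 hb e h2 h8 hp
  obtain ⟨p1, p2, p3, p4, p5⟩ := chk1 (p := fun b : V K => b ∈ R → b.b2 = 0 → b.b8 = 1 → b.b4 ≠ b.b6 → α3 b⁻¹ ∈ R ∧
    (α3 b⁻¹).b2 = 0 ∧ (α3 b⁻¹).b8 = 1 ∧ (α3 b⁻¹).b4 = (α3 b⁻¹).b6 ∧ α3 (α3 b⁻¹) = b⁻¹) (by decide +kernel) b hb h2 h8 hp
  refine (Pre.chg (α := aut3) (z := x4 1) (hz := x4_mem _)
    (hm := chk1 (p := fun v => α3 v * v⁻¹ ∈ Q) (by decide +kernel))
    (hr := chk1 (p := fun v => v ∈ Q → α3 (ρr v) = ρr (α3 v)) (by decide +kernel))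
    (hy := chk0 (p := ρr (α3 (y8 1) * (y8 1)⁻¹) * y8 1 = α3 (y8 1) * x4 1 * ρr (α3 (x8 1) * (x8 1)⁻¹))
      (by decide +kernel)) (chk0 (p := α3 (x1 1) = x1 1) (by decide +kernel))
    (chk0 (p := α3 (x6 1) = x6 1) (by decide +kernel)) h).step2 p1 ?_ p2 p3 p4
  change s * c.e (α3 (y2 1)) * s⁻¹ = c.e (α3 _)
  rw [p5, show α3 (y2 (1 : K)) = (y2 1)⁻¹ from chk0 (by decide +kernel), map_inv, map_inv, ← e]
  group

end Pre

theorem exists_A2 (hm : c.Main) : Nonempty (A2 K G) := (exists_pre hm).elim fun _ h => h.step1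

end G2

end Cfsg.Lib.RF4
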