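import Cfsg.Agent.Lib.RF4.VL

/-!
Computations in the Sylow `2`-subgroup over the field with two elements: all assignments of the variables are
treated at once, as the bits of a natural number.
-/

set_option autoImplicit false

namespace Cfsg.Lib.RF4

open V

/-- The field with two elements. -/
class Q2 (K : Type*) [Field K] : Prop where
  h : ∀ t : K, t = 0 ∨ t = 1

/-- The product on all assignments. -/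
def mulN (v w : V ℕ) : V ℕ where
  a1 := v.a1 ^^^ w.a1
  b2 := v.b2 ^^^ w.b2 ^^^ v.b8 &&& w.a1
  c2 := v.c2 ^^^ w.c2 ^^^ v.b2 &&& w.b2 ^^^ v.b4 &&& w.a1 ^^^ v.b6 &&& w.a1 ^^^ v.b2 &&& v.b8 &&& w.a1 ^^^ v.b8 &&&
    w.a1 &&& w.b2 ^^^ v.c8 &&& w.a1 &&& w.a1
  a3 := v.a3 ^^^ w.a3 ^^^ v.b4 &&& w.b2 ^^^ v.b6 &&& w.a1 ^^^ v.a7 &&& w.a1 ^^^ v.b8 &&& w.c2 ^^^ v.b4 &&& v.b8 &&&
    w.a1 ^^^ v.b8 &&& w.b2 &&& w.b2 ^^^ v.c8 &&& w.a1 &&& w.b2 ^^^ v.c8 &&& w.a1 &&& w.a1 ^^^ v.b8 &&& v.c8 &&& w.a1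
    &&& w.a1 ^^^ v.b8 &&& v.b8 &&& w.a1 &&& w.a1
  b4 := v.b4 ^^^ w.b4 ^^^ v.b8 &&& w.b2 ^^^ v.c8 &&& w.a1
  c4 := v.c4 ^^^ w.c4 ^^^ v.b4 &&& w.b4 ^^^ v.a5 &&& w.b2 ^^^ v.b6 &&& w.a3 ^^^ v.c6 &&& w.a1 ^^^ v.a7 &&& w.c2 ^^^
    v.b8 &&& w.a3 ^^^ v.c8 &&& w.c2 ^^^ v.a5 &&& v.b8 &&& w.a1 ^^^ v.b6 &&& v.a7 &&& w.a1 ^^^ v.b6 &&& v.b8 &&& w.c2
    ^^^ v.a7 &&& w.b2 &&& w.b2 ^^^ v.a7 &&& w.a1 &&& w.b2 ^^^ v.b8 &&& w.b2 &&& w.b4 ^^^ v.b8 &&& w.b2 &&& w.a3 ^^^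
    v.c8 &&& w.a1 &&& w.a3 ^^^ v.c8 &&& w.a1 &&& w.b4 ^^^ v.c8 &&& w.b2 &&& w.c2 ^^^ v.c8 &&& w.a1 &&& w.c2 ^^^ v.b4
    &&& v.b8 &&& w.b2 ^^^ v.b4 &&& v.c8 &&& w.a1 ^^^ v.b6 &&& v.b8 &&& w.b2 &&& w.b2 ^^^ v.b6 &&& v.c8 &&& w.a1 &&&
    w.b2 ^^^ v.b6 &&& v.c8 &&& w.a1 &&& w.a1 ^^^ v.a7 &&& v.b8 &&& w.a1 &&& w.b2 ^^^ v.a7 &&& v.c8 &&& w.a1 &&& w.a1
    ^^^ v.a7 &&& v.b8 &&& w.a1 ^^^ v.b8 &&& v.b8 &&& w.a1 &&& w.a3 ^^^ v.b8 &&& v.b8 &&& w.b2 &&& w.c2 ^^^ v.c8 &&&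
    w.b2 &&& w.b2 ^^^ v.c8 &&& w.a1 &&& w.b2 &&& w.b2 ^^^ v.b6 &&& v.b8 &&& v.c8 &&& w.a1 &&& w.a1 ^^^ v.a7 &&& v.b8
    &&& v.b8 &&& w.a1 &&& w.a1 ^^^ v.b8 &&& v.b8 &&& w.b2 &&& w.b2 ^^^ v.b8 &&& v.c8 &&& w.a1 &&& w.b2 ^^^ v.b8 &&&
    v.c8 &&& w.a1 &&& w.a1 &&& w.b2 ^^^ v.c8 &&& w.a1 &&& w.a1 &&& w.b2 ^^^ v.c8 &&& v.c8 &&& w.a1 &&& w.a1 ^^^ v.b6
    &&& v.b8 &&& v.b8 &&& w.a1 &&& w.a1 ^^^ v.b8 &&& v.b8 &&& v.c8 &&& w.a1 &&& w.a1 ^^^ v.b8 &&& v.c8 &&& w.a1 &&&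
    w.a1 ^^^ v.b8 &&& v.b8 &&& w.a1 &&& w.a1 &&& w.b2 ^^^ v.b8 &&& v.b8 &&& w.a1 &&& w.a1
  a5 := v.a5 ^^^ w.a5 ^^^ v.b6 &&& w.b4 ^^^ v.a7 &&& w.b2 ^^^ v.a7 &&& w.a1 ^^^ v.b8 &&& w.a3 ^^^ v.c8 &&& w.c2 ^^^
    v.b6 &&& v.b8 &&& w.b2 ^^^ v.b6 &&& v.c8 &&& w.a1 ^^^ v.a7 &&& v.b8 &&& w.a1 ^^^ v.b8 &&& v.b8 &&& w.c2 ^^^ v.b8
    &&& w.b2 &&& w.b4 ^^^ v.c8 &&& w.a1 &&& w.b4 ^^^ v.c8 &&& w.a1 &&& w.b2 ^^^ v.b8 &&& v.b8 &&& w.a1 &&& w.b4 ^^^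
    v.b8 &&& v.c8 &&& w.a1 &&& w.a1 ^^^ v.c8 &&& w.a1 &&& w.a1 ^^^ v.b8 &&& v.b8 &&& w.a1 &&& w.a1
  b6 := v.b6 ^^^ w.b6 ^^^ v.b8 &&& w.b2 ^^^ v.c8 &&& w.a1 ^^^ v.b8 &&& v.b8 &&& w.a1
  c6 := v.c6 ^^^ w.c6 ^^^ v.b6 &&& w.b6 ^^^ v.a7 &&& w.b4 ^^^ v.a7 &&& w.b2 ^^^ v.b8 &&& w.a5 ^^^ v.c8 &&& w.a3 ^^^
    v.c8 &&& w.c2 ^^^ v.b6 &&& v.c8 &&& w.a1 ^^^ v.a7 &&& v.b8 &&& w.b2 ^^^ v.a7 &&& v.c8 &&& w.a1 ^^^ v.a7 &&& v.b8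
    &&& w.a1 ^^^ v.b8 &&& v.c8 &&& w.c2 ^^^ v.b8 &&& w.b2 &&& w.b6 ^^^ v.c8 &&& w.a1 &&& w.b6 ^^^ v.c8 &&& w.b2 &&&
    w.b4 ^^^ v.c8 &&& w.a1 &&& w.b4 ^^^ v.c8 &&& w.b2 &&& w.b2 ^^^ v.b6 &&& v.b8 &&& w.b2 ^^^ v.b8 &&& v.b8 &&& w.c2
    ^^^ v.b8 &&& v.b8 &&& w.a1 &&& w.b6 ^^^ v.b8 &&& v.c8 &&& w.a1 &&& w.b4 ^^^ v.b8 &&& v.c8 &&& w.a1 &&& w.b2 ^^^
    v.b8 &&& v.c8 &&& w.a1 &&& w.b2 ^^^ v.c8 &&& w.a1 &&& w.b2 ^^^ v.b6 &&& v.b8 &&& v.b8 &&& w.a1 ^^^ v.b8 &&& v.b8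
    &&& w.a1 &&& w.b4 ^^^ v.b8 &&& v.b8 &&& v.c8 &&& w.a1 &&& w.a1 ^^^ v.b8 &&& v.c8 &&& w.a1 &&& w.a1 ^^^ v.b8 &&&
    v.b8 &&& w.a1 &&& w.b2 ^^^ v.b8 &&& v.b8 &&& w.a1 &&& w.a1
  a7 := v.a7 ^^^ w.a7 ^^^ v.b8 &&& w.b6 ^^^ v.c8 &&& w.b2 ^^^ v.c8 &&& w.a1 ^^^ v.b8 &&& v.c8 &&& w.a1 ^^^ v.b8 &&&
    v.b8 &&& w.a1
  b8 := v.b8 ^^^ w.b8
  c8 := v.c8 ^^^ w.c8 ^^^ v.b8 &&& w.b8

/-- The inverse on all assignments. -/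
def invN (v : V ℕ) : V ℕ where
  a1 := v.a1
  b2 := v.b2 ^^^ v.a1 &&& v.b8
  c2 := v.c2 ^^^ v.a1 &&& v.b4 ^^^ v.a1 &&& v.b6 ^^^ v.b2 &&& v.b2 ^^^ v.a1 &&& v.a1 &&& v.c8 ^^^ v.a1 &&& v.b2 &&&
    v.b8 ^^^ v.a1 &&& v.a1 &&& v.b8 &&& v.b8
  a3 := v.a3 ^^^ v.a1 &&& v.b6 ^^^ v.a1 &&& v.a7 ^^^ v.b2 &&& v.b4 ^^^ v.c2 &&& v.b8 ^^^ v.a1 &&& v.a1 &&& v.c8 ^^^
    v.a1 &&& v.b4 &&& v.b8 ^^^ v.a1 &&& v.b2 &&& v.c8 ^^^ v.a1 &&& v.b6 &&& v.b8 ^^^ v.a1 &&& v.a1 &&& v.b8 &&& v.c8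
    ^^^ v.a1 &&& v.b2 &&& v.b8 &&& v.b8 ^^^ v.a1 &&& v.a1 &&& v.b8 &&& v.b8
  b4 := v.b4 ^^^ v.a1 &&& v.c8 ^^^ v.b2 &&& v.b8 ^^^ v.a1 &&& v.b8 &&& v.b8
  c4 := v.c4 ^^^ v.a1 &&& v.c6 ^^^ v.b2 &&& v.a5 ^^^ v.c2 &&& v.a7 ^^^ v.c2 &&& v.c8 ^^^ v.a3 &&& v.b6 ^^^ v.a3 &&&
    v.b8 ^^^ v.b4 &&& v.b4 ^^^ v.a1 &&& v.b2 &&& v.a7 ^^^ v.a1 &&& v.c2 &&& v.c8 ^^^ v.a1 &&& v.a3 &&& v.c8 ^^^ v.a1
    &&& v.b4 &&& v.a7 ^^^ v.a1 &&& v.b6 &&& v.b6 ^^^ v.a1 &&& v.b6 &&& v.a7 ^^^ v.b2 &&& v.c2 &&& v.c8 ^^^ v.b2 &&&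
    v.a3 &&& v.b8 ^^^ v.b2 &&& v.b4 &&& v.b6 ^^^ v.c2 &&& v.b8 &&& v.b8 ^^^ v.a1 &&& v.b4 &&& v.c8 ^^^ v.a1 &&& v.a7
    &&& v.b8 ^^^ v.a1 &&& v.a1 &&& v.b6 &&& v.c8 ^^^ v.a1 &&& v.a1 &&& v.a7 &&& v.c8 ^^^ v.a1 &&& v.b2 &&& v.b6 &&&
    v.b8 ^^^ v.a1 &&& v.b2 &&& v.b6 &&& v.c8 ^^^ v.a1 &&& v.b2 &&& v.a7 &&& v.b8 ^^^ v.a1 &&& v.b6 &&& v.b8 ^^^ v.b2
    &&& v.b2 &&& v.c8 ^^^ v.b2 &&& v.b4 &&& v.b8 ^^^ v.a1 &&& v.a1 &&& v.c8 &&& v.c8 ^^^ v.a1 &&& v.b6 &&& v.b8 &&&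
    v.b8 ^^^ v.a1 &&& v.a1 &&& v.b2 &&& v.b8 &&& v.c8 ^^^ v.a1 &&& v.a1 &&& v.b2 &&& v.c8 ^^^ v.a1 &&& v.c2 &&& v.b8
    &&& v.b8 ^^^ v.a1 &&& v.b2 &&& v.b8 &&& v.c8 ^^^ v.b2 &&& v.b2 &&& v.b8 &&& v.b8 ^^^ v.a1 &&& v.a1 &&& v.b8 &&&
    v.c8 ^^^ v.a1 &&& v.b4 &&& v.b8 &&& v.b8 ^^^ v.a1 &&& v.a1 &&& v.b6 &&& v.b8 &&& v.b8 ^^^ v.a1 &&& v.b2 &&& v.b8
    &&& v.b8 ^^^ v.a1 &&& v.a1 &&& v.b8 &&& v.b8 &&& v.c8 ^^^ v.a1 &&& v.a1 &&& v.b2 &&& v.b8 &&& v.b8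
  a5 := v.a5 ^^^ v.a1 &&& v.a7 ^^^ v.b2 &&& v.a7 ^^^ v.c2 &&& v.c8 ^^^ v.a3 &&& v.b8 ^^^ v.b4 &&& v.b6 ^^^ v.a1 &&&
    v.b2 &&& v.c8 ^^^ v.a1 &&& v.b6 &&& v.b8 ^^^ v.a1 &&& v.b6 &&& v.c8 ^^^ v.a1 &&& v.a7 &&& v.b8 ^^^ v.b2 &&& v.b2
    &&& v.c8 ^^^ v.a1 &&& v.a1 &&& v.b8 &&& v.c8 ^^^ v.a1 &&& v.a1 &&& v.c8 ^^^ v.a1 &&& v.b2 &&& v.b8 &&& v.b8 ^^^
    v.a1 &&& v.a1 &&& v.b8 &&& v.b8
  b6 := v.b6 ^^^ v.a1 &&& v.c8 ^^^ v.b2 &&& v.b8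
  c6 := v.c6 ^^^ v.b2 &&& v.a7 ^^^ v.c2 &&& v.c8 ^^^ v.a3 &&& v.c8 ^^^ v.b4 &&& v.a7 ^^^ v.a5 &&& v.b8 ^^^ v.b6 &&&
    v.b6 ^^^ v.a1 &&& v.a7 &&& v.b8 ^^^ v.a1 &&& v.b6 &&& v.c8 ^^^ v.a1 &&& v.a7 &&& v.c8 ^^^ v.b2 &&& v.b6 &&& v.b8
    ^^^ v.b2 &&& v.a7 &&& v.b8 ^^^ v.c2 &&& v.b8 &&& v.c8 ^^^ v.a3 &&& v.b8 &&& v.b8 ^^^ v.b4 &&& v.b6 &&& v.b8 ^^^
    v.a1 &&& v.b2 &&& v.b8 &&& v.c8 ^^^ v.a1 &&& v.b6 &&& v.b8 &&& v.b8 ^^^ v.a1 &&& v.b2 &&& v.b8 &&& v.c8 ^^^ v.a1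
    &&& v.b2 &&& v.c8 ^^^ v.a1 &&& v.b6 &&& v.b8 &&& v.c8 ^^^ v.a1 &&& v.a7 &&& v.b8 &&& v.b8 ^^^ v.b2 &&& v.b2 &&&
    v.b8 &&& v.c8 ^^^ v.c2 &&& v.b8 &&& v.b8 ^^^ v.a1 &&& v.a1 &&& v.b8 &&& v.b8 &&& v.c8 ^^^ v.a1 &&& v.a1 &&& v.b8
    &&& v.c8 ^^^ v.a1 &&& v.b6 &&& v.b8 &&& v.b8 ^^^ v.a1 &&& v.b2 &&& v.b8 &&& v.b8 ^^^ v.a1 &&& v.b2 &&& v.b8 &&&
    v.b8 ^^^ v.a1 &&& v.a1 &&& v.b8 &&& v.b8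
  a7 := v.a7 ^^^ v.a1 &&& v.c8 ^^^ v.b2 &&& v.c8 ^^^ v.b6 &&& v.b8 ^^^ v.a1 &&& v.b8 &&& v.c8 ^^^ v.b2 &&& v.b8 &&&
    v.b8 ^^^ v.a1 &&& v.b8 &&& v.b8
  b8 := v.b8
  c8 := v.c8 ^^^ v.b8 &&& v.b8

/-- The first reflection on all assignments. -/
def ρrN (v : V ℕ) : V ℕ where
  a1 := v.a7
  b2 := v.b6
  c2 := v.c6 ^^^ v.b2 &&& v.a7 ^^^ v.b4 &&& v.a7
  a3 := v.a5 ^^^ v.a1 &&& v.a7 ^^^ v.b2 &&& v.a7 ^^^ v.b4 &&& v.b6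
  b4 := v.b4
  c4 := v.c4 ^^^ v.a1 &&& v.c6 ^^^ v.b2 &&& v.a5 ^^^ v.c2 &&& v.a7 ^^^ v.a3 &&& v.b6 ^^^ v.a1 &&& v.b2 &&& v.a7 ^^^
    v.a1 &&& v.b4 &&& v.a7 ^^^ v.a1 &&& v.b6 &&& v.b6 ^^^ v.a1 &&& v.b6 &&& v.a7 ^^^ v.b2 &&& v.b4 &&& v.b6
  a5 := v.a3 ^^^ v.a1 &&& v.b6 ^^^ v.a1 &&& v.a7 ^^^ v.b2 &&& v.b4
  b6 := v.b2
  c6 := v.c2 ^^^ v.a1 &&& v.b4 ^^^ v.a1 &&& v.b6
  a7 := v.a1
  b8 := 0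
  c8 := 0

/-- The second reflection on all assignments. -/
def ρsN (v : V ℕ) : V ℕ where
  a1 := 0
  b2 := v.b8
  c2 := v.c8
  a3 := v.a7 ^^^ v.b2 &&& v.c8 ^^^ v.b6 &&& v.b8 ^^^ v.b2 &&& v.b8 &&& v.b8
  b4 := v.b6 ^^^ v.b2 &&& v.b8
  c4 := v.c6 ^^^ v.b2 &&& v.a7 ^^^ v.c2 &&& v.c8 ^^^ v.a3 &&& v.c8 ^^^ v.b4 &&& v.a7 ^^^ v.a5 &&& v.b8 ^^^ v.b2 &&&
    v.a7 &&& v.b8 ^^^ v.c2 &&& v.b8 &&& v.c8 ^^^ v.a3 &&& v.b8 &&& v.b8 ^^^ v.b4 &&& v.b6 &&& v.b8 ^^^ v.b2 &&& v.b2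
    &&& v.b8 &&& v.c8 ^^^ v.b2 &&& v.b6 &&& v.b8 ^^^ v.c2 &&& v.b8 &&& v.b8 ^^^ v.b2 &&& v.b2 &&& v.b8 &&& v.b8
  a5 := v.a5 ^^^ v.b2 &&& v.a7 ^^^ v.c2 &&& v.c8 ^^^ v.a3 &&& v.b8 ^^^ v.b4 &&& v.b6 ^^^ v.b2 &&& v.b2 &&& v.c8
  b6 := v.b4 ^^^ v.b2 &&& v.b8
  c6 := v.c4 ^^^ v.b2 &&& v.a5 ^^^ v.c2 &&& v.a7 ^^^ v.c2 &&& v.c8 ^^^ v.a3 &&& v.b6 ^^^ v.a3 &&& v.b8 ^^^ v.b2 &&&
    v.c2 &&& v.c8 ^^^ v.b2 &&& v.a3 &&& v.b8 ^^^ v.b2 &&& v.b4 &&& v.b6 ^^^ v.b2 &&& v.b4 &&& v.b8 ^^^ v.c2 &&& v.b8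
    &&& v.b8 ^^^ v.b2 &&& v.b2 &&& v.c8
  a7 := v.a3 ^^^ v.b2 &&& v.b4 ^^^ v.c2 &&& v.b8
  b8 := v.b2
  c8 := v.c2

/-- Evaluate, then continue. -/
noncomputable def frc (x : ℕ) (k : ℕ → ℕ) : ℕ := Nat.rec (motive := fun _ => ℕ) 0 (fun m _ => k m) (Nat.succ x)

/-- Evaluate, then continue. -/
noncomputable def frcV (v : V ℕ) (k : V ℕ → ℕ) : ℕ :=
  frc v.a1 fun a1 => frc v.b2 fun b2 => frc v.c2 fun c2 => frc v.a3 fun a3 => frc v.b4 fun b4 => frc v.c4 fun c4 =>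
  frc v.a5 fun a5 => frc v.b6 fun b6 => frc v.c6 fun c6 => frc v.a7 fun a7 => frc v.b8 fun b8 => frc v.c8 fun c8 =>
  k ⟨a1, b2, c2, a3, b4, c4, a5, b6, c6, a7, b8, c8⟩

theorem frcV_eq (v : V ℕ) (k : V ℕ → ℕ) : frcV v k = k v := rfl

/-- The values of the variable `j` in all assignments of `n` variables. -/
noncomputable def pat (j n : ℕ) : ℕ := Nat.rec (motive := fun _ => ℕ) 0
  (fun n p => frc p fun p => bif n == j then (2 ^ 2 ^ n - 1) <<< 2 ^ n else p ||| p <<< 2 ^ n) n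

theorem pat_succ (j n : ℕ) : pat j (n + 1) =
    bif n == j then (2 ^ 2 ^ n - 1) <<< 2 ^ n else pat j n ||| pat j n <<< 2 ^ n := rfl

theorem pat_bit (j : ℕ) : ∀ {n i : ℕ}, 2 ^ n ≤ i → (pat j n).testBit i = false
  | 0, _, _ => Nat.zero_testBit _
  | n + 1, i, h => by
    rw [pow_succ] at h
    rw [pat_succ]
    cases n == j
    · simp [Nat.testBit_shiftLeft, pat_bit j (show 2 ^ n ≤ i by omega), pat_bit j (show 2 ^ n ≤ i - 2 ^ n by omega)]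
    · simp [Nat.testBit_shiftLeft, Nat.testBit_two_pow_sub_one]
      omega

theorem ex_idx (b : ℕ → Bool) : ∀ n, ∃ i < 2 ^ n, ∀ j < n, (pat j n).testBit i = b j
  | 0 => ⟨0, by simp⟩
  | n + 1 => by
    obtain ⟨i, hi, h⟩ := ex_idx b n
    refine ⟨i + if b n then 2 ^ n else 0, by rw [pow_succ]; split_ifs <;> omega, fun j hj => ?_⟩
    rw [pat_succ]
    obtain rfl | hj := (Nat.le_of_lt_succ hj).eq_or_lt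
    · cases b j <;> simp [Nat.testBit_shiftLeft, Nat.testBit_two_pow_sub_one, hi, hi.not_ge]
    · rw [show (n == j) = false by simp [hj.ne']]
      cases b n <;> simp [Nat.testBit_shiftLeft, hi.not_ge, h j hj, pat_bit]

variable {K : Type*} [Field K]

/-- The value in one assignment. -/
def bt {N : ℕ} (i : Fin N) (x : ℕ) : K := if x.testBit i then 1 else 0

/-- The value in one assignment. -/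
def ev {N : ℕ} (i : Fin N) (v : V ℕ) : V K := ⟨bt i v.a1, bt i v.b2, bt i v.c2, bt i v.a3, bt i v.b4, bt i v.c4,
  bt i v.a5, bt i v.b6, bt i v.c6, bt i v.a7, bt i v.b8, bt i v.c8⟩

theorem ex_bt [Q2 K] (n : ℕ) (g : ℕ → K) : ∃ i : Fin (2 ^ n), ∀ j < n, bt i (pat j n) = g j := by
  classical
  obtain ⟨i, hi, h⟩ := ex_idx (fun j => g j = 1) n
  refine ⟨⟨i, hi⟩, fun j hj => ?_⟩
  rcases Q2.h (g j) with e | e <;> simp [bt, h j hj, e]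

variable [Tw K] {N : ℕ} {i : Fin N}

theorem bt_xor (a b : ℕ) : (bt i (a ^^^ b) : K) = bt i a + bt i b := by
  simp only [bt, Nat.testBit_xor]
  cases a.testBit i <;> cases b.testBit i <;> simp [CharTwo.add_self_eq_zero]

omit [Tw K] in
theorem bt_and (a b : ℕ) : (bt i (a &&& b) : K) = bt i a * bt i b := by
  simp only [bt, Nat.testBit_and]
  cases a.testBit i <;> cases b.testBit i <;> simp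

omit [Tw K] in
theorem bt_eq (a b : ℕ) : (bt i a : K) = bt i b ↔ (a ^^^ b).testBit i = false := by
  rw [bt, bt, Nat.testBit_xor]
  cases a.testBit i <;> cases b.testBit i <;> simp

omit [Tw K] in
theorem bt_zero : (bt i 0 : K) = 0 := by simp [bt]

theorem bt_σ (a : ℕ) : σ (bt i a : K) = bt i a := by unfold bt; split_ifs <;> simp

omit [Tw K] in
theorem bt_pow (a n : ℕ) [n.AtLeastTwo] : (bt i a : K) ^ (ofNat(n) : ℕ) = bt i a := by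
  unfold bt; split_ifs <;> simp

/-- Computations with a continuation. -/
abbrev CV := (V ℕ → ℕ) → ℕ

/-- A computation of a scalar. -/
class RS (i : Fin N) (t : K) (a : outParam ℕ) : Prop where
  h : t = bt i a

/-- A computation of a group element. -/
class RE (i : Fin N) (x : V K) (a : outParam CV) : Prop where
  h : ∃ n, (∀ k, a k = k n) ∧ x = ev i n

/-- A computation of the set of assignments where a statement fails. -/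
class RF (i : Fin N) (p : Prop) (a : outParam ℕ) : Prop where
  h : p ↔ a.testBit i = false

instance rsVar {a : ℕ} : RS i (bt i a : K) a := ⟨rfl⟩

instance rsZero : RS i (0 : K) 0 := ⟨bt_zero.symm⟩

instance rsOne : RS i (1 : K) (2 ^ N - 1) := ⟨by simp [bt, Nat.testBit_two_pow_sub_one]⟩

instance rsAdd {s t : K} {a b : ℕ} [h : RS i s a] [h' : RS i t b] : RS i (s + t) (a ^^^ b) :=
  ⟨by rw [bt_xor, h.1, h'.1]⟩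

instance rsMul {s t : K} {a b : ℕ} [h : RS i s a] [h' : RS i t b] : RS i (s * t) (a &&& b) :=
  ⟨by rw [bt_and, h.1, h'.1]⟩

instance rsa1 {x : V K} {a : CV} [h : RE i x a] : RS i x.a1 (a V.a1) := ⟨by obtain ⟨n, e, rfl⟩ := h; exact e _ ▸ rfl⟩

instance rsb2 {x : V K} {a : CV} [h : RE i x a] : RS i x.b2 (a V.b2) := ⟨by obtain ⟨n, e, rfl⟩ := h; exact e _ ▸ rfl⟩

instance rsc2 {x : V K} {a : CV} [h : RE i x a] : RS i x.c2 (a V.c2) := ⟨by obtain ⟨n, e, rfl⟩ := h; exact e _ ▸ rfl⟩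

instance rsa3 {x : V K} {a : CV} [h : RE i x a] : RS i x.a3 (a V.a3) := ⟨by obtain ⟨n, e, rfl⟩ := h; exact e _ ▸ rfl⟩

instance rsb4 {x : V K} {a : CV} [h : RE i x a] : RS i x.b4 (a V.b4) := ⟨by obtain ⟨n, e, rfl⟩ := h; exact e _ ▸ rfl⟩

instance rsc4 {x : V K} {a : CV} [h : RE i x a] : RS i x.c4 (a V.c4) := ⟨by obtain ⟨n, e, rfl⟩ := h; exact e _ ▸ rfl⟩

instance rsa5 {x : V K} {a : CV} [h : RE i x a] : RS i x.a5 (a V.a5) := ⟨by obtain ⟨n, e, rfl⟩ := h; exact e _ ▸ rfl⟩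

instance rsb6 {x : V K} {a : CV} [h : RE i x a] : RS i x.b6 (a V.b6) := ⟨by obtain ⟨n, e, rfl⟩ := h; exact e _ ▸ rfl⟩

instance rsc6 {x : V K} {a : CV} [h : RE i x a] : RS i x.c6 (a V.c6) := ⟨by obtain ⟨n, e, rfl⟩ := h; exact e _ ▸ rfl⟩

instance rsa7 {x : V K} {a : CV} [h : RE i x a] : RS i x.a7 (a V.a7) := ⟨by obtain ⟨n, e, rfl⟩ := h; exact e _ ▸ rfl⟩

instance rsb8 {x : V K} {a : CV} [h : RE i x a] : RS i x.b8 (a V.b8) := ⟨by obtain ⟨n, e, rfl⟩ := h; exact e _ ▸ rfl⟩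

instance rsc8 {x : V K} {a : CV} [h : RE i x a] : RS i x.c8 (a V.c8) := ⟨by obtain ⟨n, e, rfl⟩ := h; exact e _ ▸ rfl⟩

instance reVar {v : V ℕ} : RE i (ev i v : V K) (frcV v) := ⟨⟨v, frcV_eq v, rfl⟩⟩

instance reOne : RE i (1 : V K) fun k => k ⟨0, 0, 0, 0, 0, 0, 0, 0, 0, 0, 0, 0⟩ :=
  ⟨⟨_, fun _ => rfl, by simp [one_def, ev, bt]⟩⟩

theorem ev_mul (u v : V ℕ) : (ev i (mulN u v) : V K) = ev i u * ev i v := by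
  simp only [mul_def, mul, ev, mulN, bt_xor, bt_and, bt_σ, bt_pow]

theorem ev_inv (u : V ℕ) : (ev i (invN u) : V K) = (ev i u)⁻¹ := by
  simp only [inv_def, inv, ev, invN, bt_xor, bt_and, bt_σ, bt_pow]

instance reMul {x y : V K} {a b : CV} [h : RE i x a] [h' : RE i y b] :
    RE i (x * y) fun k => a fun u => b fun v => frcV (mulN u v) k := by
  obtain ⟨u, e, rfl⟩ := h
  obtain ⟨v, e', rfl⟩ := h'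
  exact ⟨⟨mulN u v, fun _ => by rw [e, e', frcV_eq], (ev_mul _ _).symm⟩⟩

instance reInv {x : V K} {a : CV} [h : RE i x a] : RE i x⁻¹ fun k => a fun u => frcV (invN u) k := by
  obtain ⟨u, e, rfl⟩ := h
  exact ⟨⟨invN u, fun _ => by rw [e, frcV_eq], (ev_inv _).symm⟩⟩

instance reρr {x : V K} {a : CV} [h : RE i x a] : RE i (ρr x) fun k => a fun u => frcV (ρrN u) k := by
  obtain ⟨u, e, rfl⟩ := h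
  exact ⟨⟨ρrN u, fun _ => by rw [e, frcV_eq], by simp only [ρr, ev, ρrN, bt_xor, bt_and, bt_σ, bt_zero]⟩⟩

instance reρs {x : V K} {a : CV} [h : RE i x a] : RE i (ρs x) fun k => a fun u => frcV (ρsN u) k := by
  obtain ⟨u, e, rfl⟩ := h
  exact ⟨⟨ρsN u, fun _ => by rw [e, frcV_eq], by simp only [ρs, ev, ρsN, bt_xor, bt_and, bt_σ, bt_pow, bt_zero]⟩⟩

instance reCm {x y : V K} {a b : CV} [h : RE i x a] [h' : RE i y b] : RE i (cm x y) fun k => a fun u => b fun v =>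
    frcV (mulN u v) fun p => frcV (mulN v u) fun q => frcV (invN q) fun q => frcV (mulN p q) k := by
  obtain ⟨u, e, rfl⟩ := h
  obtain ⟨v, e', rfl⟩ := h'
  exact ⟨⟨mulN (mulN u v) (invN (mulN v u)), fun k => by rw [e, e', frcV_eq, frcV_eq, frcV_eq, frcV_eq], by
    rw [ev_mul, ev_inv, ev_mul, ev_mul, cm, mul_inv_rev, ← mul_assoc]⟩⟩

instance rex1 {t : K} {a : ℕ} [h : RS i t a] : RE i (x1 t) fun k => frc a fun a => k ⟨a, 0, 0, 0, 0, 0, 0, 0, 0, 0, 0, 0⟩ :=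
  ⟨⟨_, fun _ => rfl, by simp [x1, ev, h.1, bt]⟩⟩

instance rey2 {t : K} {a : ℕ} [h : RS i t a] : RE i (y2 t) fun k => frc a fun a => k ⟨0, a, 0, 0, 0, 0, 0, 0, 0, 0, 0, 0⟩ :=
  ⟨⟨_, fun _ => rfl, by simp [y2, ev, h.1, bt]⟩⟩

instance rex2 {t : K} {a : ℕ} [h : RS i t a] : RE i (x2 t) fun k => frc a fun a => k ⟨0, 0, a, 0, 0, 0, 0, 0, 0, 0, 0, 0⟩ :=
  ⟨⟨_, fun _ => rfl, by simp [x2, ev, h.1, bt]⟩⟩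

instance rex3 {t : K} {a : ℕ} [h : RS i t a] : RE i (x3 t) fun k => frc a fun a => k ⟨0, 0, 0, a, 0, 0, 0, 0, 0, 0, 0, 0⟩ :=
  ⟨⟨_, fun _ => rfl, by simp [x3, ev, h.1, bt]⟩⟩

instance rey4 {t : K} {a : ℕ} [h : RS i t a] : RE i (y4 t) fun k => frc a fun a => k ⟨0, 0, 0, 0, a, 0, 0, 0, 0, 0, 0, 0⟩ :=
  ⟨⟨_, fun _ => rfl, by simp [y4, ev, h.1, bt]⟩⟩

instance rex4 {t : K} {a : ℕ} [h : RS i t a] : RE i (x4 t) fun k => frc a fun a => k ⟨0, 0, 0, 0, 0, a, 0, 0, 0, 0, 0, 0⟩ :=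
  ⟨⟨_, fun _ => rfl, by simp [x4, ev, h.1, bt]⟩⟩

instance rex5 {t : K} {a : ℕ} [h : RS i t a] : RE i (x5 t) fun k => frc a fun a => k ⟨0, 0, 0, 0, 0, 0, a, 0, 0, 0, 0, 0⟩ :=
  ⟨⟨_, fun _ => rfl, by simp [x5, ev, h.1, bt]⟩⟩

instance rey6 {t : K} {a : ℕ} [h : RS i t a] : RE i (y6 t) fun k => frc a fun a => k ⟨0, 0, 0, 0, 0, 0, 0, a, 0, 0, 0, 0⟩ :=
  ⟨⟨_, fun _ => rfl, by simp [y6, ev, h.1, bt]⟩⟩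

instance rex6 {t : K} {a : ℕ} [h : RS i t a] : RE i (x6 t) fun k => frc a fun a => k ⟨0, 0, 0, 0, 0, 0, 0, 0, a, 0, 0, 0⟩ :=
  ⟨⟨_, fun _ => rfl, by simp [x6, ev, h.1, bt]⟩⟩

instance rex7 {t : K} {a : ℕ} [h : RS i t a] : RE i (x7 t) fun k => frc a fun a => k ⟨0, 0, 0, 0, 0, 0, 0, 0, 0, a, 0, 0⟩ :=
  ⟨⟨_, fun _ => rfl, by simp [x7, ev, h.1, bt]⟩⟩

instance rey8 {t : K} {a : ℕ} [h : RS i t a] : RE i (y8 t) fun k => frc a fun a => k ⟨0, 0, 0, 0, 0, 0, 0, 0, 0, 0, a, 0⟩ :=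
  ⟨⟨_, fun _ => rfl, by simp [y8, ev, h.1, bt]⟩⟩

instance rex8 {t : K} {a : ℕ} [h : RS i t a] : RE i (x8 t) fun k => frc a fun a => k ⟨0, 0, 0, 0, 0, 0, 0, 0, 0, 0, 0, a⟩ :=
  ⟨⟨_, fun _ => rfl, by simp [x8, ev, h.1, bt]⟩⟩

instance rfR {x : V K} {a : CV} [h : RE i x a] : RF i (x ∈ R) (a fun v => v.a1) :=
  ⟨by obtain ⟨n, e, rfl⟩ := h; rw [e]; simp [mem_R, ev, bt, and_assoc]⟩

instance rfQ {x : V K} {a : CV} [h : RE i x a] : RF i (x ∈ Q) (a fun v => v.b8 ||| v.c8) :=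
  ⟨by obtain ⟨n, e, rfl⟩ := h; rw [e]; simp [mem_Q, ev, bt, and_assoc]⟩

instance rfQ8 {x : V K} {a : CV} [h : RE i x a] : RF i (x ∈ Q8) (a fun v => v.b8) :=
  ⟨by obtain ⟨n, e, rfl⟩ := h; rw [e]; simp [mem_Q8, ev, bt, and_assoc]⟩

instance rfZ {x : V K} {a : CV} [h : RE i x a] : RF i (x ∈ Z) (a fun v => v.a1 ||| v.b2 ||| v.c2 ||| v.a3 ||| v.b4 ||| v.a5 ||| v.b6 ||| v.c6 ||| v.a7 ||| v.b8 ||| v.c8) :=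
  ⟨by obtain ⟨n, e, rfl⟩ := h; rw [e]; simp [mem_Z, ev, bt, and_assoc]⟩

instance rfZ2 {x : V K} {a : CV} [h : RE i x a] : RF i (x ∈ Z2) (a fun v => v.a1 ||| v.b2 ||| v.c2 ||| v.a3 ||| v.b4 ||| v.a5 ||| v.b6 ||| v.a7 ||| v.b8 ||| v.c8) :=
  ⟨by obtain ⟨n, e, rfl⟩ := h; rw [e]; simp [mem_Z2, ev, bt, and_assoc]⟩

instance rfZ3 {x : V K} {a : CV} [h : RE i x a] : RF i (x ∈ Z3) (a fun v => v.a1 ||| v.b2 ||| v.c2 ||| v.a3 ||| v.b4 ||| v.b6 ||| v.a7 ||| v.b8 ||| v.c8) :=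
  ⟨by obtain ⟨n, e, rfl⟩ := h; rw [e]; simp [mem_Z3, ev, bt, and_assoc]⟩

instance rfA {x : V K} {a : CV} [h : RE i x a] : RF i (x ∈ A) (a fun v => v.a1 ||| v.b2 ||| v.b4 ||| v.b6 ||| v.a7 ||| v.b8 ||| v.c8) :=
  ⟨by obtain ⟨n, e, rfl⟩ := h; rw [e]; simp [mem_A, ev, bt, and_assoc]⟩

instance rfV6 {x : V K} {a : CV} [h : RE i x a] : RF i (x ∈ V6) (a fun v => v.a1 ||| v.b2 ||| v.c2 ||| v.a3 ||| v.b4 ||| v.c4 ||| v.a5 ||| v.b6 ||| v.a7 ||| v.b8 ||| v.c8) :=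
  ⟨by obtain ⟨n, e, rfl⟩ := h; rw [e]; simp [mem_V6, ev, bt, and_assoc]⟩

instance rfU1 {x : V K} {a : CV} [h : RE i x a] : RF i (x ∈ U1) (a fun v => v.b2 ||| v.c2 ||| v.a3 ||| v.b4 ||| v.c4 ||| v.a5 ||| v.b6 ||| v.c6 ||| v.a7 ||| v.b8 ||| v.c8) :=
  ⟨by obtain ⟨n, e, rfl⟩ := h; rw [e]; simp [mem_U1, ev, bt, and_assoc]⟩

instance rfU2 {x : V K} {a : CV} [h : RE i x a] : RF i (x ∈ U2) (a fun v => v.a1 ||| v.a3 ||| v.b4 ||| v.c4 ||| v.a5 ||| v.b6 ||| v.c6 ||| v.a7 ||| v.b8 ||| v.c8) :=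
  ⟨by obtain ⟨n, e, rfl⟩ := h; rw [e]; simp [mem_U2, ev, bt, and_assoc]⟩

instance rfU4 {x : V K} {a : CV} [h : RE i x a] : RF i (x ∈ U4) (a fun v => v.a1 ||| v.b2 ||| v.c2 ||| v.a3 ||| v.a5 ||| v.b6 ||| v.c6 ||| v.a7 ||| v.b8 ||| v.c8) :=
  ⟨by obtain ⟨n, e, rfl⟩ := h; rw [e]; simp [mem_U4, ev, bt, and_assoc]⟩

instance rfU6 {x : V K} {a : CV} [h : RE i x a] : RF i (x ∈ U6) (a fun v => v.a1 ||| v.b2 ||| v.c2 ||| v.a3 ||| v.b4 ||| v.c4 ||| v.a5 ||| v.a7 ||| v.b8 ||| v.c8) :=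
  ⟨by obtain ⟨n, e, rfl⟩ := h; rw [e]; simp [mem_U6, ev, bt, and_assoc]⟩

instance rfU8 {x : V K} {a : CV} [h : RE i x a] : RF i (x ∈ U8) (a fun v => v.a1 ||| v.b2 ||| v.c2 ||| v.a3 ||| v.b4 ||| v.c4 ||| v.a5 ||| v.b6 ||| v.c6 ||| v.a7) :=
  ⟨by obtain ⟨n, e, rfl⟩ := h; rw [e]; simp [mem_U8, ev, bt, and_assoc]⟩

instance rfR3 {x : V K} {a : CV} [h : RE i x a] : RF i (x ∈ R3) (a fun v => v.a1 ||| v.b2) :=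
  ⟨by obtain ⟨n, e, rfl⟩ := h; rw [e]; simp [mem_R3, ev, bt, and_assoc]⟩

instance rfX1 {x : V K} {a : CV} [h : RE i x a] : RF i (x ∈ X1) (a fun v => v.b2 ||| v.b8) :=
  ⟨by obtain ⟨n, e, rfl⟩ := h; rw [e]; simp [mem_X1, ev, bt, and_assoc]⟩

instance rfX2 {x : V K} {a : CV} [h : RE i x a] : RF i (x ∈ X2) (a fun v => v.a1 ||| v.b2 ||| v.b8 ||| v.c8) :=
  ⟨by obtain ⟨n, e, rfl⟩ := h; rw [e]; simp [mem_X2, ev, bt, and_assoc]⟩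

instance rfT8 {x : V K} {a : CV} [h : RE i x a] : RF i (x ∈ T8) (a fun v => v.a1 ||| v.b2 ||| v.c2 ||| v.a3) :=
  ⟨by obtain ⟨n, e, rfl⟩ := h; rw [e]; simp [mem_T8, ev, bt, and_assoc]⟩

instance rfA6 {x : V K} {a : CV} [h : RE i x a] : RF i (x ∈ A6) (a fun v => v.a1 ||| v.b2 ||| v.c2 ||| v.a3 ||| v.b4 ||| v.b6 ||| v.b8) :=
  ⟨by obtain ⟨n, e, rfl⟩ := h; rw [e]; simp [mem_A6, ev, bt, and_assoc]⟩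

instance rfPh {x : V K} {a : CV} [h : RE i x a] : RF i (x ∈ Ph) (a fun v => v.a1 ||| v.b8) :=
  ⟨by obtain ⟨n, e, rfl⟩ := h; rw [e]; simp [mem_Ph, ev, bt, and_assoc]⟩

instance rfXs {x : V K} {a : CV} [h : RE i x a] : RF i (x ∈ Xs) (a fun v => v.a1 ||| v.b2 ||| v.b4 ||| v.b6 ||| v.b8) :=
  ⟨by obtain ⟨n, e, rfl⟩ := h; rw [e]; simp [mem_Xs, ev, bt, and_assoc]⟩

instance rfEqS {s t : K} {a b : ℕ} [h : RS i s a] [h' : RS i t b] : RF i (s = t) (a ^^^ b) :=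
  ⟨by rw [h.1, h'.1, bt_eq]⟩

instance rfEq {x y : V K} {a b : CV} [h : RE i x a] [h' : RE i y b] : RF i (x = y) (a fun u => b fun v =>
    (u.a1 ^^^ v.a1) ||| ((u.b2 ^^^ v.b2) ||| ((u.c2 ^^^ v.c2) ||| ((u.a3 ^^^ v.a3) ||| ((u.b4 ^^^ v.b4) |||
    ((u.c4 ^^^ v.c4) ||| ((u.a5 ^^^ v.a5) ||| ((u.b6 ^^^ v.b6) ||| ((u.c6 ^^^ v.c6) ||| ((u.a7 ^^^ v.a7) |||
    ((u.b8 ^^^ v.b8) ||| (u.c8 ^^^ v.c8)))))))))))) := by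
  obtain ⟨u, e, rfl⟩ := h
  obtain ⟨v, e', rfl⟩ := h'
  rw [e, e']
  exact ⟨by simp only [ev, V.mk.injEq, Nat.testBit_or, Bool.or_eq_false_iff, bt_eq]⟩

instance rfAnd {p q : Prop} {a b : ℕ} [h : RF i p a] [h' : RF i q b] : RF i (p ∧ q) (a ||| b) :=
  ⟨by simp [h.1, h'.1]⟩

instance rfOr {p q : Prop} {a b : ℕ} [h : RF i p a] [h' : RF i q b] : RF i (p ∨ q) (a &&& b) :=
  ⟨by rw [h.1, h'.1, Nat.testBit_and]; cases a.testBit i <;> simp⟩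

instance rfImp {p q : Prop} {a b : ℕ} [h : RF i p a] [h' : RF i q b] :
    RF i (p → q) (frc b fun b => b ^^^ (a &&& b)) :=
  ⟨by rw [h.1, h'.1]; change _ ↔ (b ^^^ (a &&& b)).testBit i = false
      rw [Nat.testBit_xor, Nat.testBit_and]; cases a.testBit i <;> simp⟩

instance rfFalse : RF i False (2 ^ N - 1) := ⟨by simp [Nat.testBit_two_pow_sub_one]⟩

instance rfNot {p : Prop} {a : ℕ} [h : RF i p a] : RF i (¬ p) ((2 ^ N - 1) ^^^ a) :=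
  ⟨by simp [h.1, Nat.testBit_two_pow_sub_one]⟩

instance rfNe {α : Type*} {x y : α} {a : ℕ} [h : RF i (¬ x = y) a] : RF i (x ≠ y) a := h

/-- The general element. -/
noncomputable def gn (n : ℕ) : V ℕ := ⟨pat 0 n, pat 1 n, pat 2 n, pat 3 n, pat 4 n, pat 5 n, pat 6 n, pat 7 n, pat 8 n,
  pat 9 n, pat 10 n, pat 11 n⟩

theorem chk0 {p : Prop} {a : ℕ} [h : RF (0 : Fin 1) p a] (e : a = 0) : p := h.1.2 (by simp [e])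

theorem chk3 [Q2 K] {p : V K → K → K → K → Prop} {a : ℕ}
    [h : ∀ i : Fin (2 ^ 15), RF i (p (ev i (gn 15)) (bt i (pat 12 15)) (bt i (pat 13 15)) (bt i (pat 14 15))) a]
    (e : a = 0) (v : V K) (r s t : K) : p v r s t := by
  obtain ⟨i, hi⟩ := ex_bt 15 fun j => [v.a1, v.b2, v.c2, v.a3, v.b4, v.c4, v.a5, v.b6, v.c6, v.a7, v.b8, v.c8, r, s,
    t].getD j 0
  have := (h i).1.2 (by simp [e])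
  simp only [ev, gn, hi, Nat.reduceLT, Nat.ofNat_pos, Nat.one_lt_ofNat] at this
  exact this

theorem chk1 [Q2 K] {p : V K → Prop} {a : ℕ} [h : ∀ i : Fin (2 ^ 12), RF i (p (ev i (gn 12))) a] (e : a = 0)
    (v : V K) : p v := by
  obtain ⟨i, hi⟩ := ex_bt 12 fun j => [v.a1, v.b2, v.c2, v.a3, v.b4, v.c4, v.a5, v.b6, v.c6, v.a7, v.b8,
    v.c8].getD j 0
  have := (h i).1.2 (by simp [e])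
  simp only [ev, gn, hi, Nat.reduceLT, Nat.ofNat_pos, Nat.one_lt_ofNat] at this
  exact this

end Cfsg.Lib.RF4
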