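import Cfsg.Agent.Lib.RF4.Tor
import Cfsg.Agent.Lib.BS.Cor

/-!
The braid relation.
-/

set_option autoImplicit false

namespace Cfsg.Lib.RF4

open V Subgroup Cfsg.Lib.BG Cfsg.Lib.Transfer Cfsg.Lib.GW

theorem se_trans {G : Type*} [Group G] [Finite G] {X M T : Subgroup G} (hT : Syl 2 T X) (TM : T ≤ M) {a b : G}
    (ha : a ∈ T) (hb : b ∈ T) (a2 : orderOf a = 2) (b2 : orderOf b = 2) (ab : a ≠ b) (hc : a * b = b * a)
    (H : ∀ e ∈ X, ∀ a ∈ T, orderOf a = 2 → e * a * e⁻¹ ∈ T → e ∈ M) {g g' : G} (hg : g ∈ X) (h1 : g ∉ M) (hg' : g' ∈ X)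
    (h2 : g' ∉ M) : ∃ m ∈ X ⊓ M, g'⁻¹ * (m * g) ∈ M := by
  have sq : ∀ {t : G}, orderOf t = 2 → t * t = 1 := fun h => by rw [← pow_two, ← h, pow_orderOf_eq_one]
  have hH : IsStronglyEmbedded (M.subgroupOf X) := by
    refine Inv.se_iff.2 ⟨mt subgroupOf_eq_top.1 fun h => h1 (h hg), even_iff_two_dvd.2 ?_, fun t g t2 h1 h2 => ?_⟩
    · exact (orderOf_mk a (hT.le ha)).trans a2 ▸ Subgroup.orderOf_dvd_natCard (x := (⟨a, hT.le ha⟩ : X)) _ (TM ha)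
    have hS := hT.of_le (le_inf hT.le TM) inf_le_left
    have p : ∀ t : X, orderOf t = 2 → t.1 ∈ M → ∃ k ∈ X ⊓ M, k * t * k⁻¹ ∈ T := fun t t2 h => by
      obtain ⟨k, hk, e⟩ := Syl.exists_conj_le hS (Q := zpowers t.1) (.of_card (n := 1) (by
        rw [Nat.card_zpowers, orderOf_coe, t2, pow_one])) (zpowers_le.2 ⟨t.2, h⟩)
      exact ⟨k, hk, conj_le_iff.1 e _ (mem_zpowers _)⟩
    obtain ⟨k, hk, e1⟩ := p t t2 h1
    obtain ⟨l, hl, e2⟩ := p (g * t * g⁻¹) (by rw [Inv.orderOf_conj', t2]) h2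
    have := H (l * g * k⁻¹) (mul_mem (mul_mem hl.1 g.2) (inv_mem hk.1)) _ e1
      (by rw [Inv.orderOf_conj', orderOf_coe, t2]) (by convert e2 using 1; simp [mul_assoc])
    exact (M.mul_mem_cancel_left hl.2).1 ((M.mul_mem_cancel_right (M.inv_mem hk.2)).1 this)
  have h2' : Inv.Rk2 X := ⟨⟨a, hT.le ha⟩, ⟨b, hT.le hb⟩, fun e => by simp [show a = 1 from congrArg Subtype.val e] at a2,
    fun e => by simp [show b = 1 from congrArg Subtype.val e] at b2, fun e => ab (congrArg Subtype.val e),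
    Subtype.ext (sq a2), Subtype.ext (sq b2), Subtype.ext hc⟩
  obtain ⟨Q, D, t, h⟩ := BS.exists_ro_quot hH h2'
  obtain ⟨u, hu, e⟩ := BS.RO.trans h (mt (BS.mem_of_quot hH h2' (x := ⟨g, hg⟩)) h1)
    (mt (BS.mem_of_quot hH h2' (x := ⟨g', hg'⟩)) h2)
  obtain ⟨u, hu', rfl⟩ := h.QH hu
  exact ⟨u, ⟨u.2, hu'⟩, BS.mem_of_quot hH h2' (x := ⟨g', hg'⟩⁻¹ * (u * ⟨g, hg⟩)) (by simpa using e)⟩

variable {K : Type*} [Field K] [Tw K]

/-- The action of `s r s` on the torus. -/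
def ww (l : Kˣ × Kˣ) : Kˣ × Kˣ := ws (wr (ws l))

theorem ws_ws (l : Kˣ × Kˣ) : ws (ws l) = l := by simp [ws]

theorem wr_wr (l : Kˣ × Kˣ) : wr (wr l) = l := by
  simp only [wr, map_inv, inv_pow, inv_inv]
  exact Prod.ext (by simp only; rw [mul_right_comm _ (σu l.2)]; simp) rfl

theorem ww_T4 {l : Kˣ × Kˣ} (h : l ∈ T4 K) : ww (wr (ww l)) = l := by
  have : (ww l).2 = 1 := by
    have e := mem_T4.1 h
    have := l.1.ne_zero
    refine Units.ext ?_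
    simp only [ww, ws, wr, map_mul, Units.val_mul, Units.val_inv_eq_inv_val, Units.val_pow_eq_pow_val, coe_σu, Units.val_one]
    rw [← e]
    field_simp
  rw [show wr (ww l) = ww l by simp [wr, this, Prod.ext_iff], ww, ww, ws_ws, wr_wr, ws_ws]

theorem U4_inv {v : V K} (h : v ∈ U4) (h2 : v * v = 1) : v ∈ Z := by
  have := @nm_zero _ _ _ v.b4
  dst v h; vs at *; grind

theorem U8_fix {l : T4 K} (h1 : l ≠ 1) {u : V K} (hu : u ∈ U8) (h : tor l u = u) : u = 1 := by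
  have := fix4 h1 h
  revert hu this; vs; tauto

theorem sq_one' {l : Kˣ × Kˣ} (h : l * l = 1) : l = 1 := by
  have k : ∀ a : Kˣ, a * a = 1 → a = 1 := fun a h => Units.ext (by
    have := congrArg Units.val h
    simp only [Units.val_mul, Units.val_one] at *
    grind)
  exact Prod.ext (k _ (congrArg Prod.fst h)) (k _ (congrArg Prod.snd h))

theorem sq_one {l : T4 K} (h : l * l = 1) : l = 1 := Subtype.ext (sq_one' (congrArg Subtype.val h))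

theorem T4_of_wr {l : Kˣ × Kˣ} (h : l * wr l = 1) : l ∈ T4 K := by
  have := congrArg (fun l => (l.1 : K)) h
  refine mem_T4.2 (σ_eq_one.1 ?_)
  simp only [wr, Prod.fst_mul, Units.val_mul, Units.val_pow_eq_pow_val, coe_σu, Prod.fst_one, Units.val_one, map_mul,
    σσ] at *
  grind

theorem T4_U4 (l : T4 K) {v : V K} (hv : v ∈ U4) : tor l v = v := by
  have h1 := mem_T4.1 l.2
  have h2 := T4_sq l.2
  dst v hv; vs; grind

theorem tor_U4 (l : Kˣ × Kˣ) {z : V K} (hz : z ∈ U4) : tor l z ∈ U4 := by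
  revert hz; vs; simp +contextual

theorem U4_w {v : V K} (hv : v ∈ U4) : v ∈ R ∧ ρs v ∈ Q ∧ ρr (ρs v) ∈ R ∧ ρs (ρr (ρs v)) ∈ U8 ∧
    (ρs (ρr (ρs v)) = 1 → v = 1) := by
  dst v hv; vs; simp

namespace GD

variable {G : Type*} [Group G] (c : GD K G) [Finite K] [Finite G]

omit [Finite K] [Finite G] in
theorem h_inj {l : T4 K} (h : c.h l = 1) : l = 1 :=
  T4_fix (y := x6 1) (by simp [x6]) (c.inj (by rw [← c.he, h]; simp))

theorem BD {v : V K} {d : G} (hd : d ∈ c.D) {l l' : T4 K} (e : c.e v * d * c.h l * (c.e v * d)⁻¹ = c.h l') :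
    d * c.h l * d⁻¹ = c.h l' ∧ tor l' v = v := by
  have h1 : c.e (v⁻¹ * tor l' v) = d * c.h l * d⁻¹ * (c.h l')⁻¹ := by
    rw [map_mul, map_inv, ← c.he, ← e]; group
  have h2 := c.SD_one ⟨_, h1⟩ (mul_mem (mul_mem (mul_mem hd (c.hD l)) (inv_mem hd)) (inv_mem (c.hD l')))
  rw [h2, map_eq_one_iff _ c.inj, inv_mul_eq_one] at h1
  exact ⟨mul_inv_eq_one.1 h2, h1.symm⟩

theorem cent_D8 {l : T4 K} (h1 : l ≠ 1) {g : G} (hg : g ∈ 𝐍(c.C)) (h : g ∈ 𝐂(c.h.range)) :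
    ∃ v ∈ U4, ∃ d ∈ c.D, (∀ l, d * c.h l = c.h l * d) ∧ g = c.e v * d := by
  have h' : ∀ l, g * c.h l * g⁻¹ = c.h l := fun l => mul_inv_eq_iff_eq_mul.2 (mem_cent.1 h _ ⟨l, rfl⟩).symm
  obtain ⟨k, hk, b, hb, e⟩ := c.NC_dec (inv_mem hg)
  have : g ∈ 𝐍(c.S) := by
    rw [show g = b⁻¹ * k⁻¹ by rw [← mul_inv_rev, e, inv_inv]] at h' ⊢
    obtain ⟨v, l', e | ⟨u, hu, e⟩⟩ := (c.mem _).1 (inv_mem hk)
    · exact mul_mem (inv_mem hb) (e ▸ c.eh_NS v l')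
    exfalso
    obtain ⟨w, d, hd, e'⟩ := c.memB (mul_mem (inv_mem hb) (c.eh_NS v l'))
    rw [e, ← mul_assoc, ← mul_assoc, e'] at h'
    obtain ⟨l1, e1⟩ := c.D_h (inv_mem hd) l
    obtain ⟨φ, hφ⟩ := c.act (c.D_le (inv_mem hd))
    have u1 : u * (tor l u)⁻¹ = 1 := not_rB c.inj c.re (v := φ (w⁻¹ * tor l w)) (l := (l1 * l).1) (b := c.h (l1 * l))
      (mul_mem hu (inv_mem (tor_U8 _ hu))) (c.he _) (by
        rw [map_mul, map_inv, ← c.he, ← hφ, map_mul, map_inv, ← c.he, map_mul, ← e1]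
        calc _ = c.r * c.e u * c.h l * (c.r * c.e u)⁻¹ * (c.r * c.h l * c.r⁻¹)⁻¹ := by group
          _ = (c.e w * d)⁻¹ * (c.e w * d * c.r * c.e u * c.h l * (c.e w * d * c.r * c.e u)⁻¹) * (c.e w * d) * c.h l := by
            rw [c.rh]; group
          _ = _ := by rw [h']; group)
    obtain rfl := U8_fix h1 hu (mul_inv_eq_one.1 u1).symm
    have h2 := (c.BD (v := w) hd (l := l⁻¹) (l' := l) (by
      rw [map_inv, ← c.rh]; refine .trans ?_ (h' l); rw [map_one]; group)).1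
    have h3 := Inv.mul_self_eq_one_of_odd_inverts (c.oD.of_dvd_nat (Subgroup.orderOf_dvd_natCard _ hd))
      (h2.trans (by rw [map_inv, inv_inv]))
    rw [← map_mul] at h3
    exact h1 (inv_eq_one.1 (sq_one (c.h_inj h3)))
  obtain ⟨v, d, hd, rfl⟩ := c.memB this
  exact ⟨v, fix4 h1 (c.BD hd (h' l)).2, d, hd, fun l => mul_inv_eq_iff_eq_mul.1 (c.BD hd (h' l)).1, rfl⟩

theorem syl_D8 {l : T4 K} (h1 : l ≠ 1) : Syl 2 (U4.map c.e) 𝐂(c.h.range) := by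
  have h2 : U4.map c.e ≤ 𝐂(c.h.range) := by
    rintro _ ⟨v, hv, rfl⟩
    refine mem_cent.2 ?_
    rintro _ ⟨l, rfl⟩
    rw [← mul_inv_eq_iff_eq_mul, c.he, T4_U4 l hv]
  refine .of_norm (.of_max (le_inf h2 (le_norm _)) (pgroup_of_le c.pS (c.map_le _)) fun P hP _ h g hg => ?_)
  obtain ⟨t, ht, e⟩ := conj_mem_of_norm (h hg).2 ⟨x4 c.a, by change _ ∈ U4; vs, rfl⟩
  obtain ⟨v, hv, d, hd, -, rfl⟩ := c.cent_D8 h1 (c.nC_of ⟨t, U4_inv ht (G0.Pt.sq ⟨g, e.symm⟩), e⟩) (h hg).1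
  have := zpowers_le.1 (c.syl.ge_of_norm_p' le_top (pgroup_of_le hP (zpowers_le.2 hg))
    (zpowers_le.2 (mul_mem (le_norm _ ⟨v, rfl⟩) (c.D_le hd))))
  rw [c.SD_one ((c.S.mul_mem_cancel_left ⟨v, rfl⟩).1 this) hd, mul_one]
  exact ⟨v, hv, rfl⟩

namespace HS

variable {c} (x : c.HS)

/-- The product `s r s`. -/
def w : G := x.s * c.r * x.s

theorem s_inv : x.s⁻¹ = x.s := inv_eq_of_mul_eq_one_left x.ss

theorem w_inv : x.w⁻¹ = x.w := by rw [w, mul_inv_rev, mul_inv_rev, x.s_inv, c.r_inv, mul_assoc]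

theorem rh (l : Kˣ × Kˣ) : c.r * x.H l * c.r⁻¹ = x.H (wr l) := H_r x.hD x.he l

theorem wh (l : Kˣ × Kˣ) : x.w * x.H l * x.w⁻¹ = x.H (ww l) := by
  rw [ww, ← x.sh, ← x.rh, ← x.sh, w]; group

theorem we {v : V K} (hv : v ∈ U4) : x.w * c.e v * x.w⁻¹ = c.e (ρs (ρr (ρs v))) := by
  obtain ⟨h1, h2, h3, -⟩ := U4_w hv
  rw [← x.se _ h3, ← c.re _ h2, ← x.se _ h1, w]; group

/-- The conjugate of `r` by `s r s`. -/
def f : G := x.w⁻¹ * c.r * x.w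

theorem fh (l : Kˣ × Kˣ) : x.f * x.H l * x.f⁻¹ = x.H (ww (wr (ww l))) := by
  rw [← x.wh, ← x.rh, ← x.wh, f]; simp only [mul_inv_rev, x.w_inv, mul_assoc]

theorem eH (u : V K) (l : Kˣ × Kˣ) : c.e u * x.H l * (c.e u)⁻¹ = c.e (u * (tor l u)⁻¹) * x.H l := by
  rw [map_mul, map_inv, ← x.he]; group

theorem f_reg {u v : V K} (hu : u ∈ U4) (hv : v ∈ U4) {l : Kˣ × Kˣ} (h : x.f * c.e u * x.f⁻¹ = c.e v * x.H l) : u = 1 := by
  obtain ⟨-, -, -, h1, h2⟩ := U4_w hu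
  refine h2 (not_rB c.inj c.re h1 (x.he (ww l)) (v := ρs (ρr (ρs v))) ?_)
  rw [← x.we hu, ← x.we hv, ← x.wh, conj_mul, ← h, f]; group

theorem braid (hm : c.Main) {a : K} (a0 : a ≠ 0) (a1 : a ≠ 1) : (x.s * c.r) ^ 4 = (c.r * x.s) ^ 4 := by
  obtain ⟨l0, hl, e0⟩ := T4_ex_fst (Units.mk0 a a0)
  have a1' : Units.mk0 a a0 ≠ 1 := fun e => a1 (congrArg Units.val e)
  have h1 : (⟨l0, hl⟩ : T4 K) ≠ 1 := fun e => a1' (by rw [← e0, show l0 = 1 from congrArg Subtype.val e]; rfl)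
  have dec : ∀ g ∈ 𝐂(c.h.range), g ∈ 𝐍(c.C) → ∃ v ∈ U4, ∃ l, g = c.e v * x.H l := fun g h h' => by
    obtain ⟨v, hv, d, hd, h2, rfl⟩ := c.cent_D8 h1 h' h
    obtain ⟨l, rfl, -⟩ := H_lin x.hD x.he hd h2
    exact ⟨v, hv, l, rfl⟩
  have fT : ∀ l : T4 K, x.f * x.H l * x.f⁻¹ = x.H l := fun l => by rw [x.fh, ww_T4 l.2]
  have fY : x.f ∈ 𝐂(c.h.range) := mem_cent.2 (by
    rintro _ ⟨l, rfl⟩
    rw [← H_T4 x.hD x.he, eq_comm, ← mul_inv_eq_iff_eq_mul, fT])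
  have fM : x.f ∉ 𝐍(c.C) := fun h => by
    obtain ⟨v, hv, l, e⟩ := dec _ fY h
    have := x.f_reg (u := x4 1) (by vs) (mul_mem (mul_mem hv (tor_U4 l (by vs : x4 (1 : K) ∈ U4))) (inv_mem hv)) (l := 1) (by
      rw [e, map_mul, map_mul, ← x.he, map_inv, map_one]; group)
    exact one_ne_zero (x4_inj.1 this)
  have rN : c.r ∈ 𝐍(𝐂(c.h.range)) := norm_cent le_rfl (mem_normalizer_of_conj_le (conj_le_iff.2 (by
    rintro _ ⟨l, rfl⟩; exact ⟨l⁻¹, by rw [c.rh, map_inv]⟩)))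
  have rM : c.r ∈ 𝐍(c.C) := le_norm _ c.r_mem
  have gY := conj_mem_of_norm rN fY
  have gM : c.r * x.f * c.r⁻¹ ∉ 𝐍(c.C) := by rwa [mul_mem_cancel_right (inv_mem rM), mul_mem_cancel_left rM]
  obtain ⟨m, hm1, hm2⟩ := se_trans (c.syl_D8 h1) ((c.map_le _).trans (c.S_le.trans (le_norm _)))
    (a := c.e (x4 1)) (b := c.e (x4 a)) ⟨_, by change _ ∈ U4; vs, rfl⟩ ⟨_, by change _ ∈ U4; vs, rfl⟩
    (c.ord2 (mt x4_inj.1 one_ne_zero) (by clear * -; vp)) (c.ord2 (mt x4_inj.1 a0) (by clear * -; vp))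
    (fun e => a1 (congrArg V.c4 (c.inj e)).symm) (by rw [← map_mul, Z_comm (x4_mem _), map_mul]) (by
      rintro g - _ ⟨t, ht, rfl⟩ t2 ⟨t', ht', e⟩
      have sq : t * t = 1 := c.inj (by rw [map_mul, ← pow_two, ← t2, pow_orderOf_eq_one, map_one])
      refine hm.TI (U4_inv ht sq) (fun e => by simp [e] at t2) ⟨t', U4_inv ht' (c.inj ?_), e⟩
      rw [map_mul, e, conj_mul, ← map_mul, sq]; simp) fY fM gY gM
  obtain ⟨u, hu, l1, rfl⟩ := dec m hm1.1 hm1.2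
  obtain ⟨u', hu', l2, e⟩ := dec _ (inv_mem (mul_mem (inv_mem gY) (mul_mem hm1.1 fY))) (inv_mem hm2)
  set φ := fun l : Kˣ × Kˣ => ww (wr (ww l))
  have gh : ∀ l, c.r * x.f * c.r⁻¹ * x.H l * (c.r * x.f * c.r⁻¹)⁻¹ = x.H (wr (φ (wr l))) := fun l => by
    rw [← x.rh, ← x.fh, ← x.rh]; simp only [mul_inv_rev, c.r_inv, mul_assoc]
  have e' : c.r * x.f * c.r⁻¹ = c.e u * x.H l1 * x.f * (c.e u' * x.H l2) := by rw [← e]; group
  have cH : ∀ l l', x.H l * x.H l' * (x.H l)⁻¹ = x.H l' := fun l l' => by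
    rw [← map_mul, mul_comm, map_mul, mul_inv_cancel_right]
  have k : ∀ l, c.e u * x.H l1 * x.f * (c.e u' * x.H l * (c.e u')⁻¹) * (c.e u * x.H l1 * x.f)⁻¹ = x.H (wr (φ (wr l))) :=
    fun l => by rw [← gh, e']; nth_rw 1 [← cH l2 l]; group
  obtain rfl : u' = 1 := fixR a1' (U4_w hu').1 (mul_inv_eq_one.1 (x.f_reg (mul_mem hu' (inv_mem (tor_U4 (1, .mk0 a a0) hu')))
    (tor_U4 l1⁻¹ (mul_mem (inv_mem hu) (inv_mem (tor_U4 (wr (φ (wr (1, .mk0 a a0)))) (inv_mem hu)))))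
    (l := l1⁻¹ * (wr (φ (wr (1, .mk0 a a0))) * l1 * (φ (1, .mk0 a a0))⁻¹)) (by
      have := k (1, .mk0 a a0)
      rw [x.eH] at this
      rw [← x.he, map_mul x.H, map_mul x.H, map_mul x.H, ← mul_assoc, inv_mul_cancel_right, mul_assoc (x.H _),
        ← mul_assoc (c.e _), ← mul_assoc (c.e _), ← x.eH, ← this, map_inv x.H (φ _), ← x.fh, map_inv, map_inv]
      group))).symm
  have φφ : ∀ l, φ (φ l) = l := fun l => by simp only [φ, ww, ws_ws, wr_wr]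
  obtain rfl : u = 1 := fixR a1' (U4_w hu).1 (mul_inv_eq_one.1 (c.inj (.trans (c.SD_one ⟨_, rfl⟩ (by
    have := k (φ (1, .mk0 a a0))
    rw [map_one, one_mul, inv_one, mul_one] at this
    convert mul_mem (x.hD (wr (φ (wr (φ (1, .mk0 a a0)))))) (inv_mem (x.hD (1, .mk0 a a0))) using 1
    rw [← this, map_mul, map_inv, ← x.he]
    calc _ = c.e u * (x.H l1 * (x.H (φ (φ (1, .mk0 a a0)))) * (x.H l1)⁻¹) * (c.e u)⁻¹ * (x.H (1, .mk0 a a0))⁻¹ := by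
          rw [φφ, cH]; group
      _ = _ := by rw [← x.fh]; group)) (map_one _).symm))).symm
  have ff : x.f * x.f = 1 := by rw [f]; calc _ = x.w⁻¹ * (c.r * c.r) * x.w := by group
                                          _ = _ := by rw [c.rr]; group
  have f_inv : x.f⁻¹ = x.f := inv_eq_of_mul_eq_one_left ff
  replace e' : c.r * x.f * c.r⁻¹ = x.f * x.H (φ l1 * l2) := by
    rw [e', map_mul, ← x.fh, map_one, f_inv]; simp only [← mul_assoc, ff, one_mul, mul_one]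
  set l := φ l1 * l2
  have hl : l ∈ T4 K := T4_of_wr (H_inj x.hD x.he (mul_left_cancel (a := x.f) (by
    rw [map_mul, ← mul_assoc, ← e', ← x.rh, conj_mul, ← e', map_one, c.r_inv, ← mul_assoc, ← mul_assoc, c.rr, mul_assoc,
      mul_assoc, c.rr]; group)))
  have l1 : l = 1 := sq_one' (H_inj x.hD x.he (by
    calc _ = x.f * x.H l * (x.f * x.H l) := by
          rw [map_mul]; nth_rw 1 [← fT ⟨l, hl⟩]; rw [f_inv]; group
      _ = _ := by rw [← e', conj_mul, ff]; simp))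
  rw [l1, map_one, mul_one, mul_inv_eq_iff_eq_mul, f, x.w_inv, w] at e'
  simpa [pow_succ, mul_assoc] using e'.symm

/-- The root datum. -/
def full (hb : (x.s * c.r) ^ 4 = (c.r * x.s) ^ 4) : Full K G where
  e := c.e
  h := x.H
  r := c.r
  s := x.s
  f := c.f
  inj := c.inj
  he := x.he
  rr := c.rr
  ss := x.ss
  re := c.re
  se := x.se
  rh := x.rh
  sh := x.sh
  s3 := x.s3
  sz v h h' := by rw [H_T4 x.hD x.he]; exact c.sz v h h'
  braid := hb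

end HS

end GD

end Cfsg.Lib.RF4
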