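import Cfsg.Agent.Lib.RF4.Full
import Cfsg.Agent.Lib.BG.Hall

/-!
The centraliser of a central involution of the Sylow `2`-subgroup.
-/

set_option autoImplicit false

namespace Cfsg.Lib.RF4

open V Subgroup Cfsg.Lib.Hex Cfsg.Lib.BG Cfsg.Lib.Transfer

variable {K : Type*} [Field K] [Tw K]

theorem ρr_x4 (a : K) : ρr (x4 a) = x4 a := by vs

theorem x4_inj {a b : K} : x4 a = x4 b ↔ a = b := by vs

theorem tor_x4 (l : Kˣ × Kˣ) {a : K} (ha : a ≠ 0) : ∃ b ≠ 0, tor l (x4 a) = x4 b := by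
  refine ⟨_, fun e => ha ?_, eq_x4 (tor_Z l (x4_mem a))⟩
  have := eq_x4 (tor_Z l (x4_mem a))
  rw [e, show x4 (0 : K) = 1 from rfl, MulEquiv.map_eq_one_iff] at this
  exact x4_inj.1 this

theorem T4_Z (l : T4 K) {z : V K} (hz : z ∈ Z) : tor l z = z := by
  rw [eq_x4 hz]
  by_cases h : z.c4 = 0
  · rw [h]; exact map_one _
  · exact (T4_x4 h).2 l.2

variable (K) in
/-- The structure of the centraliser. -/
structure CD (C : Type*) [Group C] where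
  e : V K →* C
  h : T4 K →* C
  r : C
  f : V K → V K × T4 K × V K
  aut : Kˣ × Kˣ →* MulAut C
  inj : Function.Injective e
  he : ∀ l v, h l * e v * (h l)⁻¹ = e (tor l v)
  rr : r * r = 1
  re : ∀ v ∈ Q, r * e v * r⁻¹ = e (ρr v)
  rh : ∀ l, r * h l * r⁻¹ = (h l)⁻¹
  sz : ∀ x ∈ U8, x ≠ 1 → (f x).2.2 ∈ U8 ∧ r * e x * r = e (f x).1 * h (f x).2.1 * r * e (f x).2.2
  mem : ∀ g, ∃ v l, g = e v * h l ∨ ∃ u ∈ U8, g = e v * h l * r * e u
  ae : ∀ l v, aut l (e v) = e (tor l v)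
  ah : ∀ l l', aut l (h l') = h l'
  ar : ∀ l, aut l r = h ⟨l * (wr l)⁻¹, wr_mem l⟩ * r

/-- Transport along an isomorphism. -/
def CD.map {C C' : Type*} [Group C] [Group C'] (c : CD K C) (φ : C ≃* C') : CD K C' where
  e := φ.toMonoidHom.comp c.e
  h := φ.toMonoidHom.comp c.h
  r := φ c.r
  f := c.f
  aut := (MulAut.congr φ).toMonoidHom.comp c.aut
  inj := φ.injective.comp c.inj
  he l v := by simpa using congrArg φ (c.he l v)
  rr := by simpa using congrArg φ c.rr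
  re v hv := by simpa using congrArg φ (c.re v hv)
  rh l := by simpa using congrArg φ (c.rh l)
  sz x h1 h2 := ⟨(c.sz x h1 h2).1, by simpa using congrArg φ (c.sz x h1 h2).2⟩
  mem g := by
    obtain ⟨v, l, h | ⟨u, hu, h⟩⟩ := c.mem (φ.symm g)
    exacts [⟨v, l, .inl (by simpa using congrArg φ h)⟩, ⟨v, l, .inr ⟨u, hu, by simpa using congrArg φ h⟩⟩]
  ae l v := by simpa using c.ae l v
  ah l v := by simpa using c.ah l v
  ar l := by simpa using congrArg φ (c.ar l)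

namespace Full

variable {G : Type*} [Group G] (F : Full K G)

theorem x4_conj (v : V K) (a : K) : F.e v * F.e (x4 a) * (F.e v)⁻¹ = F.e (x4 a) := by
  rw [← map_mul, Z_comm (x4_mem a), map_mul, mul_inv_cancel_right]

theorem B_x4 {b : G} (hb : b ∈ F.e.range ⊔ F.h.range) {a : K} (ha : a ≠ 0) :
    ∃ c ≠ 0, b * F.e (x4 a) * b⁻¹ = F.e (x4 c) := by
  obtain ⟨_, ⟨v, rfl⟩, _, ⟨l, rfl⟩, rfl⟩ := F.r2.mem_B.1 hb
  obtain ⟨c, hc, e⟩ := tor_x4 l ha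
  exact ⟨c, hc, by rw [mul_inv_rev, ← F.x4_conj v c, ← e, ← F.he]; group⟩

theorem alt_x4 (i : Bool) {k : ℕ} (hk : k ≤ 8) {a c : K} (ha : a ≠ 0)
    (h : alt F.sf i k * F.e (x4 a) * (alt F.sf i k)⁻¹ = F.e (x4 c)) : alt F.sf i k = 1 ∨ alt F.sf i k = F.r := by
  obtain ⟨R, hR⟩ : ∃ R, MulAut.conj F.r = R := ⟨_, rfl⟩
  obtain ⟨S, hS⟩ : ∃ R, MulAut.conj F.s = R := ⟨_, rfl⟩
  have RR : ∀ x y, R x = y ↔ x = R y := fun x y => by
    rw [← R.eq_symm_apply, ← MulAut.inv_def, ← hR, ← map_inv, F.r_inv]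
  have SS : ∀ x y, S x = y ↔ x = S y := fun x y => by
    rw [← S.eq_symm_apply, ← MulAut.inv_def, ← hS, ← map_inv, F.s_inv]
  have r4 : ∀ a, R (F.e (x4 a)) = F.e (x4 a) := fun a => hR ▸ (F.re _ (by vs)).trans (by congr 1; vs)
  have s4 : ∀ a, S (F.e (x4 a)) = F.e (x6 a) := fun a => hS ▸ (F.se _ (by vs)).trans (by congr 1; vs)
  have r6 : ∀ a, R (F.e (x6 a)) = F.e (x2 a) := fun a => hR ▸ (F.re _ (by vs)).trans (by congr 1; vs)
  have s2 : ∀ a, S (F.e (x2 a)) = F.e (x8 a) := fun a => hS ▸ (F.se _ (by vs)).trans (by congr 1; vs)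
  have r8 : F.e (x8 a) ≠ R (F.e (x8 c)) := fun e => ha (by
    have := not_rB F.inj F.re (x := x8 a) (v := x8 c) (l := 1) (b := 1) (by vs) (by simp)
      (by simpa [← hR] using (RR _ _).2 e)
    revert this; vs; exact id)
  have n6 : F.e (x6 a) ≠ F.e (x4 c) := fun e => ha (by have := F.inj e; revert this; vs; tauto)
  have n2 : F.e (x2 a) ≠ F.e (x4 c) := fun e => ha (by have := F.inj e; revert this; vs; tauto)
  have n8 : F.e (x8 a) ≠ F.e (x4 c) := fun e => ha (by have := F.inj e; revert this; vs; tauto)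
  have n8' : F.e (x8 a) ≠ F.e (x2 c) := fun e => ha (by have := F.inj e; revert this; vs; tauto)
  change MulAut.conj _ _ = _ at h
  interval_cases k <;> cases i <;> simp only [alt, sf, cond_true, cond_false, Bool.not_true, Bool.not_false, mul_one,
    true_or, or_true] at h ⊢ <;>
    simp only [map_mul, MulAut.mul_apply, hR, hS, r4, s4, r6, s2, RR, SS, r8, n6, n2, n8, n8'] at h

theorem cent {g : G} (hg : g ∈ F.gen) {a c : K} (ha : a ≠ 0) (h : g * F.e (x4 a) * g⁻¹ = F.e (x4 c)) :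
    ∃ v l, g = F.e v * F.h l ∨ ∃ u ∈ U8, g = F.e v * F.h l * F.r * F.e u := by
  obtain ⟨b, hb, b', hb', i, k, hk, rfl⟩ := F.r2.cell hg
  obtain ⟨a', ha', e⟩ := F.B_x4 hb' ha
  obtain ⟨c', -, e'⟩ := F.B_x4 (inv_mem hb) (a := c) (fun e => ha (x4_inj.1 (F.inj (by
    rw [e, show x4 (0 : K) = 1 from rfl, map_one, conj_eq_one_iff] at h
    exact h.trans (map_one _).symm))))
  rcases F.alt_x4 i hk (c := c') ha' (by rw [← e', ← e, ← h]; group) with e | e <;> rw [e]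
  · obtain ⟨_, ⟨v, rfl⟩, _, ⟨l, rfl⟩, e⟩ := F.r2.mem_B.1 (mul_mem hb hb')
    exact ⟨v, l, .inl (by rw [mul_one, e])⟩
  obtain ⟨_, ⟨v, rfl⟩, _, ⟨l, rfl⟩, rfl⟩ := F.r2.mem_B.1 hb
  obtain ⟨_, ⟨w, rfl⟩, _, ⟨l', rfl⟩, e⟩ := F.r2.mem_B.1 (inv_mem hb')
  refine ⟨v * tor (l * wr l'⁻¹) (ρr (w⁻¹ * (y8 w⁻¹.b8 * x8 w⁻¹.c8)⁻¹)), l * wr l'⁻¹,
    .inr ⟨_, mem_U8' w⁻¹.b8 w⁻¹.c8, ?_⟩⟩
  rw [inv_eq_iff_eq_inv.1 e, map_mul F.e v, ← F.he, ← F.re _ (dec_Q _), map_mul F.h, ← F.rh, map_mul F.e w⁻¹,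
    map_inv, map_inv, map_inv]
  group

theorem h_T4 {a : K} (ha : a ≠ 0) {l : Kˣ × Kˣ} : F.h l ∈ 𝐂[F.e (x4 a)] ↔ l ∈ T4 K := by
  rw [mem_cent1, ← mul_inv_eq_iff_eq_mul, F.he, F.inj.eq_iff, T4_x4 ha]

theorem e_cent (a : K) (v : V K) : F.e v ∈ 𝐂[F.e (x4 a)] :=
  mem_cent1.2 (mul_inv_eq_iff_eq_mul.1 (F.x4_conj v a))

theorem r_cent (a : K) : F.r ∈ 𝐂[F.e (x4 a)] :=
  mem_cent1.2 (mul_inv_eq_iff_eq_mul.1 (by rw [F.re _ (by vs), ρr_x4]))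

theorem cent' (hF : F.gen = ⊤) {a : K} (ha : a ≠ 0) {g : G} (hg : g ∈ 𝐂[F.e (x4 a)]) :
    ∃ v, ∃ l : T4 K, g = F.e v * F.h l ∨ ∃ u ∈ U8, g = F.e v * F.h l * F.r * F.e u := by
  obtain ⟨v, l, h | ⟨u, hu, h⟩⟩ := F.cent (hF ▸ mem_top g) ha (mul_inv_eq_iff_eq_mul.2 (mem_cent1.1 hg))
  · exact ⟨v, ⟨l, (F.h_T4 ha).1 ((mul_mem_cancel_left (F.e_cent a v)).1 (h ▸ hg))⟩, .inl h⟩
  · exact ⟨v, ⟨l, (F.h_T4 ha).1 ((mul_mem_cancel_left (F.e_cent a v)).1 ((mul_mem_cancel_right (F.r_cent a)).1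
      ((mul_mem_cancel_right (F.e_cent a u)).1 (h ▸ hg))))⟩, .inr ⟨u, hu, h⟩⟩

theorem h_comm (l l' : Kˣ × Kˣ) : F.h l * F.h l' * (F.h l)⁻¹ = F.h l' := by
  rw [← map_mul, mul_comm l, map_mul, mul_inv_cancel_right]

theorem h_r (l : Kˣ × Kˣ) : F.h l * F.r * (F.h l)⁻¹ = F.h (l * (wr l)⁻¹) * F.r := by
  rw [map_mul, map_inv, ← F.rh]
  group

theorem h_norm (hF : F.gen = ⊤) {a : K} (ha : a ≠ 0) (l : Kˣ × Kˣ) : F.h l ∈ 𝐍(𝐂[F.e (x4 a)]) := by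
  refine (le_norm_iff (A := F.h.range)).2 ?_ ⟨l, rfl⟩
  rintro _ ⟨l, rfl⟩ g hg
  have h1 : ∀ v, F.h l * F.e v * (F.h l)⁻¹ ∈ 𝐂[F.e (x4 a)] := fun v => F.he l v ▸ F.e_cent _ _
  have h2 : ∀ v : T4 K, F.h l * F.h v * (F.h l)⁻¹ ∈ 𝐂[F.e (x4 a)] := fun v => by
    rw [F.h_comm, F.h_T4 ha]; exact v.2
  obtain ⟨v, l', rfl | ⟨u, -, rfl⟩⟩ := F.cent' hF ha hg <;> simp only [← conj_mul]
  · exact mul_mem (h1 _) (h2 _)
  · refine mul_mem (mul_mem (mul_mem (h1 _) (h2 _)) ?_) (h1 _)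
    rw [F.h_r]
    exact mul_mem ((F.h_T4 ha).2 (wr_mem l)) (F.r_cent a)

/-- The centraliser of a central involution. -/
def cd (hF : F.gen = ⊤) {a : K} (ha : a ≠ 0) : CD K 𝐂[F.e (x4 a)] where
  e := F.e.codRestrict _ (F.e_cent a)
  h := (F.h.comp (T4 K).subtype).codRestrict _ fun l => (F.h_T4 ha).2 l.2
  r := ⟨F.r, F.r_cent a⟩
  f := F.f
  aut := (normalizerMonoidHom _).comp (F.h.codRestrict _ (F.h_norm hF ha))
  inj _ _ h := F.inj (congrArg Subtype.val h)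
  he l v := Subtype.ext (F.he l v)
  rr := Subtype.ext F.rr
  re v h := Subtype.ext (F.re v h)
  rh l := Subtype.ext ((F.rh l).trans ((congrArg F.h (wr_T4 l.2)).trans (map_inv _ _)))
  sz x h1 h2 := ⟨(F.sz x h1 h2).1, Subtype.ext (F.sz x h1 h2).2⟩
  mem g := by
    obtain ⟨v, l, h | ⟨u, hu, h⟩⟩ := F.cent' hF ha g.2
    exacts [⟨v, l, .inl (Subtype.ext h)⟩, ⟨v, l, .inr ⟨u, hu, Subtype.ext h⟩⟩]
  ae l v := Subtype.ext (F.he l v)
  ah l v := Subtype.ext (F.h_comm l v)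
  ar l := Subtype.ext (F.h_r l)

/-- A homomorphism into the range of an embedding. -/
noncomputable def lift {A G' : Type*} [Group A] [Group G'] {ι : G' →* G} (hι : Function.Injective ι) (φ : A →* G)
    (h : ∀ a, φ a ∈ ι.range) : A →* G' :=
  (MonoidHom.ofInjective hι).symm.toMonoidHom.comp (φ.codRestrict _ h)

theorem lift_apply {A G' : Type*} [Group A] [Group G'] {ι : G' →* G} (hι : Function.Injective ι) (φ : A →* G)
    (h : ∀ a, φ a ∈ ι.range) (a : A) : ι (lift hι φ h a) = φ a :=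
  MonoidHom.apply_ofInjective_symm hι _

theorem pull {G' : Type*} [Group G'] {ι : G' →* G} (hι : Function.Injective ι) (h : F.gen = ι.range) :
    ∃ F' : Full K G', F'.gen = ⊤ := by
  obtain ⟨r, hr⟩ := h.le F.r_mem
  obtain ⟨s, hs⟩ := h.le F.s_mem
  have he := lift_apply hι F.e fun v => h.le (F.e_mem v)
  have hh := lift_apply hι F.h fun v => h.le (F.h_mem v)
  refine ⟨⟨lift hι F.e fun v => h.le (F.e_mem v), lift hι F.h fun v => h.le (F.h_mem v), r, s, F.f,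
    fun _ _ e => F.inj (by rw [← he, e, he]), fun l v => hι (by simp [*, F.he]), hι (by simp [*, F.rr]),
    hι (by simp [*, F.ss]), fun v hv => hι (by simp [*, F.re]), fun v hv => hι (by simp [*, F.se]),
    fun v => hι (by simp [*, F.rh]), fun v => hι (by simp [*, F.sh]), hι (by simp [*, F.s3]),
    fun x h1 h2 => ⟨(F.sz x h1 h2).1, hι (by simp [*, (F.sz x h1 h2).2])⟩,
    hι (by simp [*, F.braid])⟩, map_injective hι ?_⟩
  rw [← MonoidHom.range_eq_map]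
  refine Eq.trans ?_ h
  refine le_antisymm (map_le_iff_le_comap.2 (gen_le _ (fun v => ?_) (fun v => ?_) ?_ ?_))
    (F.gen_le (fun v => ⟨_, e_mem _ v, he v⟩) (fun v => ⟨_, h_mem _ v, hh v⟩) ⟨_, r_mem _, hr⟩ ⟨_, s_mem _, hs⟩)
  exacts [mem_comap.2 ((he v).symm ▸ F.e_mem v), mem_comap.2 ((hh v).symm ▸ F.h_mem v),
    mem_comap.2 (hr.symm ▸ F.r_mem), mem_comap.2 (hs.symm ▸ F.s_mem)]

end Full

end Cfsg.Lib.RF4
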