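import Cfsg.Agent.Lib.RF4.V
import Mathlib.Data.Nat.Factors
import Mathlib.Algebra.BigOperators.Group.List.Basic
import Mathlib.Tactic.Group

/-!
A verified collection process for words in one parameter families with polynomial arguments.
-/

set_option autoImplicit false

namespace Cfsg.Lib.RF4

variable {K : Type*} [Field K] [Tw K]

/-- The value of a monomial coded by its prime factorisation. -/
def evN (f : ℕ → K) (n : ℕ) : K := if n = 0 then 0 else (n.primeFactorsList.map f).prod

omit [Tw K] in
theorem evN_mul (f : ℕ → K) (a b : ℕ) : evN f (Nat.mul a b) = evN f a * evN f b := by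
  by_cases ha : a = 0
  · simp [evN, ha]
  by_cases hb : b = 0
  · simp [evN, hb]
  simp only [evN, Nat.mul_eq, ha, hb, mul_eq_zero, or_self, if_false, ← List.prod_append, ← List.map_append]
  exact ((Nat.perm_primeFactorsList_mul ha hb).map f).prod_eq

/-- The value of a polynomial. -/
def evP (f : ℕ → K) (p : List ℕ) : K := (p.map (evN f)).sum

/-- Sum modulo two. -/
noncomputable def addP (p : List ℕ) : List ℕ → List ℕ :=
  List.rec (motive := fun _ => List ℕ → List ℕ) (fun q => q) (fun a as ih q =>
    List.rec (motive := fun _ => List ℕ) (a :: as) (fun b bs ih' =>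
      cond (Nat.blt a b) (a :: ih (b :: bs)) (cond (Nat.beq a b) (ih bs) (b :: ih'))) q) p

theorem evP_add (f : ℕ → K) (p q : List ℕ) : evP f (addP p q) = evP f p + evP f q := by
  induction p generalizing q with
  | nil => simp [evP, addP]
  | cons a as ih =>
    induction q with
    | nil => simp [evP, addP]
    | cons b bs ih' =>
      change evP f (cond (Nat.blt a b) (a :: addP as (b :: bs)) (cond (Nat.beq a b) (addP as bs)
        (b :: addP (a :: as) bs))) = _
      have c : ∀ x l, evP f (x :: l) = evN f x + evP f l := fun _ _ => by simp [evP]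
      cases Nat.blt a b
      · cases e : Nat.beq a b
        · simp only [cond_false, c, ih']; ring
        · obtain rfl := Nat.eq_of_beq_eq_true e
          simp only [cond_false, cond_true, c, ih]; grind
      · simp only [cond_true, c, ih]; ring

/-- Product with a monomial. -/
noncomputable def smulP (m : ℕ) (q : List ℕ) : List ℕ :=
  List.rec (motive := fun _ => List ℕ) [] (fun b _ ih => Nat.mul m b :: ih) q

omit [Tw K] in
theorem evP_smul (f : ℕ → K) (m : ℕ) (q : List ℕ) : evP f (smulP m q) = evN f m * evP f q := by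
  induction q with
  | nil => simp [evP, smulP]
  | cons b bs ih =>
    change evP f (Nat.mul m b :: smulP m bs) = _
    simp only [evP, List.map_cons, List.sum_cons, evN_mul] at ih ⊢
    rw [ih]; ring

/-- Product modulo two. -/
noncomputable def mulP (p q : List ℕ) : List ℕ :=
  List.rec (motive := fun _ => List ℕ) [] (fun a _ ih => addP (smulP a q) ih) p

theorem evP_mul (f : ℕ → K) (p q : List ℕ) : evP f (mulP p q) = evP f p * evP f q := by
  induction p with
  | nil => simp [evP, mulP]
  | cons a as ih =>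
    change evP f (addP (smulP a q) (mulP as q)) = _
    rw [evP_add, evP_smul, ih]
    simp [evP, add_mul]

/-- Powers. -/
noncomputable def powP (p : List ℕ) (n : ℕ) : List ℕ :=
  Nat.rec (motive := fun _ => List ℕ) [1] (fun _ ih => mulP ih p) n

theorem evP_pow (f : ℕ → K) (p : List ℕ) (n : ℕ) : evP f (powP p n) = evP f p ^ n := by
  induction n with
  | zero => simp [evP, powP, evN]
  | succ n ih =>
    change evP f (mulP (powP p n) p) = _
    rw [evP_mul, ih, pow_succ]

/-- Expressions. -/
inductive Ex
  | v (i : ℕ)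
  | s (e : Ex)
  | add (a b : Ex)
  | mul (a b : Ex)
  | pow (a : Ex) (n : ℕ)
  | zero

/-- The value of an expression. -/
def Ex.ev (L : List K) : Ex → K
  | v i => L.getD i 0
  | s e => σ (e.ev L)
  | add a b => a.ev L + b.ev L
  | mul a b => a.ev L * b.ev L
  | pow a n => a.ev L ^ n
  | zero => 0

/-- The primes coding the variables. -/
def prL : List ℕ := [2, 3, 5, 7, 11, 13, 17, 19, 23, 29, 31, 37, 41, 43, 47, 53, 59, 61, 67, 71, 73, 79, 83, 89, 97,
  101, 103, 107, 109, 113, 127, 131, 137, 139, 149, 151, 157, 163, 167, 173, 179, 181, 191, 193, 197, 199, 211, 223]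

theorem prL_spec : ∀ i < 48, (prL.getD i 0).Prime ∧ prL.idxOf (prL.getD i 0) = i := by decide +kernel

/-- The values of the primes. -/
def valF (L : List K) (p : ℕ) : K :=
  if prL.idxOf p % 2 = 0 then L.getD (prL.idxOf p / 2) 0 else σ (L.getD (prL.idxOf p / 2) 0)

/-- Normal forms of an expression and of its twist. -/
noncomputable def Ex.nf (e : Ex) : List ℕ × List ℕ :=
  Ex.rec (motive := fun _ => List ℕ × List ℕ)
    (fun i => cond (Nat.blt i 24) ([prL.getD (2 * i) 0], [prL.getD (2 * i + 1) 0]) ([], []))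
    (fun _ p => (p.2, mulP p.1 p.1)) (fun _ _ p q => (addP p.1 q.1, addP p.2 q.2))
    (fun _ _ p q => (mulP p.1 q.1, mulP p.2 q.2)) (fun _ n p => (powP p.1 n, powP p.2 n)) ([], []) e

theorem evP_pr (L : List K) {i : ℕ} (hi : i < 48) : evP (valF L) [prL.getD i 0] =
    if i % 2 = 0 then L.getD (i / 2) 0 else σ (L.getD (i / 2) 0) := by
  obtain ⟨h1, h2⟩ := prL_spec i hi
  simp only [evP, evN, List.map_cons, List.map_nil, List.sum_cons, List.sum_nil, add_zero, h1.ne_zero, if_false,
    Nat.primeFactorsList_prime h1, List.prod_cons, List.prod_nil, mul_one, valF, h2]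

theorem Ex.nf_ev {L : List K} (hL : L.length ≤ 24) (e : Ex) :
    evP (valF L) e.nf.1 = e.ev L ∧ evP (valF L) e.nf.2 = σ (e.ev L) := by
  induction e with
  | v i =>
    change evP _ (cond _ _ _ : List ℕ × List ℕ).1 = _ ∧ evP _ (cond _ _ _ : List ℕ × List ℕ).2 = _
    cases e : Nat.blt i 24
    · have : L.length ≤ i := hL.trans (by simpa [← Bool.not_eq_true] using e)
      simp [evP, ev, List.getElem?_eq_none this]
    · have hi : i < 24 := by simpa using e
      simp only [cond_true, ev]
      rw [evP_pr L (by omega), evP_pr L (by omega), if_pos (by omega), if_neg (by omega),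
        show 2 * i / 2 = i by omega, show (2 * i + 1) / 2 = i by omega]
      exact ⟨rfl, rfl⟩
  | s e ih => exact ⟨ih.2, (evP_mul _ e.nf.1 e.nf.1).trans (by rw [ih.1, ev, σσ, sq])⟩
  | add a b ih ih' => exact ⟨(evP_add _ a.nf.1 b.nf.1).trans (by rw [ih.1, ih'.1, ev]),
      (evP_add _ a.nf.2 b.nf.2).trans (by rw [ih.2, ih'.2, ev, map_add])⟩
  | mul a b ih ih' => exact ⟨(evP_mul _ a.nf.1 b.nf.1).trans (by rw [ih.1, ih'.1, ev]),
      (evP_mul _ a.nf.2 b.nf.2).trans (by rw [ih.2, ih'.2, ev, map_mul])⟩
  | pow a n ih => exact ⟨(evP_pow _ a.nf.1 _).trans (by rw [ih.1, ev]),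
      (evP_pow _ a.nf.2 _).trans (by rw [ih.2, ev, map_pow])⟩
  | zero => simp [nf, evP, ev]

/-- The words produced by a commutation rule. -/
noncomputable def app (t u : List ℕ) (r : List (ℕ × ℕ × ℕ)) (w : List (ℕ × List ℕ)) : List (ℕ × List ℕ) :=
  List.rec (motive := fun _ => List (ℕ × List ℕ)) w
    (fun a _ ih => (a.1, mulP (powP u a.2.1) (powP t a.2.2)) :: ih) r

/-- Collection from the left; the first list is the reversed collected part. -/
noncomputable def col (key : ℕ → ℕ) (ok : ℕ → ℕ → Bool) (rule : ℕ → ℕ → List (ℕ × ℕ × ℕ)) (n : ℕ) :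
    List (ℕ × List ℕ) → List (ℕ × List ℕ) → List (ℕ × List ℕ) :=
  Nat.rec (motive := fun _ => List (ℕ × List ℕ) → List (ℕ × List ℕ) → List (ℕ × List ℕ))
    (fun acc w => acc.reverse ++ w) (fun _ ih acc w =>
    List.casesOn w acc.reverse fun b w =>
      List.casesOn b.2 (ih acc w) fun _ _ =>
        List.casesOn acc (ih [b] w) fun a acc' =>
          cond (Nat.blt (key a.1) (key b.1)) (ih (b :: a :: acc') w)
            (cond (Nat.beq a.1 b.1) (ih acc' ((a.1, addP a.2 b.2) :: w))
              (cond (ok a.1 b.1) (ih acc' (b :: a :: app a.2 b.2 (rule a.1 b.1) w))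
                ((a :: acc').reverse ++ b :: w)))) n

section
variable {G : Type*} [Group G] (X : ℕ → K → G)

/-- The value of a word. -/
def evW (f : ℕ → K) (w : List (ℕ × List ℕ)) : G := (w.map fun a => X a.1 (evP f a.2)).prod

variable {X} {key : ℕ → ℕ} {ok : ℕ → ℕ → Bool} {rule : ℕ → ℕ → List (ℕ × ℕ × ℕ)}

omit [Tw K] in
theorem evW_cons (f : ℕ → K) (a : ℕ × List ℕ) (w : List (ℕ × List ℕ)) :
    evW X f (a :: w) = X a.1 (evP f a.2) * evW X f w := rfl

omit [Tw K] in
theorem evW_append (f : ℕ → K) (w w' : List (ℕ × List ℕ)) : evW X f (w ++ w') = evW X f w * evW X f w' := by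
  simp [evW]

theorem evW_app (f : ℕ → K) (t u : List ℕ) (r : List (ℕ × ℕ × ℕ)) (w : List (ℕ × List ℕ)) : evW X f (app t u r w) =
    (r.map fun a => X a.1 (evP f u ^ a.2.1 * evP f t ^ a.2.2)).prod * evW X f w := by
  induction r with
  | nil => simp [app]
  | cons a r ih =>
    change evW X f (_ :: app t u r w) = _
    rw [evW_cons, ih, evP_mul, evP_pow, evP_pow, List.map_cons, List.prod_cons, mul_assoc]

theorem evW_col (h0 : ∀ i, X i 0 = 1) (h1 : ∀ i t u, X i (t + u) = X i t * X i u)
    (h2 : ∀ i j, ok i j = true → ∀ t u, X i t * X j u = X j u * X i t *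
      ((rule i j).map fun a => X a.1 (u ^ a.2.1 * t ^ a.2.2)).prod) (f : ℕ → K) (n : ℕ)
    (acc w : List (ℕ × List ℕ)) : evW X f (col key ok rule n acc w) = evW X f acc.reverse * evW X f w := by
  induction n generalizing acc w with
  | zero => exact evW_append _ _ _
  | succ n ih =>
    rcases w with _ | ⟨⟨j, _ | ⟨m, u⟩⟩, w⟩
    · exact (mul_one _).symm
    · exact (ih acc w).trans (by rw [evW_cons, show evP f [] = 0 from rfl, h0, one_mul])
    rcases acc with _ | ⟨⟨i, t⟩, acc⟩
    · exact (ih _ w).trans (by simp [evW])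
    change evW X f (cond (Nat.blt (key i) (key j)) (col key ok rule n _ w) (cond (Nat.beq i j)
      (col key ok rule n acc _) (cond (ok i j) (col key ok rule n acc _) _))) = _
    have c : ∀ a (l : List (ℕ × List ℕ)), evW X f (a :: l).reverse = evW X f l.reverse * X a.1 (evP f a.2) :=
      fun a l => by simp [evW]
    cases Nat.blt (key i) (key j)
    · cases e : Nat.beq i j
      · cases e' : ok i j
        · exact evW_append _ _ _
        · simp only [cond_false, cond_true, ih, evW_cons, c, evW_app]
          rw [mul_assoc, ← mul_assoc (X i _) (X j _), h2 i j e']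
          simp only [mul_assoc]
      · obtain rfl := Nat.eq_of_beq_eq_true e
        simp only [cond_false, cond_true, ih, evW_cons, c, evP_add, h1, mul_assoc]
    · simp only [cond_true, ih, evW_cons, c, mul_assoc]

/-- Normal forms of the arguments. -/
noncomputable def nfW (w : List (ℕ × Ex)) : List (ℕ × List ℕ) :=
  List.rec (motive := fun _ => List (ℕ × List ℕ)) [] (fun a _ ih => (a.1, a.2.nf.1) :: ih) w

theorem evW_nfW {L : List K} (hL : L.length ≤ 24) (w : List (ℕ × Ex)) :
    evW X (valF L) (nfW w) = (w.map fun a => X a.1 (a.2.ev L)).prod := by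
  induction w with
  | nil => rfl
  | cons a w ih =>
    change evW X _ (_ :: nfW w) = _
    rw [evW_cons, ih, (Ex.nf_ev hL _).1, List.map_cons, List.prod_cons]

theorem col_sound (h0 : ∀ i, X i 0 = 1) (h1 : ∀ i t u, X i (t + u) = X i t * X i u)
    (h2 : ∀ i j, ok i j = true → ∀ t u, X i t * X j u = X j u * X i t *
      ((rule i j).map fun a => X a.1 (u ^ a.2.1 * t ^ a.2.2)).prod) {n : ℕ} {w w' : List (ℕ × Ex)}
    (h : col key ok rule n [] (nfW w) = col key ok rule n [] (nfW w')) {L : List K} (hL : L.length ≤ 24) :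
    (w.map fun a => X a.1 (a.2.ev L)).prod = (w'.map fun a => X a.1 (a.2.ev L)).prod := by
  have := congrArg (evW X (valF L)) h
  rwa [evW_col h0 h1 h2, evW_col h0 h1 h2, evW_nfW hL, evW_nfW hL, mul_right_inj] at this

end

end Cfsg.Lib.RF4
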