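import Cfsg.Agent.Lib.RF4.V
import Cfsg.Agent.Lib.Hex.BN

/-!
Root data of octagon type and the Bruhat decomposition.
-/

set_option autoImplicit false

namespace Cfsg.Lib.RF4

open V Subgroup Cfsg.Lib.Hex

variable {K : Type*} [Field K] [Tw K]

theorem σ_inj {a b : K} : σ a = σ b ↔ a = b := (σ : K →+* K).injective.eq_iff

theorem σ_eq_zero {a : K} : σ a = 0 ↔ a = 0 := map_eq_zero _

theorem σ_eq_one {a : K} : σ a = 1 ↔ a = 1 := by rw [← σ_inj (a := a), map_one]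

theorem nm_zero {a : K} : a * σ a = 0 ↔ a = 0 := by simp

theorem nm_inj {a b : K} (h : a * σ a = b * σ b) : a = b := by
  by_cases ha : a = 0
  · rw [ha, zero_mul, eq_comm, nm_zero] at h
    rw [ha, h]
  have h1 := congrArg σ h
  simp only [map_mul, σσ] at h1
  refine mul_right_cancel₀ (mt nm_zero.1 ha) ?_
  grind

theorem nm_one {a : K} (h : a * σ a = 1) : a = 1 := nm_inj (by simpa using h)

theorem nm_surj [Finite K] (b : K) : ∃ a, a * σ a = b :=
  Finite.surjective_of_injective (f := fun a : K => a * σ a) (fun _ _ => nm_inj) b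

theorem σ_surj [Finite K] (b : K) : ∃ a, σ a = b := Finite.surjective_of_injective (σ : K →+* K).injective b

/-- The twist on units. -/
def σu : Kˣ →* Kˣ := Units.map (σ : K →+* K)

@[simp] theorem coe_σu (t : Kˣ) : (σu t : K) = σ (t : K) := rfl

/-- The action of the first reflection on the torus. -/
def wr (l : Kˣ × Kˣ) : Kˣ × Kˣ := (l.1 * l.2 ^ 2 * σu l.2, l.2⁻¹)

/-- The action of the second reflection on the torus. -/
def ws (l : Kˣ × Kˣ) : Kˣ × Kˣ := (l.1⁻¹, l.1 * l.2)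

variable (K) in
/-- The centraliser of `U₄` in the torus. -/
def T4 : Subgroup (Kˣ × Kˣ) where
  carrier := {l | σu l.1 * l.2 * σu l.2 = 1}
  one_mem' := by simp
  mul_mem' := fun {a b} ha hb => by
    simp only [Set.mem_ofPred_eq, Prod.fst_mul, Prod.snd_mul, map_mul] at *
    calc _ = σu a.1 * a.2 * σu a.2 * (σu b.1 * b.2 * σu b.2) := by ac_rfl
      _ = 1 := by rw [ha, hb, one_mul]
  inv_mem' := fun {a} ha => by
    simp only [Set.mem_ofPred_eq, Prod.fst_inv, Prod.snd_inv, map_inv] at *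
    rw [← mul_inv, ← mul_inv, ha, inv_one]

theorem mem_T4 {l : Kˣ × Kˣ} : l ∈ T4 K ↔ σ (l.1 : K) * l.2 * σ (l.2 : K) = 1 := by
  change _ = _ ↔ _
  simp [Units.ext_iff]

theorem T4_sq {l : Kˣ × Kˣ} (h : l ∈ T4 K) : (l.1 : K) ^ 2 * l.2 ^ 2 * σ (l.2 : K) = 1 := by
  have := congrArg σ (mem_T4.1 h)
  simp only [map_mul, σσ, map_one] at this
  grind

theorem wr_T4 {l : Kˣ × Kˣ} (h : l ∈ T4 K) : wr l = l⁻¹ := by
  refine Prod.ext (eq_inv_of_mul_eq_one_left (Units.ext ?_)) rfl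
  have := T4_sq h
  simp only [wr, Units.val_mul, Units.val_pow_eq_pow_val, coe_σu, Units.val_one]
  grind

theorem wr_mem (l : Kˣ × Kˣ) : l * (wr l)⁻¹ ∈ T4 K := by
  rw [mem_T4]
  simp only [wr, Prod.fst_mul, Prod.snd_mul, Prod.fst_inv, Prod.snd_inv, inv_inv, Units.val_mul,
    Units.val_inv_eq_inv_val, Units.val_pow_eq_pow_val, coe_σu, map_mul, map_inv₀, map_pow, σσ]
  have h1 := l.1.ne_zero
  have h2 := l.2.ne_zero
  have h3 := mt σ_eq_zero.1 h1
  have h4 := mt σ_eq_zero.1 h2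
  field_simp

theorem T4_fst {l : Kˣ × Kˣ} (h : l ∈ T4 K) (e : l.1 = 1) : l = 1 :=
  Prod.ext e (Units.ext (nm_one (by simpa [e] using mem_T4.1 h)))

theorem T4_snd {l : Kˣ × Kˣ} (h : l ∈ T4 K) (e : l.2 = 1) : l = 1 :=
  Prod.ext (Units.ext (σ_eq_one.1 (by simpa [e] using mem_T4.1 h))) e

theorem T4_ex_fst [Finite K] (a : Kˣ) : ∃ l ∈ T4 K, l.1 = a := by
  obtain ⟨b, hb⟩ := nm_surj (σ ((a⁻¹ : Kˣ) : K))
  have b0 : b ≠ 0 := fun e => a⁻¹.ne_zero (σ_eq_zero.1 (by rw [← hb, e, zero_mul]))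
  exact ⟨(a, Units.mk0 b b0), mem_T4.2 (by simp [mul_assoc, hb]), rfl⟩

theorem T4_ex_snd [Finite K] (b : Kˣ) : ∃ l ∈ T4 K, l.2 = b := by
  obtain ⟨a, ha⟩ := σ_surj (((b * σu b)⁻¹ : Kˣ) : K)
  have a0 : a ≠ 0 := fun e => Units.ne_zero _ (by rw [← ha, e, map_zero])
  refine ⟨(Units.mk0 a a0, b), mem_T4.2 ?_, rfl⟩
  have := (b * σu b).inv_mul
  simpa [ha, mul_assoc] using this

theorem T4_x4 {l : Kˣ × Kˣ} {a : K} (ha : a ≠ 0) : tor l (x4 a) = x4 a ↔ l ∈ T4 K := by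
  rw [mem_T4]
  vs
  rw [mul_eq_right₀ ha]
  refine ⟨fun h => nm_one ?_, fun h => ?_⟩
  · simp only [map_mul, σσ]; grind
  · have := congrArg σ h
    simp only [map_mul, σσ, map_one] at this
    grind

theorem Z_comm {z : V K} (hz : z ∈ Z) (v : V K) : v * z = z * v := by
  revert hz; vs; rintro ⟨h1, h2, h3, h4, h5, h6, h7, h8, h9, h10, h11⟩
  simp [*, add_comm]

theorem eq_x4 {z : V K} (hz : z ∈ Z) : z = x4 z.c4 := by revert hz; vs; tauto

theorem x4_mem (a : K) : x4 a ∈ (Z : Subgroup (V K)) := by vs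

theorem tor_Z (l : Kˣ × Kˣ) {z : V K} (hz : z ∈ Z) : tor l z ∈ Z := by
  revert hz; vs; simp +contextual

theorem dec_R (v : V K) : v * (x1 v.a1)⁻¹ ∈ R := by vs; grind

theorem dec_Q (v : V K) : v * (y8 v.b8 * x8 v.c8)⁻¹ ∈ Q := by vs; constructor <;> grind

theorem mem_U8' (a b : K) : y8 a * x8 b ∈ (U8 : Subgroup (V K)) := by vs

theorem x1_mem (a : K) : x1 a ∈ (U1 : Subgroup (V K)) := by vs

theorem tor_Q (l : Kˣ × Kˣ) {z : V K} (hz : z ∈ Q) : tor l z ∈ Q := by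
  revert hz; vs; simp +contextual

theorem tor_U8 (l : Kˣ × Kˣ) {z : V K} (hz : z ∈ U8) : tor l z ∈ U8 := by
  revert hz; vs; simp +contextual

/-- The iterated action of the reflections stays inside the positive roots. -/
def Good : Bool → ℕ → V K → Prop
  | _, 0, _ => True
  | true, k + 1, v => v ∈ R ∧ Good false k (ρs v)
  | false, k + 1, v => v ∈ Q ∧ Good true k (ρr v)

theorem Good.mono : ∀ {k : ℕ} {b : Bool} {v : V K}, Good b (k + 1) v → Good b k v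
  | 0, _, _, _ => trivial
  | _ + 1, true, _, h => ⟨h.1, h.2.mono⟩
  | _ + 1, false, _, h => ⟨h.1, h.2.mono⟩

theorem Good.of_le {k n : ℕ} {b : Bool} {v : V K} (h : Good b n v) (hk : k ≤ n) : Good b k v := by
  induction hk with
  | refl => exact h
  | step _ ih => exact ih h.mono

theorem good_U1 {v : V K} (h : v ∈ U1) : Good false 7 v := by
  revert h; simp only [Good]; vs; simp +contextual

theorem good_U8 {v : V K} (h : v ∈ U8) : Good true 7 v := by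
  revert h; simp only [Good]; vs; simp +contextual

variable (K) in
/-- A root datum of octagon type. -/
structure Full (G : Type*) [Group G] where
  e : V K →* G
  h : Kˣ × Kˣ →* G
  r : G
  s : G
  f : V K → V K × T4 K × V K
  inj : Function.Injective e
  he : ∀ l v, h l * e v * (h l)⁻¹ = e (tor l v)
  rr : r * r = 1
  ss : s * s = 1
  re : ∀ v ∈ Q, r * e v * r⁻¹ = e (ρr v)
  se : ∀ v ∈ R, s * e v * s⁻¹ = e (ρs v)
  rh : ∀ l, r * h l * r⁻¹ = h (wr l)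
  sh : ∀ l, s * h l * s⁻¹ = h (ws l)
  s3 : s * e (x1 1) * s = e (x1 1) * s * e (x1 1)
  sz : ∀ x ∈ U8, x ≠ 1 → (f x).2.2 ∈ U8 ∧ r * e x * r = e (f x).1 * h (f x).2.1 * r * e (f x).2.2
  braid : (s * r) ^ 4 = (r * s) ^ 4

theorem not_rB {G : Type*} [Group G] {e : V K →* G} (inj : Function.Injective e) {r b : G}
    (re : ∀ v ∈ Q, r * e v * r⁻¹ = e (ρr v)) {x v : V K} {l : Kˣ × Kˣ} (hx : x ∈ U8)
    (hb : ∀ w, b * e w * b⁻¹ = e (tor l w)) (h : r * e x * r⁻¹ = e v * b) : x = 1 := by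
  have h1 : e (ρr (x * x1 1 * x⁻¹)) = e (v * tor l (x7 1) * v⁻¹) := by
    rw [← re _ (by revert hx; vs; grind), map_mul e (v * _), map_mul e v, ← hb,
      show x7 (1 : K) = ρr (x1 1) by vs, ← re _ (by vs), map_inv,
      show e v * (b * (r * e (x1 1) * r⁻¹) * b⁻¹) * (e v)⁻¹ = e v * b * (r * e (x1 1) * r⁻¹) * (e v * b)⁻¹ by group, ← h,
      map_mul, map_mul, map_inv]
    have := re (x1 1) (by vs)
    group
  have h2 := congrArg V.b6 (inj h1)
  have h3 := congrArg V.b2 (inj h1)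
  revert hx h2 h3; vs
  rintro ⟨h1, h2, h3, h4, h5, h6, h7, h8, h9, h10⟩
  simp only [*, map_zero, mul_zero, add_zero, zero_add, true_and]
  grind

namespace Full

variable {G : Type*} [Group G] (F : Full K G)

/-- The reflections. -/
def sf (b : Bool) : G := cond b F.s F.r

/-- The simple root groups. -/
def X (b : Bool) : Subgroup G := (cond b U1 U8).map F.e

/-- The group generated by the datum. -/
def gen : Subgroup G := F.e.range ⊔ F.h.range ⊔ closure (Set.range F.sf)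

theorem r_inv : F.r⁻¹ = F.r := inv_eq_of_mul_eq_one_left F.rr

theorem s_inv : F.s⁻¹ = F.s := inv_eq_of_mul_eq_one_left F.ss

theorem e_mem (v : V K) : F.e v ∈ F.gen := mem_sup_left (mem_sup_left ⟨v, rfl⟩)

theorem h_mem (l : Kˣ × Kˣ) : F.h l ∈ F.gen := mem_sup_left (mem_sup_right ⟨l, rfl⟩)

theorem r_mem : F.r ∈ F.gen := mem_sup_right (subset_closure ⟨false, rfl⟩)

theorem s_mem : F.s ∈ F.gen := mem_sup_right (subset_closure ⟨true, rfl⟩)

theorem gen_le {M : Subgroup G} (h1 : ∀ v, F.e v ∈ M) (h2 : ∀ l, F.h l ∈ M) (h3 : F.r ∈ M) (h4 : F.s ∈ M) :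
    F.gen ≤ M := by
  refine sup_le (sup_le ?_ ?_) ((closure_le _).2 ?_)
  · rintro _ ⟨v, rfl⟩; exact h1 v
  · rintro _ ⟨v, rfl⟩; exact h2 v
  · rintro _ ⟨_ | _, rfl⟩; exacts [h3, h4]

theorem chain : ∀ {k : ℕ} {b : Bool} {v : V K}, Good b k v → (alt F.sf b k)⁻¹ * F.e v * alt F.sf b k ∈ F.e.range
  | 0, _, v, _ => ⟨v, by simp [alt]⟩
  | k + 1, true, v, h => by
    have := chain h.2
    rw [← F.se v h.1] at this
    simpa [alt, sf, F.s_inv, mul_assoc] using this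
  | k + 1, false, v, h => by
    have := chain h.2
    rw [← F.re v h.1] at this
    simpa [alt, sf, F.r_inv, mul_assoc] using this

theorem r1s {t : K} (ht : t ≠ 0) : F.s * F.e (x1 t) * F.s =
    F.e (x1 t⁻¹) * F.h (ws (Units.mk0 t ht, 1) * (Units.mk0 t ht, 1)⁻¹) * F.s * F.e (x1 t⁻¹) := by
  set l : Kˣ × Kˣ := (Units.mk0 t ht, 1)
  have h1 : F.e (x1 t) = F.h l * F.e (x1 1) * (F.h l)⁻¹ := by rw [F.he]; congr 1; vs; simp [l]
  have h2 : F.e (x1 t⁻¹) = F.h (ws l) * F.e (x1 1) * (F.h (ws l))⁻¹ := by rw [F.he]; congr 1; vs; simp [l, ws]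
  have h3 := F.sh l
  have h4 : F.h l * F.h (ws l) = F.h (ws l) * F.h l := by rw [← map_mul, mul_comm, map_mul]
  have h5 : F.s * F.h (ws l) = F.h l * F.s := by rw [← h3, F.s_inv, ← mul_assoc, ← mul_assoc, F.ss, one_mul]
  calc _ = (F.s * F.h l * F.s⁻¹) * (F.s * F.e (x1 1) * F.s) * (F.s * F.h l * F.s⁻¹)⁻¹ := by
        rw [h1, mul_inv_rev, mul_inv_rev, inv_inv, F.s_inv]
        simp only [mul_assoc, ← mul_assoc F.s F.s, F.ss, one_mul]
    _ = _ := by
        rw [h3, F.s3, h2, map_mul, map_inv]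
        simp only [mul_assoc, inv_mul_cancel_left, ← mul_assoc F.s (F.h _), h5]

theorem r2 : R2 8 F.sf F.h.range F.e.range F.X where
  pos := by decide
  sT := by
    rintro (_ | _) _ ⟨l, rfl⟩
    exacts [⟨_, (F.rh l).symm⟩, ⟨_, (F.sh l).symm⟩]
  ss := by
    rintro (_ | _)
    exacts [F.rr ▸ one_mem _, F.ss ▸ one_mem _]
  braid := by simpa [alt, sf, pow_succ, mul_assoc] using F.braid
  TU := by
    rintro _ ⟨l, rfl⟩ _ ⟨v, rfl⟩
    exact ⟨_, (F.he l v).symm⟩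
  dec := by
    rintro (_ | _) _ ⟨v, rfl⟩
    · exact ⟨_, ⟨_, (F.re _ (dec_Q v)).symm⟩, _, ⟨_, mem_U8' v.b8 v.c8, rfl⟩, by rw [← map_mul, inv_mul_cancel_right]⟩
    · exact ⟨_, ⟨_, (F.se _ (dec_R v)).symm⟩, _, ⟨x1 v.a1, x1_mem _, rfl⟩, by simp⟩
  r1 := by
    rintro (_ | _) _ ⟨v, hv, rfl⟩
    · by_cases e : v = 1
      · exact .inl (by rw [e, map_one])
      · exact .inr ⟨_, mul_mem_sup ⟨_, rfl⟩ ⟨_, rfl⟩, _, ⟨_, (F.sz v hv e).1, rfl⟩, (F.sz v hv e).2⟩
    · obtain ⟨t, rfl⟩ : ∃ t, v = x1 t := ⟨v.a1, by revert hv; change v ∈ U1 → _; vs; tauto⟩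
      by_cases e : t = 0
      · exact .inl (by rw [e]; exact map_one _)
      · exact .inr ⟨_, mul_mem_sup ⟨_, rfl⟩ ⟨_, rfl⟩, _, ⟨x1 t⁻¹, x1_mem _, rfl⟩, F.r1s e⟩
  chain := by
    rintro (_ | _) k hk _ ⟨v, hv, rfl⟩
    exacts [F.chain ((good_U8 hv).of_le (by omega)), F.chain ((good_U1 hv).of_le (by omega))]

theorem eh_one {v : V K} {l : Kˣ × Kˣ} (h : F.e v * F.h l = 1) : v = 1 ∧ l = 1 := by
  have k : ∀ w, v * tor l w * v⁻¹ = w := fun w => F.inj (by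
    rw [map_mul, map_mul, ← F.he, map_inv, ← mul_assoc, ← mul_assoc, h, mul_assoc, ← mul_inv_rev, h]; simp)
  have h1 := congrArg V.a1 (k (x1 1))
  have h2 := congrArg V.b8 (k (y8 1))
  vs at h1 h2
  obtain rfl : l = 1 := Prod.ext (Units.ext (show (l.1 : K) = 1 by grind)) (Units.ext (show (l.2 : K) = 1 by grind))
  exact ⟨F.inj (by simpa using h), rfl⟩

theorem nd (i : Bool) : ¬ ∀ x ∈ F.X i, F.sf i * x * (F.sf i)⁻¹ ∈ F.e.range := fun H => by
  cases i
  · obtain ⟨v, hv⟩ := H _ ⟨x8 1, show x8 1 ∈ U8 by vs, rfl⟩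
    have := not_rB F.inj F.re (x := x8 1) (v := v) (l := 1) (b := 1) (by vs) (by simp) (by simpa [sf] using hv.symm)
    revert this; vs; simp
  · obtain ⟨v, hv⟩ := H _ ⟨x1 1, x1_mem _, rfl⟩
    have h1 := congrArg F.e (Z_comm (x4_mem 1) v)
    rw [map_mul, map_mul, hv, show x4 (1 : K) = ρs (x6 1) by vs, ← F.se _ (by vs)] at h1
    have h2 : F.e (x1 1 * x6 1) = F.e (x6 1 * x1 1) := by
      simp only [sf, cond_true, ← mul_assoc, inv_mul_cancel_right, mul_left_inj] at h1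
      simpa [mul_assoc] using h1
    have := F.inj h2
    revert this; vs; simp

/-- The product of two data. -/
def prod {G' : Type*} [Group G'] (F' : Full K G') (hf : F.f = F'.f) : Full K (G × G') where
  e := F.e.prod F'.e
  h := F.h.prod F'.h
  r := (F.r, F'.r)
  s := (F.s, F'.s)
  f := F.f
  inj _ _ h := F.inj (congrArg Prod.fst h)
  he l v := Prod.ext (F.he l v) (F'.he l v)
  rr := Prod.ext F.rr F'.rr
  ss := Prod.ext F.ss F'.ss
  re v h := Prod.ext (F.re v h) (F'.re v h)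
  se v h := Prod.ext (F.se v h) (F'.se v h)
  rh l := Prod.ext (F.rh l) (F'.rh l)
  sh l := Prod.ext (F.sh l) (F'.sh l)
  s3 := Prod.ext F.s3 F'.s3
  sz x h h' := ⟨(F.sz x h h').1, Prod.ext (F.sz x h h').2 (hf ▸ (F'.sz x h h').2 :)⟩
  braid := Prod.ext F.braid F'.braid

theorem inj_of {D : Type*} [Group D] (P : Full K D) (π : D →* G) (h1 : π.comp P.e = F.e) (h2 : π.comp P.h = F.h)
    (h3 : ∀ i, π (P.sf i) = F.sf i) : P.gen.map π = F.gen ∧ ∀ g ∈ P.gen, π g = 1 → g = 1 := by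
  have k1 : ∀ v, π (P.e v) = F.e v := fun v => h1 ▸ rfl
  have k2 : ∀ v, π (P.h v) = F.h v := fun v => h2 ▸ rfl
  refine ⟨?_, fun g hg e => P.r2.inj π (fun i H => F.nd i ?_) ?_ hg e⟩
  · rw [gen, gen, Subgroup.map_sup, Subgroup.map_sup, MonoidHom.map_range, MonoidHom.map_range, h1, h2,
      MonoidHom.map_closure, ← Set.range_comp, show π ∘ P.sf = F.sf from funext h3]
  · rintro _ ⟨v, hv, rfl⟩
    have := H _ ⟨v, hv, rfl⟩
    rwa [MonoidHom.map_range, h1, map_mul, map_mul, map_inv, h3, k1] at this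
  · rintro _ ⟨v, rfl⟩ _ ⟨l, rfl⟩ e
    rw [map_mul, k1, k2] at e
    simp [(F.eh_one e).1, (F.eh_one e).2]

theorem iso {G' : Type*} [Group G'] (F' : Full K G') (hf : F.f = F'.f) : Nonempty (F.gen ≃* F'.gen) :=
  have h1 := F.inj_of (F.prod F' hf) (.fst _ _) rfl rfl (by rintro (_ | _) <;> rfl)
  have h2 := F'.inj_of (F.prod F' hf) (.snd _ _) rfl rfl (by rintro (_ | _) <;> rfl)
  iso_of_prod h1.1 h2.1 h1.2 h2.2

end Full

end Cfsg.Lib.RF4
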