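import Cfsg.Agent.Lib.RF4.VL
import Cfsg.Agent.Lib.GW.Basic

/-!
Groups with an involution centraliser as in the large Ree groups: the basic set-up.
-/

set_option autoImplicit false

namespace Cfsg.Lib.RF4

open V Subgroup Cfsg.Lib.BG Cfsg.Lib.Transfer Cfsg.Lib.GW

variable {K : Type*} [Field K] [Tw K]

variable (K) in
/-- The structure of the subgroup `C`. -/
structure B0 (G : Type*) [Group G] where
  e : V K →* G
  h : T4 K →* G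
  r : G
  f : V K → V K × T4 K × V K
  C : Subgroup G
  inj : Function.Injective e
  he : ∀ l v, h l * e v * (h l)⁻¹ = e (tor l v)
  rr : r * r = 1
  re : ∀ v ∈ Q, r * e v * r⁻¹ = e (ρr v)
  rh : ∀ l, r * h l * r⁻¹ = (h l)⁻¹
  sz : ∀ x ∈ U8, x ≠ 1 → (f x).2.2 ∈ U8 ∧ r * e x * r = e (f x).1 * h (f x).2.1 * r * e (f x).2.2
  mem : ∀ g, g ∈ C ↔ ∃ v l, g = e v * h l ∨ ∃ u ∈ U8, g = e v * h l * r * e u

variable (K) in
/-- The hypothesis. -/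
structure G0 (G : Type*) [Group G] extends B0 K G where
  a : K
  a0 : a ≠ 0
  syl : Syl 2 e.range ⊤
  nC : 𝐂[e (x4 a)] ≤ 𝐍(C)
  oH : Od 𝐂[e (x4 a)] = ⊥

theorem Q_norm (v : V K) {w : V K} (h : w ∈ Q) : v * w * v⁻¹ ∈ Q := by dst w h; vp

theorem ρr_Q (v : V K) : ρr v ∈ Q := by vs

theorem CQ {v : V K} {l : T4 K} (h : ∀ w ∈ Q, v * tor l w * v⁻¹ = w) : v ∈ Z ∧ l = 1 := by
  have h1 := congrArg V.a1 (h (x1 1) (by vs))
  obtain rfl : l = 1 := Subtype.ext (T4_fst l.2 (Units.ext (by vs at h1; simp only [Units.val_one]; grind)))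
  simp only [OneMemClass.coe_one, map_one, MulAut.one_apply, mul_inv_eq_iff_eq_mul] at h
  have h1 := h (x1 1) (by vs)
  have h3 := h (y2 1) (by vs)
  have h4 := h (y4 1) (by vs)
  have h5 := h (x7 1) (by vs)
  have h6 := h (x6 1) (by vs)
  have h7 := h (y6 1) (by vs)
  clear h
  vs at *
  grind

namespace B0

variable {G : Type*} [Group G] (c : B0 K G)

/-- The Sylow subgroup. -/
abbrev S : Subgroup G := c.e.range

theorem mem_map {N : Subgroup (V K)} {v : V K} : c.e v ∈ N.map c.e ↔ v ∈ N := mem_map_iff_mem c.inj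

theorem map_le (N : Subgroup (V K)) : N.map c.e ≤ c.S := map_le_range _ _

theorem r_inv : c.r⁻¹ = c.r := inv_eq_of_mul_eq_one_left c.rr

theorem e_mem (v : V K) : c.e v ∈ c.C := (c.mem _).2 ⟨v, 1, .inl (by simp)⟩

theorem h_mem (l : T4 K) : c.h l ∈ c.C := (c.mem _).2 ⟨1, l, .inl (by simp)⟩

theorem r_mem : c.r ∈ c.C := (c.mem _).2 ⟨1, 1, .inr ⟨1, one_mem _, by simp⟩⟩

theorem S_le : c.S ≤ c.C := by rintro _ ⟨v, rfl⟩; exact c.e_mem v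

theorem C_le {M : Subgroup G} (h1 : ∀ v, c.e v ∈ M) (h2 : ∀ l, c.h l ∈ M) (h3 : c.r ∈ M) : c.C ≤ M := fun g hg => by
  obtain ⟨v, l, rfl | ⟨u, -, rfl⟩⟩ := (c.mem g).1 hg
  exacts [mul_mem (h1 v) (h2 l), mul_mem (mul_mem (mul_mem (h1 v) (h2 l)) h3) (h1 u)]

theorem C_cent {z : V K} (hz : z ∈ Z) : c.C ≤ 𝐂[c.e z] := by
  refine c.C_le (fun v => mem_cent1.2 ?_) (fun l => mem_cent1.2 ?_) (mem_cent1.2 ?_)
  · rw [← map_mul, Z_comm hz, map_mul]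
  · rw [← mul_inv_eq_iff_eq_mul, c.he, T4_Z l hz]
  · rw [← mul_inv_eq_iff_eq_mul, eq_x4 hz, c.re _ (by vs), ρr_x4]

theorem C_conj {z : V K} (hz : z ∈ Z) {g : G} (hg : g ∈ c.C) : g * c.e z * g⁻¹ = c.e z :=
  mul_inv_eq_iff_eq_mul.2 (mem_cent1.1 (c.C_cent hz hg))

theorem e_ne {v : V K} (h : v ≠ 1) : c.e v ≠ 1 := fun e => h (c.inj (e.trans (map_one _).symm))

theorem ord2 {v : V K} (h : v ≠ 1) (h2 : v * v = 1) : orderOf (c.e v) = 2 :=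
  orderOf_eq_prime (by rw [sq, ← map_mul, h2, map_one]) (c.e_ne h)

theorem h_NS (l : T4 K) : ∀ x ∈ c.S, c.h l * x * (c.h l)⁻¹ ∈ c.S := by
  rintro _ ⟨v, rfl⟩; exact ⟨_, (c.he l v).symm⟩

theorem C_NQ : c.C ≤ 𝐍(Q.map c.e) := by
  refine le_norm_iff.2 fun g hg => ?_
  have k : ∀ v, ∀ x ∈ Q.map c.e, c.e v * x * (c.e v)⁻¹ ∈ Q.map c.e := by
    rintro v _ ⟨w, hw, rfl⟩; exact ⟨_, Q_norm v hw, by simp⟩
  have k' : ∀ l, ∀ x ∈ Q.map c.e, c.h l * x * (c.h l)⁻¹ ∈ Q.map c.e := by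
    rintro l _ ⟨w, hw, rfl⟩; exact ⟨_, tor_Q l hw, (c.he l w).symm⟩
  have k'' : ∀ x ∈ Q.map c.e, c.r * x * c.r⁻¹ ∈ Q.map c.e := by
    rintro _ ⟨w, hw, rfl⟩; exact ⟨_, ρr_Q w, (c.re w hw).symm⟩
  obtain ⟨v, l, rfl | ⟨u, -, rfl⟩⟩ := (c.mem g).1 hg <;> intro x hx
  · simpa [mul_assoc] using k v _ (k' l x hx)
  · simpa [mul_assoc] using k v _ (k' l _ (k'' _ (k u x hx)))

/-- The Bruhat decomposition and conjugation. -/
theorem bru {g : G} (hg : g ∈ c.C) {y y' : V K} (h : g * c.e y * g⁻¹ = c.e y') : (∃ v l, g = c.e v * c.h l) ∨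
    ∃ v, ∃ l : T4 K, ∃ u ∈ U8, ∃ w, c.r * c.e (u * y * u⁻¹) * c.r⁻¹ = c.e w ∧ y' = v * tor l w * v⁻¹ := by
  obtain ⟨v, l, rfl | ⟨u, hu, rfl⟩⟩ := (c.mem g).1 hg
  · exact .inl ⟨v, l, rfl⟩
  refine .inr ⟨v, l, u, hu, tor (l⁻¹ : T4 K) (v⁻¹ * y' * v), ?_, by
    rw [← MulAut.mul_apply, ← map_mul, ← coe_mul, mul_inv_cancel]; simp [mul_assoc]⟩
  rw [← c.he]
  simp only [map_mul, map_inv, ← h]
  group

theorem cent_Q {g : G} (hg : g ∈ c.C) (h : ∀ w ∈ Q, g * c.e w * g⁻¹ = c.e w) : g ∈ Z.map c.e := by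
  obtain ⟨v, l, rfl⟩ | ⟨v, l, u, hu, w, h1, h2⟩ := c.bru hg (h (x6 1) (by vs))
  · obtain ⟨hv, rfl⟩ := CQ (v := v) (l := l) fun w hw => c.inj (by
      rw [← h w hw, map_mul, map_mul, ← c.he, map_inv]; group)
    exact ⟨v, hv, by simp⟩
  rw [show u * x6 1 * u⁻¹ = x6 1 by dst u hu; vp, c.re _ (by vs)] at h1
  have := congrArg V.c2 h2
  rw [← c.inj h1] at this
  have h3 := l.1.1.ne_zero
  have h4 := l.1.2.ne_zero
  have h5 := mt σ_eq_zero.1 h3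
  have h6 := mt σ_eq_zero.1 h4
  vs at this
  simp only [map_add, map_mul] at this
  grind

variable [Finite K]

theorem odd_h (l : T4 K) : Odd (orderOf (c.h l)) :=
  (odd_T (K := K)).of_dvd_nat ((orderOf_map_dvd _ _).trans ((_root_.orderOf_dvd_natCard _).trans (card_subgroup_dvd_card _)))

theorem C_le' {M : Subgroup G} (h1 : ∀ v, c.e v ∈ M) (h2 : ∀ l, c.h l ∈ 𝐍(M)) (h3 : c.r ∈ M) : c.C ≤ M :=
  c.C_le h1 (fun l => mem_of_inverted (c.odd_h l) (c.rh l) (h2 l) h3) h3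

end B0

namespace G0

variable {G : Type*} [Group G] (c : G0 K G)

/-- The involution. -/
abbrev τ : G := c.e (x4 c.a)

theorem τ_ord : orderOf c.τ = 2 := c.ord2 (mt x4_inj.1 c.a0) (by vp)

variable [Finite K] [Finite G]

theorem pS : IsPGroup 2 c.S := c.syl.pgroup

theorem two_le {P : Subgroup G} (hP : IsPGroup 2 P) (h : P ≤ 𝐍(c.C)) : P ≤ c.C := by
  obtain ⟨g, hg, e⟩ := Syl.exists_le_conj (c.syl.of_le (c.S_le.trans (le_norm _)) le_top) hP h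
  exact e.trans (conj_le_of_norm c.S_le hg)

theorem nC_of {g : G} (h : g * c.τ * g⁻¹ ∈ Z.map c.e) : g ∈ 𝐍(c.C) := by
  obtain ⟨z, hz, e⟩ := h
  have h1 : c.C ≤ 𝐍(g ⋆ c.C) := by
    rw [← conj_normalizer]
    exact (c.C_cent hz).trans (by rw [e, ← conj_cent1]; exact conj_mono _ c.nC)
  have h2 : ∀ P ≤ c.C, IsPGroup 2 P → P ≤ g ⋆ c.C := fun P hP h2 => le_conj_iff_inv_conj_le.2
    (c.two_le (isPGroup_conj h2 _) (le_conj_iff_inv_conj_le.1 (by rw [conj_normalizer]; exact hP.trans h1)))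
  refine norm_of_conj_eq (eq_of_le_of_card_le (c.C_le' (fun v => h2 _ c.S_le c.pS ⟨v, rfl⟩)
    (fun l => h1 (c.h_mem l)) (h2 _ (zpowers_le.2 c.r_mem) ?_ (mem_zpowers _))) (card_conj _ _).le).symm
  exact .of_card_dvd_pow (n := 1) (by
    rw [Nat.card_zpowers]; exact orderOf_dvd_of_pow_eq_one (by rw [pow_one, sq, c.rr]))

theorem cC : 𝐂(c.C) ≤ Z.map c.e := by
  have h1 : 𝐂(c.C) ≤ 𝐂[c.τ] := cent_le_cent1 (c.e_mem _)
  have h2 : Z.map c.e ≤ 𝐂(c.C) := by rintro _ ⟨z, hz, rfl⟩; exact le_cent1_iff.1 (c.C_cent hz)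
  have h3 : ∀ g ∈ c.C, g ∈ 𝐂(c.C) → g ∈ Z.map c.e := fun g hg h => c.cent_Q hg fun w _ =>
    mul_inv_eq_iff_eq_mul.2 (mem_cent.1 h _ (c.e_mem w)).symm
  have h4 : 𝐂(c.C) ≤ 𝐂(Z.map c.e) := cent_anti ((c.map_le _).trans c.S_le)
  have h5 : Syl 2 (Z.map c.e) 𝐂(c.C) := Syl.of_max h2 (pgroup_of_le c.pS (c.map_le _)) fun P hP _ h g hg =>
    h3 g (c.two_le hP (h.trans (cent_le_norm _)) hg) (h hg)
  obtain ⟨E, hE, hE'⟩ := h5.exists_compl (norm_of_cent h4)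
  have h6 : 𝐂(c.C) ≤ 𝐍(E) := hE.sup ▸ sup_le (norm_of_cent (cent_symm (hE'.le.trans h4))) (le_norm _)
  have h7 := le_Od ⟨hE'.le.trans h1, (norm_cent c.nC).trans (hE'.norm_le h6)⟩ (pi_odd_iff.1 hE'.pi)
  rw [← hE.sup, le_bot_iff.1 (h7.trans c.oH.le), sup_bot_eq]

/-- The action of the normaliser of the Sylow subgroup. -/
theorem act {g : G} (hg : g ∈ 𝐍(c.S)) : ∃ φ : MulAut (V K), ∀ v, g * c.e v * g⁻¹ = c.e (φ v) :=
  ⟨(MonoidHom.ofInjective c.inj).trans ((c.S.normalizerMonoidHom ⟨g, hg⟩).trans (MonoidHom.ofInjective c.inj).symm),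
    fun v => (MonoidHom.apply_ofInjective_symm c.inj (c.S.normalizerMonoidHom ⟨g, hg⟩ ⟨_, v, rfl⟩)).symm⟩

theorem NS_le {N : Subgroup (V K)} (h : ∀ φ : MulAut (V K), ∀ v ∈ N, φ v ∈ N) : 𝐍(c.S) ≤ 𝐍(N.map c.e) := by
  refine le_norm_iff.2 ?_
  rintro g hg _ ⟨v, hv, rfl⟩
  obtain ⟨φ, e⟩ := c.act hg
  exact ⟨_, h φ v hv, (e v).symm⟩

theorem NS_NC : 𝐍(c.S) ≤ 𝐍(c.C) := fun _ hg =>
  c.nC_of (conj_mem_of_norm (c.NS_le (fun φ _ => aut_Z φ) hg) ⟨_, x4_mem _, rfl⟩)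

theorem eh_NS (v : V K) (l : T4 K) : c.e v * c.h l ∈ 𝐍(c.S) :=
  mul_mem (le_norm _ ⟨v, rfl⟩) (mem_normalizer_of_conj_le (conj_le_iff.2 (c.h_NS l)))

theorem sol_NS : Group.IsSolvable 𝐍(c.S) := by
  obtain ⟨E, hE, hE'⟩ := (c.syl.of_le (le_norm _) le_top).exists_compl le_rfl
  exact hE.sup ▸ sol_sup (pgroup_sol c.pS) (odd_sol (pi_odd_iff.1 hE'.pi)) hE.norm

end G0

end Cfsg.Lib.RF4
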