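import Cfsg.Agent.Lib.RF4.Inv
import Cfsg.Agent.Lib.RF4.Setup

/-!
Fusion of the central involution.
-/

set_option autoImplicit false

namespace Cfsg.Lib.RF4

open V Subgroup Cfsg.Lib.BG Cfsg.Lib.Transfer Cfsg.Lib.GW

variable {K : Type*} [Field K] [Tw K]

theorem norm_Z2 (v : V K) {w : V K} (h : w ∈ Z2) : v * w * v⁻¹ ∈ Z2 := aut_Z2 (MulAut.conj v) h

theorem aut_iff {N : Subgroup (V K)} (h : ∀ φ : MulAut (V K), ∀ v ∈ N, φ v ∈ N) (v : V K) (l : Kˣ × Kˣ) {w : V K}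
    (hw : v * tor l w * v⁻¹ ∈ N) : w ∈ N := by
  simpa [mul_assoc] using h (MulAut.conj v * tor l)⁻¹ _ hw

namespace B0

variable {G : Type*} [Group G] (c : B0 K G)

theorem map_cent1 (y : V K) : 𝐂[y].map c.e = c.S ⊓ 𝐂[c.e y] := by
  ext x
  refine ⟨?_, ?_⟩
  · rintro ⟨v, hv, rfl⟩
    exact ⟨⟨v, rfl⟩, mem_cent1.2 (by rw [← map_mul, mem_cent1.1 hv, map_mul])⟩
  · rintro ⟨⟨v, rfl⟩, hv⟩
    exact ⟨v, mem_cent1.2 (c.inj (by simpa using mem_cent1.1 hv)), rfl⟩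

theorem bruQ {N : Subgroup (V K)} (h : ∀ φ : MulAut (V K), ∀ v ∈ N, φ v ∈ N) {y y' : V K} (hy : y ∈ Q) (hy' : y' ∈ N)
    (hn : ∀ u ∈ U8, ρr (u * y * u⁻¹) ∉ N) {g : G} (hg : g ∈ c.C) (e : g * c.e y * g⁻¹ = c.e y') :
    ∃ v l, g = c.e v * c.h l := by
  refine (c.bru hg e).resolve_right ?_
  rintro ⟨v, l, u, hu, w, h1, rfl⟩
  rw [c.re _ (Q_norm u hy)] at h1
  exact hn u hu (c.inj h1 ▸ aut_iff h v l hy')

theorem bru6 {y y' : V K} (hy : y ∈ Z2) (hy0 : y ∉ Z) (hy' : y' ∈ Z2) {g : G} (hg : g ∈ c.C)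
    (e : g * c.e y * g⁻¹ = c.e y') : ∃ v l, g = c.e v * c.h l :=
  c.bruQ (fun φ _ => aut_Z2 φ) (by revert hy; vs; tauto) hy' (fun u hu h => hy0 (by
    dst u hu; dst y hy; clear * - h; vs at *; grind)) hg e

theorem bru5 {m : K} (hm : m ≠ 0) {g : G} (hg : g ∈ c.C) (e : g * c.e (x5 m) * g⁻¹ = c.e (x5 m)) :
    ∃ v l, g = c.e v * c.h l :=
  c.bruQ (fun φ _ => aut_Z3 φ) (by vs) (by vs) (fun u hu h => hm (by
    dst u hu; clear * - h; vs at *; grind)) hg e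

theorem bru7 {m : K} (hm : m ≠ 0) {g : G} (hg : g ∈ c.C) (e : g * c.e (x7 m) * g⁻¹ = c.e (x7 m)) :
    ∃ v l, g = c.e v * c.h l :=
  c.bruQ (fun φ _ => aut_R φ) (by vs) (by vs) (fun u hu h => hm (by
    dst u hu; clear * - h; vs at *; grind)) hg e

theorem bru8 {m : K} (hm : m ≠ 0) (a : K) {y : V K} {g : G} (hg : g ∈ c.C)
    (e : g * c.e (x8 m * x4 a) * g⁻¹ = c.e y) : ∃ v l, g = c.e v * c.h l := by
  refine (c.bru hg e).resolve_right ?_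
  rintro ⟨v, l, u, hu, w, h1, -⟩
  rw [show u * (x8 m * x4 a) * u⁻¹ = x8 m * x4 a by dst u hu; vp, map_mul, ← conj_mul, c.re (x4 a) (by vs), ρr_x4,
    ← eq_mul_inv_iff_mul_eq, ← map_inv, ← map_mul] at h1
  have := not_rB c.inj c.re (x := x8 m) (l := 1) (b := 1) (by vs) (by simp) (h1.trans (mul_one _).symm)
  revert this; vs; exact hm

end B0

namespace G0

variable {G : Type*} [Group G] (c : G0 K G)

/-- The conjugates of the central involution. -/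
def Pt (x : G) : Prop := ∃ g, g * c.τ * g⁻¹ = x

variable {c} in
theorem Pt.conj {x : G} (h : c.Pt x) (g : G) : c.Pt (g * x * g⁻¹) := by
  obtain ⟨k, rfl⟩ := h
  exact ⟨g * k, by group⟩

theorem pt_τ : c.Pt c.τ := ⟨1, by simp⟩

variable {c} in
theorem Pt.ord {x : G} (h : c.Pt x) : orderOf x = 2 := by
  obtain ⟨k, rfl⟩ := h
  rw [← c.τ_ord]
  exact MulEquiv.orderOf_eq (MulAut.conj k) _

variable {c} in
theorem Pt.sq {v : V K} (h : c.Pt (c.e v)) : v * v = 1 :=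
  c.inj (by rw [map_mul, ← pow_two, ← h.ord, pow_orderOf_eq_one, map_one])

variable [Finite K] [Finite G]

/-- The normaliser of the centraliser in the Sylow subgroup moves the central involution. -/
theorem prin {y : V K} (hy : c.Pt (c.e y)) (hZ : y ∉ Z)
    (hb : ∀ g ∈ c.C, g * c.e y * g⁻¹ = c.e y → ∃ v l, g = c.e v * c.h l) :
    ∃ n ∈ 𝐍(𝐂[y].map c.e), ∃ t ∈ 𝐂[y], t ∉ Z ∧ (∀ w ∈ 𝐂[y], w * t = t * w) ∧ n * c.τ * n⁻¹ = c.e t := by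
  obtain ⟨g, hg⟩ := hy
  have h1 : Syl 2 (g ⋆ c.S) 𝐂[c.e y] := by
    rw [← hg, ← conj_cent1]
    exact (c.syl.of_le (c.S_le.trans (c.C_cent (x4_mem _))) le_top).conj g
  set T := 𝐂[y].map c.e with hT
  have hT' : T = c.S ⊓ 𝐂[c.e y] := c.map_cent1 y
  obtain ⟨k, hk, h2⟩ := Syl.exists_le_conj h1 (pgroup_of_le c.pS (c.map_le _)) (hT'.le.trans inf_le_right)
  have h3 : T < k ⋆ g ⋆ c.S := lt_of_le_of_ne h2 fun e => hZ (Z_of fun w => by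
    have : T = c.S := eq_of_le_of_card_le (c.map_le _) (by rw [e, card_conj, card_conj])
    exact (mem_cent1.1 (c.mem_map.1 (this.ge ⟨w, rfl⟩))).symm)
  have h4 := isPGroup_conj (isPGroup_conj c.pS g) k
  obtain ⟨n, ⟨hn, hn'⟩, hn''⟩ := SetLike.exists_of_lt (lt_inf_normalizer_of_lt h4 h3)
  have h5 : n ∈ 𝐂[c.e y] := conj_le_of_mem h1.le hk hn
  have hτ : c.τ ∈ 𝐙(T) := ⟨⟨_, mem_cent1.2 (Z_comm (x4_mem _) y).symm, rfl⟩,
    le_cent1_iff.1 ((c.map_le _).trans (c.S_le.trans (c.C_cent (x4_mem _))))⟩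
  obtain ⟨⟨t, ht, e⟩, h6⟩ := conj_mem_of_norm (norm_center (A := 𝐍(T)) le_rfl hn') hτ
  refine ⟨n, hn', t, ht, fun hz => hn'' ?_, fun w hw => c.inj ?_, e.symm⟩
  · have h7 : IsPGroup 2 (zpowers n) := pgroup_of_le h4 (zpowers_le.2 hn)
    have h8 := zpowers_le.1 (c.two_le h7 (zpowers_le.2 (c.nC_of ⟨t, hz, e⟩)))
    obtain ⟨v, l, e'⟩ := hb n h8 (mul_inv_eq_iff_eq_mul.2 (mem_cent1.1 h5))
    exact hT'.ge ⟨zpowers_le.1 (Syl.ge_of_norm_p' c.syl le_top h7 (zpowers_le.2 (e' ▸ c.eh_NS v l))), h5⟩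
  · rw [map_mul, map_mul, e]
    exact mem_cent.1 h6 _ ⟨w, hw, rfl⟩

theorem not_pt5 {m : K} (hm : m ≠ 0) : ¬ c.Pt (c.e (x5 m)) := fun h => by
  obtain ⟨n, hn, t, -, ht, -, e⟩ := c.prin h (by vs; exact hm) fun g hg => c.bru5 hm hg
  have k : ∀ W : Subgroup (V K), n ∈ 𝐍(W.map c.e) → n ∈ 𝐍(⁅W, 𝐂[x5 m]⁆.map c.e) := fun W hW => by
    rw [map_commutator]
    exact norm_comm (zpowers_le.2 hW) (zpowers_le.2 hn) (mem_zpowers n)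
  rcases cent5 hm c.a with ⟨h1, h2⟩ | ⟨h1, h2⟩
  · exact ht (h2 (c.mem_map.1 (e ▸ conj_mem_of_norm (k _ (k _ (k _ hn))) ⟨_, h1, rfl⟩)))
  · exact ht (h2 (c.mem_map.1 (e ▸ conj_mem_of_norm (k _ (k _ (k _ (k _ hn)))) ⟨_, h1, rfl⟩)))

theorem pt_of {y : V K} (hy : c.Pt (c.e y)) (hZ : y ∉ Z)
    (hb : ∀ g ∈ c.C, g * c.e y * g⁻¹ = c.e y → ∃ v l, g = c.e v * c.h l)
    (h : γ3 𝐂[y] ≤ V6 ∧ ∀ t, (∀ w ∈ 𝐂[y], w * t = t * w) → t ∈ 𝐂[y] → t ∉ Z2 → ∃ s, cm s t ∈ γ3 𝐂[y] ∧ cm s t ≠ 1) :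
    ∃ y ∈ Z2, y ∉ Z ∧ c.Pt (c.e y) := by
  obtain ⟨n, hn, t, h1, h2, h3, e⟩ := c.prin hy hZ hb
  by_cases h4 : t ∈ Z2
  · exact ⟨t, h4, h2, n, e⟩
  obtain ⟨s, h5, h6⟩ := h.2 t h3 h1 h4
  have k : n ∈ 𝐍((γ3 𝐂[y]).map c.e) := by
    rw [map_commutator, map_commutator]
    exact norm_comm (norm_der (zpowers_le.2 hn)) (zpowers_le.2 hn) (mem_zpowers n)
  obtain ⟨w, hw, e'⟩ := conj_mem_of_norm' k ⟨_, h5, rfl⟩
  have h7 : w ≠ 1 := fun h => h6 (c.inj (by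
    rw [h, map_one, eq_comm, mul_assoc, inv_mul_eq_one, right_eq_mul] at e'; rw [e', map_one]))
  have h8 := h.1 hw
  refine ⟨w * x4 c.a, ?_, ?_, n⁻¹ * c.e s * n, ?_⟩
  · clear * - h8; dst w h8; vp
  · clear * - h8 h7; dst w h8; vs at *; grind
  · rw [map_mul, e', map_cm, ← e, cm, τ]
    group

theorem pt_cl {v : V K} (h : Cl v) (hv : c.Pt (c.e v)) (hZ : v ∉ Z) : ∃ y ∈ Z2, y ∉ Z ∧ c.Pt (c.e y) := by
  induction h with
  | z2 h => exact ⟨_, h, hZ, hv⟩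
  | r5 h => exact absurd hv (c.not_pt5 h)
  | r7 h => exact c.pt_of hv hZ (fun g hg => c.bru7 h hg) (cent7 h)
  | r8 a h => exact c.pt_of hv hZ (fun g hg => c.bru8 h a hg) (cent8 h a)
  | conj w _ ih =>
    exact ih (by simpa using hv.conj (c.e w)) fun h => hZ (by simpa [mul_assoc] using aut_Z (MulAut.conj w⁻¹) h)
  | @refl v h _ ih =>
    refine ih (c.re v h ▸ hv.conj c.r) fun h' => hZ (c.mem_map.1 ⟨_, h', ?_⟩)
    rw [← c.C_conj h' c.r_mem, ← c.re v h, c.r_inv, ← mul_assoc, ← mul_assoc, c.rr, one_mul, mul_assoc, c.rr, mul_one]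

theorem pt_Z2 {v : V K} (hv : c.Pt (c.e v)) (hZ : v ∉ Z) : ∃ y ∈ Z2, y ∉ Z ∧ c.Pt (c.e y) :=
  c.pt_cl (cl hv.sq) hv hZ

end G0

end Cfsg.Lib.RF4
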