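import Cfsg.Agent.Lib.RF4.VL

/-!
Involutions of the Sylow `2`-subgroup.
-/

set_option autoImplicit false

namespace Cfsg.Lib.RF4

open V Subgroup Cfsg.Lib.BG

variable {K : Type*} [Field K] [Tw K]

/-- Elements conjugate to a standard representative. -/
inductive Cl : V K → Prop
  | z2 {y : V K} : y ∈ Z2 → Cl y
  | r5 {m : K} : m ≠ 0 → Cl (x5 m)
  | r7 {m : K} : m ≠ 0 → Cl (x7 m)
  | r8 {t : K} (c : K) : t ≠ 0 → Cl (x8 t * x4 c)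
  | conj {v : V K} (w : V K) : Cl (w * v * w⁻¹) → Cl v
  | refl {v : V K} : v ∈ Q → Cl (ρr v) → Cl v

theorem ex_mul {a : K} (ha : a ≠ 0) (b : K) : ∃ s, a * s = b := ⟨_, mul_div_cancel₀ b ha⟩

theorem ex_σ [Finite K] {a : K} (ha : a ≠ 0) (b : K) : ∃ s, a * σ s = b := by
  obtain ⟨s, hs⟩ := σ_surj (b / a)
  exact ⟨s, by rw [hs, mul_div_cancel₀ b ha]⟩

theorem sq_conj {G : Type*} [Group G] {v : G} (h : v * v = 1) (w : G) : w * v * w⁻¹ * (w * v * w⁻¹) = 1 := by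
  rw [conj_mul, h, mul_one, mul_inv_cancel]

theorem cl_Z3 {v : V K} (h : v ∈ Z3) : Cl v := by
  by_cases e : v.a5 = 0
  · exact .z2 (by revert h e; vs; tauto)
  obtain ⟨s, hs⟩ := ex_mul e v.c6
  obtain ⟨t, ht⟩ := ex_mul e v.c4
  refine .conj (y2 t * y8 s) ?_
  convert Cl.r5 e using 1
  dst v h; vp

theorem cl_A2 {v : V K} (h : v ∈ A) (h2 : v.c2 = 0 ∧ v.a5 = 0) : Cl v := by
  by_cases e : v.a3 = 0
  · exact cl_Z3 (by revert h e h2; vs; tauto)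
  obtain ⟨s, hs⟩ := ex_mul e v.c6
  refine .conj (x8 s) (.refl ?_ (cl_Z3 ?_)) <;> (dst v h; vp)

theorem cl_A3 [Finite K] {v : V K} (h : v ∈ A) (h2 : v.c2 = 0) : Cl v := by
  by_cases e : v.a3 = 0
  · exact cl_Z3 (by revert h e h2; vs; tauto)
  obtain ⟨s, hs⟩ := ex_σ e v.a5
  refine .conj (y8 s) (cl_A2 ?_ ?_) <;> (dst v h; vp)

theorem cl_A4 [Finite K] {v : V K} (h : v ∈ A) (h2 : v.c2 ≠ 0) (h3 : v.a3 = 0) : Cl v := by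
  obtain ⟨s, hs⟩ := ex_σ h2 v.c6
  refine .conj (x8 s) (.refl ?_ (cl_A3 ?_ ?_)) <;> (dst v h; vp)

theorem cl_A [Finite K] {v : V K} (h : v ∈ A) : Cl v := by
  by_cases e : v.c2 = 0
  · exact cl_A3 h e
  obtain ⟨s, hs⟩ := ex_mul e v.a3
  refine .conj (y8 s) (cl_A4 ?_ ?_ ?_) <;> (dst v h; vp)

theorem cl_71 {v : V K} (h : v ∈ A6) (h2 : v.c8 = 0 ∧ v.a5 = 0) (e : v.a7 ≠ 0) : Cl v := by
  obtain ⟨s, hs⟩ := ex_mul e v.c6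
  obtain ⟨t, ht⟩ := ex_mul e v.c4
  refine .conj (y4 s * x2 t) ?_
  convert Cl.r7 e using 1
  dst v h; vp

theorem cl_72 [Finite K] {v : V K} (h : v ∈ A6) (h2 : v.c8 = 0) (e : v.a7 ≠ 0) : Cl v := by
  obtain ⟨s, hs⟩ := ex_σ e v.a5
  refine .conj (y2 s) (cl_71 ?_ ?_ ?_) <;> (dst v h; vp)

theorem cl_73 [Finite K] {v : V K} (h : v ∈ Xs) (h2 : v.c8 = 0 ∧ v.c2 = 0) (e : v.a7 ≠ 0) : Cl v := by
  obtain ⟨s, hs⟩ := ex_σ e v.a3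
  refine .conj (x1 s) (cl_72 ?_ ?_ ?_) <;> (dst v h; vp)

theorem cl_11 [Finite K] {v : V K} (hv : v * v = 1) (h : v ∈ Q) (h2 : v.b2 = 0 ∧ v.b6 = 0) (e : v.a1 ≠ 0) : Cl v := by
  have e' := mt σ_eq_zero.1 e
  have : v.b4 = 0 ∧ v.a7 = 0 ∧ v.c6 = 0 := by dst v h; vs at *; grind
  refine .refl h (cl_73 ?_ ?_ ?_) <;> (dst v h; clear hv; vp)

theorem cl_12 [Finite K] {v : V K} (hv : v * v = 1) (h : v ∈ Q) (h2 : v.b2 = 0) (e : v.a1 ≠ 0) : Cl v := by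
  obtain ⟨s, hs⟩ := ex_mul e v.b6
  refine .conj (x8 s) (cl_11 (sq_conj hv _) ?_ ?_ ?_) <;> (dst v h; clear hv; vp)

theorem cl_13 [Finite K] {v : V K} (hv : v * v = 1) (h : v ∈ Q) (e : v.a1 ≠ 0) : Cl v := by
  obtain ⟨s, hs⟩ := ex_mul e v.b2
  refine .conj (y8 s) (cl_12 (sq_conj hv _) ?_ ?_ ?_) <;> (dst v h; clear hv; vp)

theorem ρr_mul {v w : V K} (hv : v ∈ Q) (hw : w ∈ Q) : ρr (v * w) = ρr v * ρr w := by
  dst v hv; dst w hw; vp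

theorem cl_Q [Finite K] {v : V K} (hv : v * v = 1) (h : v ∈ Q) : Cl v := by
  by_cases e : v.a1 = 0
  swap
  · exact cl_13 hv h e
  by_cases e' : v.a7 = 0
  · refine cl_A ?_
    have h1 := @nm_zero _ _ _ v.b2
    have h2 := @nm_zero _ _ _ v.b4
    have h3 := @nm_zero _ _ _ v.b6
    dst v h; vs at *; grind
  exact .refl h (cl_13 (by rw [← ρr_mul h h, hv]; vs) (by vs) e')

theorem cl_81 {v : V K} (h : v ∈ A6) (h2 : v.a7 = 0 ∧ v.a5 = 0) (e : v.c8 ≠ 0) : Cl v := by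
  obtain ⟨s, hs⟩ := ex_mul e v.c6
  refine .conj (x3 s) ?_
  convert Cl.r8 v.c4 e using 1
  dst v h; vp

theorem cl_82 {v : V K} (h : v ∈ A6) (h2 : v.a7 = 0) (e : v.c8 ≠ 0) : Cl v := by
  obtain ⟨s, hs⟩ := ex_mul e v.a5
  refine .conj (x2 s) (cl_81 ?_ ?_ ?_) <;> (dst v h; vp)

theorem cl_83 {v : V K} (h : v ∈ A6) (e : v.c8 ≠ 0) : Cl v := by
  obtain ⟨s, hs⟩ := ex_mul e v.a7
  refine .conj (y2 s) (cl_82 ?_ ?_ ?_) <;> (dst v h; vp)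

theorem sq_8 {v : V K} (hv : v * v = 1) : v ∈ Q8 := by
  have h1 := @nm_zero _ _ _ v.b8
  have := congrArg V.c8 hv
  vs at *; grind

theorem sq_R {v : V K} (hv : v * v = 1) (e : v.c8 ≠ 0) : v ∈ R3 := by
  have h := sq_8 hv
  have h1 := congrArg V.b6 hv
  have h2 := congrArg V.a7 hv
  dst v h; clear hv; vs at *; grind

theorem cl_84 {v : V K} (hv : v * v = 1) (h2 : v.b6 = 0) (e : v.c8 ≠ 0) : Cl v := by
  refine cl_83 ?_ e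
  have h := sq_8 hv
  have h' := sq_R hv e
  have h1 := @nm_zero _ _ _ v.b4
  obtain ⟨_, _, _, _, _, _, _, _, _, _, _, _⟩ := v
  vs at h h' h2; casesm* _ ∧ _; subst_vars
  vs at *; grind

theorem cl [Finite K] {v : V K} (hv : v * v = 1) : Cl v := by
  have h := sq_8 hv
  by_cases e : v.c8 = 0
  · exact cl_Q hv ⟨h, e⟩
  obtain ⟨s, hs⟩ := ex_mul e v.b6
  refine .conj (x1 s) (cl_84 (sq_conj hv _) ?_ ?_) <;> (dst v h; clear hv; vp)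

/-- The third term of the lower central series. -/
abbrev γ3 {G : Type*} [Group G] (T : Subgroup G) : Subgroup G := ⁅⁅T, T⁆, T⁆

theorem cm_mem {G : Type*} [Group G] {A B : Subgroup G} {a b : G} (ha : a ∈ A) (hb : b ∈ B) : cm a b ∈ ⁅A, B⁆ :=
  comm_mem_comm ha hb

theorem cm_le {G : Type*} [Group G] {A B A' B' N : Subgroup G} (hA : A ≤ A') (hB : B ≤ B')
    (h : ∀ a ∈ A', ∀ b ∈ B', cm a b ∈ N) : ⁅A, B⁆ ≤ N := comm_le_iff.2 fun a ha b hb => h a (hA ha) b (hB hb)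

theorem γ3_le {T : Subgroup (V K)} (h : ∀ v ∈ T, v ∈ R3 ∧ v.c2 = 0) : γ3 T ≤ V6 := by
  refine cm_le (A' := A6) (cm_le le_rfl le_rfl fun v hv w hw => ?_) le_rfl fun v hv w hw => ?_
  · have h1 := h v hv
    have h2 := h w hw
    clear h hv hw
    revert h2; dst v h1; intro h2; dst w h2; vp
  · have h2 := h w hw
    clear h hw
    revert h2; dst v hv; intro h2; dst w h2; vp

theorem cent7 {m : K} (hm : m ≠ 0) : γ3 𝐂[x7 m] ≤ V6 ∧ ∀ t, (∀ w ∈ 𝐂[x7 m], w * t = t * w) → t ∈ 𝐂[x7 m] →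
    t ∉ Z2 → ∃ s, cm s t ∈ γ3 𝐂[x7 m] ∧ cm s t ≠ 1 := by
  have hm' := mt σ_eq_zero.1 hm
  have k : ∀ v ∈ 𝐂[x7 m], (v ∈ R3 ∧ v.c2 = 0) ∧ v.b4 = 0 := fun v hv => by
    have := mem_cent1.1 hv
    have h1 := @σ_eq_zero _ _ _ v.a1
    have h2 := @σ_eq_zero _ _ _ v.b2
    clear hv; vs at *; grind
  refine ⟨γ3_le fun v hv => (k v hv).1, fun t h1 h2 h3 => ?_⟩
  have h4 : t ∈ A6 ∧ t.a5 = 0 ∧ t.c8 = 0 := by
    have a := h1 (x3 1) (mem_cent1.2 (by vp))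
    have b := h1 (y6 1) (mem_cent1.2 (by vp))
    have c := h1 (y8 1) (mem_cent1.2 (by vp))
    have d := k t h2
    clear h1 h2 h3 k
    dst t d; vs at *; grind
  refine ⟨y4 1, ?_, ?_⟩
  · convert cm_mem (cm_mem (A := 𝐂[x7 m]) (a := y8 1) (B := 𝐂[x7 m]) (b := x3 1) (mem_cent1.2 (by vp))
      (mem_cent1.2 (by vp))) (b := y8 t.a7) (B := 𝐂[x7 m]) (mem_cent1.2 (by vp)) using 1
    clear h1 h2 h3 k
    dst t h4; vp
  · clear h1 h2 k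
    dst t h4; unfold cm; vs at *; grind

theorem cent8 {m : K} (hm : m ≠ 0) (c : K) : γ3 𝐂[x8 m * x4 c] ≤ V6 ∧ ∀ t, (∀ w ∈ 𝐂[x8 m * x4 c], w * t = t * w) →
    t ∈ 𝐂[x8 m * x4 c] → t ∉ Z2 → ∃ s, cm s t ∈ γ3 𝐂[x8 m * x4 c] ∧ cm s t ≠ 1 := by
  have k : ∀ v ∈ 𝐂[x8 m * x4 c], v ∈ T8 := fun v hv => by
    have := mem_cent1.1 hv
    clear hv; vs at *; grind
  refine ⟨γ3_le fun v hv => by have := k v hv; revert this; vs; tauto, fun t h1 h2 h3 => ?_⟩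
  have h4 : t ∈ A6 ∧ t.a5 = 0 ∧ t.a7 = 0 := by
    have a := h1 (y4 1) (mem_cent1.2 (by vp))
    have b := h1 (y6 1) (mem_cent1.2 (by vp))
    have c := h1 (y8 1) (mem_cent1.2 (by vp))
    have d := k t h2
    clear h1 h2 h3 k
    dst t d; vs at *; grind
  refine ⟨x3 1, ?_, ?_⟩
  · convert cm_mem (cm_mem (A := 𝐂[x8 m * x4 c]) (a := y8 1) (B := 𝐂[x8 m * x4 c]) (b := y6 1) (mem_cent1.2 (by vp))
      (mem_cent1.2 (by vp))) (b := y4 t.c8) (B := 𝐂[x8 m * x4 c]) (mem_cent1.2 (by vp)) using 1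
    clear h1 h2 h3 k
    dst t h4; vp
  · clear h1 h2 k
    dst t h4; unfold cm; vs at *; grind

/-- An auxiliary subgroup. -/
def X2' : Subgroup (V K) where
  carrier := {v | v ∈ X2 ∧ v.b4 = v.b6 ∧ v.a7 = v.b6}
  one_mem' := by simp [one_def, mem_X2]
  mul_mem' := fun {v w} hv hw => by simp_all [mul_def, V.mul, mem_X2]
  inv_mem' := fun {v} hv => by simp_all [inv_def, V.inv, mem_X2]

theorem cm_Z3 : ∀ v ∈ Z3, ∀ w ∈ (X1 : Subgroup (V K)), cm v w ∈ Z := fun v hv w hw => by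
  dst v hv; dst w hw; vp

theorem cm_A : ∀ v ∈ A, ∀ w ∈ (X1 : Subgroup (V K)), cm v w ∈ Z3 := fun v hv w hw => by
  dst v hv; dst w hw; vp

theorem cm_X2 : ∀ v ∈ X2, ∀ w ∈ (X1 : Subgroup (V K)), cm v w ∈ A := fun v hv w hw => by
  dst v hv; dst w hw; vp

theorem cm_X1 : ∀ v ∈ X1, ∀ w ∈ (X1 : Subgroup (V K)), cm v w ∈ X2 := fun v hv w hw => by
  dst v hv; dst w hw; vp

theorem cm_X1' (hq : ∀ t : K, σ t = t) : ∀ v ∈ X1, ∀ w ∈ (X1 : Subgroup (V K)), cm v w ∈ X2' := fun v hv w hw => by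
  refine ⟨cm_X1 v hv w hw, ?_⟩
  dst v hv; dst w hw; simp only [cm]; vs; simp only [hq]; constructor <;> grind

theorem cm_X2' (hq : ∀ t : K, σ t = t) : ∀ v ∈ X2', ∀ w ∈ (X1 : Subgroup (V K)), cm v w ∈ Z3 := fun v hv w hw => by
  change _ ∧ _ at hv
  dst v hv; dst w hw; simp only [cm]; vs; simp only [hq]; constructorm* _ ∧ _ <;> grind

theorem cm_g5 (w s : K) : cm (cm (cm (cm (x8 1) (x1 1)) (x1 w)) (x8 w)) (x1 s) = x4 ((w + σ w) ^ 2 * s) := by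
  rw [show cm (x8 1) (x1 1) = x2 (1 : K) * x3 1 * y4 1 * y6 1 * x7 1 by vp,
    show cm (x2 (1 : K) * x3 1 * y4 1 * y6 1 * x7 1) (x1 w) = x2 (w + σ w) * x3 (w + σ w) * x4 (σ w) * x5 w by vp]
  vp

theorem cent5 {m : K} (hm : m ≠ 0) (a : K) :
    (x4 a ∈ ⁅γ3 𝐂[x5 m], 𝐂[x5 m]⁆ ∧ ⁅γ3 𝐂[x5 m], 𝐂[x5 m]⁆ ≤ Z) ∨
      (x4 a ∈ ⁅⁅γ3 𝐂[x5 m], 𝐂[x5 m]⁆, 𝐂[x5 m]⁆ ∧ ⁅⁅γ3 𝐂[x5 m], 𝐂[x5 m]⁆, 𝐂[x5 m]⁆ ≤ Z) := by
  have k : 𝐂[x5 m] ≤ X1 := fun v hv => by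
    have := mem_cent1.1 hv
    clear hv; vs at *; grind
  have k1 : ∀ t, x1 t ∈ 𝐂[x5 m] := fun t => mem_cent1.2 (by vp)
  have k8 : ∀ t, x8 t ∈ 𝐂[x5 m] := fun t => mem_cent1.2 (by vp)
  have k7 : x7 a ∈ 𝐂[x5 m] := mem_cent1.2 (by vp)
  by_cases hq : ∀ t : K, σ t = t
  · refine .inl ⟨?_, cm_le (cm_le (cm_le k k (cm_X1' hq)) k (cm_X2' hq)) k cm_Z3⟩
    convert cm_mem (cm_mem (cm_mem k7 (k1 1)) (k8 1)) (k1 1) using 1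
    clear * -; vp
  push Not at hq
  obtain ⟨w, hw⟩ := hq
  obtain ⟨s, hs⟩ := ex_mul (a := (w + σ w) ^ 2) (by grind) a
  exact .inr ⟨hs ▸ cm_g5 w s ▸ cm_mem (cm_mem (cm_mem (cm_mem (k8 1) (k1 1)) (k1 w)) (k8 w)) (k1 s),
    cm_le (cm_le (cm_le (cm_le k k cm_X1) k cm_X2) k cm_A) k cm_Z3⟩

end Cfsg.Lib.RF4
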