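import Cfsg.Agent.Lib.RF4.Setup

/-!
Choice of coordinates adapted to a complement of the Sylow subgroup in its normaliser.
-/

set_option autoImplicit false

namespace Cfsg.Lib.RF4

open V Subgroup Cfsg.Lib.BG Cfsg.Lib.Transfer Cfsg.Lib.GW

variable {K : Type*} [Field K] [Tw K]

variable (K) in
/-- The hypothesis with adapted coordinates. -/
structure GD (G : Type*) [Group G] extends G0 K G where
  D : Subgroup G
  oD : Odd (Nat.card D)
  SD : e.range ⊔ D = 𝐍(e.range)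
  hD : ∀ l, h l ∈ D
  lin : ∀ d ∈ D, (∀ l, d * h l = h l * d) →
    ∃ l, (∀ v, d * e v * d⁻¹ = e (tor l v)) ∧ d * r * d⁻¹ = h ⟨l * (wr l)⁻¹, wr_mem l⟩ * r

namespace CD

variable {C : Type*} [Group C] (c : CD K C)

/-- The image under an embedding. -/
def toB0 {G : Type*} [Group G] (ι : C →* G) (hι : Function.Injective ι) : B0 K G where
  e := ι.comp c.e
  h := ι.comp c.h
  r := ι c.r
  f := c.f
  C := ι.range
  inj := hι.comp c.inj
  he l v := by simpa using congrArg ι (c.he l v)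
  rr := by simpa using congrArg ι c.rr
  re v hv := by simpa using congrArg ι (c.re v hv)
  rh l := by simpa using congrArg ι (c.rh l)
  sz x h1 h2 := ⟨(c.sz x h1 h2).1, by simpa using congrArg ι (c.sz x h1 h2).2⟩
  mem g := by
    refine ⟨?_, ?_⟩
    · rintro ⟨g, rfl⟩
      obtain ⟨v, l, h | ⟨u, hu, h⟩⟩ := c.mem g
      exacts [⟨v, l, .inl (by simpa using congrArg ι h)⟩, ⟨v, l, .inr ⟨u, hu, by simpa using congrArg ι h⟩⟩]
    · rintro ⟨v, l, rfl | ⟨u, -, rfl⟩⟩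
      exacts [⟨c.e v * c.h l, by simp⟩, ⟨c.e v * c.h l * c.r * c.e u, by simp⟩]

/-- The structure inside the group itself. -/
abbrev b : B0 K C := c.toB0 (.id C) fun _ _ h => h

theorem cent_Q {g : C} (h : ∀ w ∈ Q, g * c.e w * g⁻¹ = c.e w) : ∃ z ∈ Z, c.e z = g := c.b.cent_Q ⟨g, rfl⟩ h

theorem Z_cent {z : V K} (hz : z ∈ Z) (g : C) : g * c.e z = c.e z * g := mem_cent1.1 (c.b.C_cent hz ⟨g, rfl⟩)

theorem sq_one {β : MulAut C} (h : ∀ v, β (c.e v) = c.e v) : β ^ 2 = 1 := by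
  ext g
  obtain ⟨z, hz, e⟩ := c.cent_Q (g := g⁻¹ * β g) fun w hw => by
    obtain ⟨w', -, e⟩ := conj_mem_of_norm (c.b.C_NQ ⟨g, rfl⟩) ⟨w, hw, rfl⟩
    change c.e w' = g * c.e w * g⁻¹ at e
    have := congrArg β e
    simp only [map_mul, map_inv, h] at this
    rw [mul_inv_rev, inv_inv, show g⁻¹ * β g * c.e w * ((β g)⁻¹ * g) = g⁻¹ * (β g * c.e w * (β g)⁻¹) * g by group,
      ← this, e]
    group
  have e' : β g = g * c.e z := by rw [e, mul_inv_cancel_left]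
  rw [sq, MulAut.mul_apply, e', map_mul, e', h, mul_assoc, ← map_mul, show z * z = 1 by dst z hz; vp]
  simp

theorem aut_T4 (l : T4 K) (g : C) : c.aut l g = c.h l * g * (c.h l)⁻¹ := by
  have h1 : ∀ v, c.aut l (c.e v) = c.h l * c.e v * (c.h l)⁻¹ := fun v => (c.ae l v).trans (c.he l v).symm
  have h2 : ∀ v, c.aut l (c.h v) = c.h l * c.h v * (c.h l)⁻¹ := fun v => by
    rw [c.ah, ← map_mul, mul_comm l, map_mul, mul_inv_cancel_right]
  have h3 : c.aut l c.r = c.h l * c.r * (c.h l)⁻¹ := by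
    rw [c.ar, ← c.rh, show (⟨_, wr_mem l.1⟩ : T4 K) = l * l from Subtype.ext (by simp [wr_T4 l.2]), map_mul,
      inv_eq_of_mul_eq_one_left c.rr]
    have := c.rh l
    rw [mul_inv_eq_iff_eq_mul, eq_inv_mul_iff_mul_eq] at this
    rw [← mul_assoc, ← mul_assoc, mul_assoc _ c.r c.r, c.rr, mul_one]
  obtain ⟨v, l, rfl | ⟨u, -, rfl⟩⟩ := c.mem g <;> simp only [map_mul, h1, h2, h3, conj_mul]

/-- Automorphisms acting trivially on the quotient by `Ph`. -/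
def O : Subgroup (MulAut C) where
  carrier := {β | ∃ φ : MulAut (V K), (∀ v, β (c.e v) = c.e (φ v)) ∧ ∀ v, v⁻¹ * φ v ∈ Ph}
  one_mem' := ⟨1, fun _ => rfl, fun v => by simp⟩
  mul_mem' := by
    rintro a b ⟨φ, h1, h2⟩ ⟨ψ, h3, h4⟩
    exact ⟨φ * ψ, fun v => by simp [h1, h3], fun v => by simpa [mul_assoc] using mul_mem (h2 v) (aut_Ph φ (h4 v))⟩
  inv_mem' := by
    rintro a ⟨φ, h1, h2⟩
    exact ⟨φ⁻¹, fun v => by rw [MulAut.inv_apply, MulEquiv.symm_apply_eq, h1]; simp,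
      fun v => by simpa using inv_mem (h2 (φ⁻¹ v))⟩

variable [Finite K] [Finite C]

theorem O_two : PiGrp {2} c.O := fun p hp hd => by
  have := Fact.mk hp
  obtain ⟨⟨β, hβ⟩, e⟩ := exists_prime_orderOf_dvd_card' p hd
  rw [orderOf_mk] at e
  obtain ⟨φ, h1, h2⟩ := hβ
  by_contra h
  have k : ∀ n v, (β ^ n) (c.e v) = c.e ((φ ^ n) v) := fun n => by
    induction n with
    | zero => simp
    | succ n ih => simp [pow_succ, h1, ih]
  obtain rfl : φ = 1 := aut_eq_one ((hp.odd_of_ne_two h).of_dvd_nat (orderOf_dvd_of_pow_eq_one (MulEquiv.ext fun v =>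
    c.inj (by rw [← k, ← e, pow_orderOf_eq_one]; rfl)))) h2
  exact h ((Nat.prime_dvd_prime_iff_eq hp Nat.prime_two).1 (e ▸ orderOf_dvd_of_pow_eq_one (c.sq_one h1)))

theorem stdz {A : Subgroup (MulAut C)} (hA : Odd (Nat.card A))
    (h1 : ∀ α ∈ A, ∃ φ : MulAut (V K), ∀ v, α (c.e v) = c.e (φ v)) (h2 : ∀ α ∈ A, ∀ l, α (c.h l) = c.h l)
    (h3 : ∀ l, MulAut.conj (c.h l) ∈ A) :
    ∃ c' : CD K C, c'.f = c.f ∧ c'.e.range = c.e.range ∧ c'.h.range = c.h.range ∧ A ≤ c'.aut.range := by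
  have hT : PiGrp {2}ᶜ c.aut.range := pi_odd_iff.2 (odd_T.of_dvd_nat (card_range_dvd _))
  have hn : c.aut.range ≤ 𝐍(c.O) := le_norm_iff.2 (by
    rintro _ ⟨l, rfl⟩ β ⟨φ, k1, k2⟩
    exact ⟨tor l * φ * tor l⁻¹, fun v => by simp [← map_inv, c.ae, k1, -MulAut.inv_apply],
      fun v => by simpa using aut_Ph (tor l) (k2 (tor l⁻¹ v))⟩)
  obtain ⟨g, hg, hle⟩ := (Hall.of_sd ⟨hn, c.O_two.inf_eq_bot hT, rfl⟩ c.O_two hT).2.exists_le_conj
    (sol_sup (pgroup_sol c.O_two.pgroup) (odd_sol (pi_odd_iff.1 hT)) hn) (U := A) (fun α hα => by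
      obtain ⟨φ, e⟩ := h1 α hα
      obtain ⟨l, hl⟩ := aut_lin (φ := φ) fun l v => c.inj (by rw [← e, ← c.he, ← c.he, ← e]; simp [h2 α hα])
      rw [← mul_inv_cancel_left (c.aut l) α]
      refine mul_mem (mem_sup_right ⟨l, rfl⟩) (mem_sup_left ⟨tor l⁻¹ * φ, fun v => ?_, fun v => ?_⟩)
      · simp [← map_inv, c.ae, e, -MulAut.inv_apply]
      · simpa using aut_Ph (tor l⁻¹) (hl v)) (pi_odd_iff.2 hA)
  have hle' : A ≤ (c.map g).aut.range := fun α hα => by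
    obtain ⟨_, ⟨l, rfl⟩, rfl⟩ := hle hα
    exact ⟨l, rfl⟩
  refine ⟨c.map g, rfl, ?_, (eq_of_le_of_card_le ?_ ?_).symm, hle'⟩
  · obtain ⟨o, ⟨φ, k, -⟩, _, ⟨l, rfl⟩, rfl⟩ := (mem_sup_left_norm hn).1 hg
    ext x
    exact ⟨fun ⟨v, e⟩ => ⟨φ (tor l v), by rw [← k, ← c.ae, ← e]; rfl⟩,
      fun ⟨v, e⟩ => ⟨(φ * tor l)⁻¹ v, by
        change o (c.aut l (c.e _)) = _
        rw [c.ae, k, ← e, ← MulAut.mul_apply, ← MulAut.mul_apply, mul_inv_cancel]; rfl⟩⟩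
  · generalize c.map g = c' at hle'
    rintro _ ⟨l, rfl⟩
    obtain ⟨l1, e⟩ := hle' (h3 l)
    have k : l1 ∈ T4 K := (T4_x4 one_ne_zero).1 (c'.inj (by
      rw [← c'.ae, e, MulAut.conj_apply, c'.Z_cent (x4_mem 1), mul_inv_cancel_right]))
    obtain ⟨z, hz, e'⟩ := c'.cent_Q (g := (c'.h ⟨l1, k⟩)⁻¹ * c.h l) fun w _ => by
      have := c'.aut_T4 ⟨l1, k⟩ (c'.e w)
      rw [e, MulAut.conj_apply] at this
      calc _ = (c'.h ⟨l1, k⟩)⁻¹ * (c.h l * c'.e w * (c.h l)⁻¹) * c'.h ⟨l1, k⟩ := by group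
        _ = _ := by rw [this]; group
    refine ⟨⟨l1, k⟩, eq_of_inv_mul_eq_one ?_⟩
    have k1 : c.h l = c'.h ⟨l1, k⟩ * c'.e z := by rw [e', mul_inv_cancel_left]
    have k2 : ∀ φ : T4 K →* C, ∀ l, φ l ^ Nat.card (T4 K) = 1 := fun φ l => by rw [← map_pow, pow_card_eq_one', map_one]
    have k3 := k2 c.h l
    rw [k1, Commute.mul_pow (c'.Z_cent hz _), k2, one_mul] at k3
    rw [← e']
    refine (pow_eq_one_iff_of_coprime (Nat.coprime_two_right.2 (odd_T.of_dvd_nat (card_subgroup_dvd_card _)))).1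
      ⟨k3, by rw [sq, ← map_mul, show z * z = 1 by dst z hz; vp, map_one]⟩
  · change Nat.card (g.toMonoidHom.comp c.h).range ≤ _
    rw [← MonoidHom.map_range, card_map_of_injective g.injective]

end CD

theorem exists_GD [Finite K] {G : Type*} [Group G] [Finite G] {C : Subgroup G} (c : CD K C) {τ : G}
    (hτ : orderOf τ = 2) (hC : C ≤ 𝐂[τ]) (hn : 𝐂[τ] ≤ 𝐍(C)) (hi : Odd (C.relIndex 𝐂[τ])) (hS : Odd 𝐂[τ].index)
    (ho : Odd c.e.range.index) (oH : Od 𝐂[τ] = ⊥) : ∃ d : GD K G, d.C = C ∧ d.τ = τ ∧ d.f = c.f := by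
  have hτC : τ ∈ C := zpowers_le.1 (PiGrp.le_of_relIndex (π := {2}) (.of_card_prime (by
    rw [Nat.card_zpowers, hτ]; exact Nat.prime_two) (by rw [Nat.card_zpowers, hτ]; rfl))
      (zpowers_le.2 (self_mem_cent1 τ)) hn (PiNat.p'_iff.2 hi.not_two_dvd_nat))
  have key : ∀ c' : CD K C, c'.e.range = c.e.range →
      ∃ d : G0 K G, d.toB0 = c'.toB0 C.subtype C.subtype_injective ∧ d.τ = τ := fun c' he => by
    obtain ⟨z, hz, e⟩ := c'.cent_Q (g := ⟨τ, hτC⟩) fun w _ =>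
      Subtype.ext (mul_inv_eq_iff_eq_mul.2 (mem_cent1.1 (hC (c'.e w).2)).symm)
    have e' : (c'.toB0 C.subtype C.subtype_injective).e (x4 z.c4) = τ := by
      rw [← eq_x4 hz]; exact congrArg Subtype.val e
    refine ⟨⟨c'.toB0 C.subtype C.subtype_injective, z.c4, fun h => ?_, Syl.mk' le_top ?_ ?_, ?_, e' ▸ oH⟩, rfl, e'⟩
    · rw [h, show x4 (0 : K) = 1 from rfl, map_one] at e'
      simp [← e'] at hτ
    · exact pgV.of_surjective _ (MonoidHom.rangeRestrict_surjective _)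
    · rw [relIndex_top_right, show (c'.toB0 C.subtype C.subtype_injective).e.range = c'.e.range.map C.subtype from
        (MonoidHom.map_range _ _).symm, index_map_subtype, he, ← relIndex_mul_index hC]
      exact (ho.mul (hi.mul hS)).not_two_dvd_nat
    · rw [e']; exact hn.trans_eq (by rw [show (c'.toB0 C.subtype C.subtype_injective).C = C from range_subtype C])
  obtain ⟨d, hd, -⟩ := key c rfl
  have hN : 𝐍(d.S) ≤ 𝐍(C) := d.NS_NC.trans_eq (by rw [hd, show (c.toB0 _ _).C = C from range_subtype C])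
  obtain ⟨D, hD, hh⟩ := Hall.exists_ge (π := {2}ᶜ) d.sol_NS (U := d.h.range)
    (by rintro _ ⟨l, rfl⟩; simpa using d.eh_NS 1 l)
    (pi_odd_iff.2 (odd_T.of_dvd_nat ((card_range_dvd _).trans (card_subgroup_dvd_card _))))
  have he : ∀ v, d.e v = c.e v := fun v => by rw [hd]; rfl
  have hh' : ∀ v, d.h v = c.h v := fun v => by rw [hd]; rfl
  obtain ⟨c', hf, k1, k2, k3⟩ := c.stdz (A := ((D ⊓ 𝐂(d.h.range)).subgroupOf 𝐍(C)).map C.normalizerMonoidHom)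
    (pi_odd_iff.1 (PiGrp.map (pi_odd_iff.2 ((pi_odd_iff.1 hD.pi).of_dvd_nat ((card_comap_dvd_of_injective _ _
      (subtype_injective _)).trans (card_dvd inf_le_left)))) _))
    (by
      rintro _ ⟨g, hg, rfl⟩
      obtain ⟨φ, e⟩ := d.act (hD.le hg.1)
      exact ⟨φ, fun v => Subtype.ext (by simpa [he] using e v)⟩)
    (by
      rintro _ ⟨g, hg, rfl⟩ l
      exact Subtype.ext (mul_inv_eq_iff_eq_mul.2 (mem_cent.1 hg.2 _ ⟨l, hh' l⟩).symm))
    (fun l => ⟨⟨c.h l, le_norm _ (c.h l).2⟩, ⟨hh ⟨l, hh' l⟩, mem_cent.2 (by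
      rintro _ ⟨l', rfl⟩
      change _ * (c.h l : G) = (c.h l : G) * _
      rw [← hh', ← map_mul, mul_comm, map_mul])⟩, MulEquiv.ext fun _ => rfl⟩)
  obtain ⟨d', hd', hτ'⟩ := key c' k1
  have he' : ∀ v, d'.e v = c'.e v := fun v => by rw [hd']; rfl
  have hh'' : ∀ v, d'.h v = c'.h v := fun v => by rw [hd']; rfl
  have hr : d'.r = c'.r := by rw [hd']; rfl
  have e1 : d'.e.range = d.e.range := by
    rw [hd, hd']
    exact (MonoidHom.map_range _ _).symm.trans ((congrArg _ k1).trans (MonoidHom.map_range _ _))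
  have e2 : d'.h.range = d.h.range := by
    rw [hd, hd']
    exact (MonoidHom.map_range _ _).symm.trans ((congrArg _ k2).trans (MonoidHom.map_range _ _))
  refine ⟨⟨d', D, pi_odd_iff.1 hD.pi, ?_, fun l => hh (e2.le ⟨l, rfl⟩), fun g hg h => ?_⟩,
    by rw [hd']; exact range_subtype C, hτ', by rw [← hf]; exact congrArg B0.f hd'⟩
  · rw [e1]
    exact ((d.syl.of_le (le_norm _) le_top).sd le_rfl hD).sup
  · obtain ⟨l, e⟩ := k3 ⟨⟨g, hN (hD.le hg)⟩, ⟨hg, mem_cent.2 (by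
      rw [← e2]; rintro _ ⟨l, rfl⟩; exact (h l).symm)⟩, rfl⟩
    refine ⟨l, fun v => ?_, ?_⟩
    · rw [he', he', ← c'.ae, e]; rfl
    · rw [hr, hh'', ← coe_mul, ← c'.ar, e]; rfl

end Cfsg.Lib.RF4
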