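import Cfsg.Agent.Lib.RF4.Fus
import Cfsg.Agent.Lib.RF4.Stdz

/-!
The second parabolic subgroup.
-/

set_option autoImplicit false

namespace Cfsg.Lib.RF4

open V Subgroup Cfsg.Lib.BG Cfsg.Lib.Transfer Cfsg.Lib.GW

variable {K : Type*} [Field K] [Tw K]

theorem Z_le_Z2 : (Z : Subgroup (V K)) ≤ Z2 := fun v => by vs; tauto

theorem cent_Z2 {y : V K} (hy : y ∈ Z2) (hZ : y ∉ Z) : 𝐂[y] = R := by
  ext v
  rw [mem_cent1]
  dst y hy; vs at *; grind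

theorem Z2_of_R {t : V K} (ht : t ∈ R) (h : ∀ w ∈ R, w * t = t * w) : t ∈ Z2 := by
  have h1 := h (y2 1) (by vs)
  have h2 := h (y4 1) (by vs)
  have h3 := h (y6 1) (by vs)
  have h4 := h (y8 1) (by vs)
  have h5 := h (x8 1) (by vs)
  clear h; dst t ht; vs at *; grind

theorem x1_Z2 {y y' : V K} (hy : y ∈ Z2) (hy' : y' ∈ Z2) (hZ : y ∉ Z) (h : y.c6 = y'.c6) :
    ∃ s, x1 s * y * (x1 s)⁻¹ = y' := by
  obtain ⟨s, hs⟩ := ex_mul (a := y.c6) (fun e => hZ (by revert hy e; vs; tauto)) (y.c4 + y'.c4)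
  exact ⟨s, by clear hZ; dst y hy; dst y' hy'; vp⟩

theorem T4_c6 (l : T4 K) (v : V K) : (tor l v).c6 * l.1.1 = v.c6 := by
  have := mem_T4.1 l.2
  have := T4_sq l.2
  vs; grind

theorem T4_ex_c6 [Finite K] {a b : K} (ha : a ≠ 0) (hb : b ≠ 0) : ∃ l : T4 K, ∀ v, v.c6 = a → (tor l v).c6 = b := by
  obtain ⟨l, hl, e⟩ := T4_ex_fst (Units.mk0 (a / b) (div_ne_zero ha hb))
  refine ⟨⟨l, hl⟩, fun v hv => ?_⟩
  have := T4_c6 ⟨l, hl⟩ v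
  simp only [e, Units.val_mk0, hv] at this
  field_simp at this
  exact this

namespace G0

variable {G : Type*} [Group G] (c : G0 K G) [Finite K] [Finite G]

/-- The second parabolic subgroup. -/
abbrev P : Subgroup G := 𝐍(Z2.map c.e)

/-- The main case. -/
def Main : Prop := ∃ y ∈ Z2, y ∉ Z ∧ c.Pt (c.e y)

theorem B_le_P : 𝐍(c.S) ≤ c.P := c.NS_le fun φ _ => aut_Z2 φ

theorem B_Z : 𝐍(c.S) ≤ 𝐍(Z.map c.e) := c.NS_le fun φ _ => aut_Z φ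

theorem NC_dec {g : G} (hg : g ∈ 𝐍(c.C)) : ∃ k ∈ c.C, ∃ b ∈ 𝐍(c.S), k * b = g := by
  have := Syl.frattini (c.syl.of_le c.S_le le_top) (M := 𝐍(c.C)) ⟨le_norm _, le_rfl⟩
  obtain ⟨k, hk, b, hb, e⟩ := (mem_sup_left_norm inf_le_left).1 (this.ge hg)
  exact ⟨k, hk, b, hb.2, e⟩

theorem NC_Z {g : G} (hg : g ∈ 𝐍(c.C)) : g ∈ 𝐍(Z.map c.e) := by
  obtain ⟨k, hk, b, hb, rfl⟩ := c.NC_dec hg
  refine mul_mem (cent_le_norm _ (cent_symm ?_ hk)) (c.B_Z hb)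
  rintro _ ⟨z, hz, rfl⟩
  exact le_cent1_iff.1 (c.C_cent hz)

theorem PC_le {g : G} (hP : g ∈ c.P) (hg : g ∈ 𝐍(c.C)) : g ∈ 𝐍(c.S) := by
  obtain ⟨k, hk, b, hb, rfl⟩ := c.NC_dec hg
  obtain ⟨y, hy, e⟩ := conj_mem_of_norm ((mul_mem_cancel_right (c.B_le_P hb)).1 hP) ⟨x6 1, by change _ ∈ Z2; vs, rfl⟩
  obtain ⟨v, l, rfl⟩ := c.bru6 (y := x6 1) (by vs) (by vs; simp) hy hk e.symm
  exact mul_mem (c.eh_NS v l) hb

theorem P_act {g : G} (hg : g ∈ c.P) {y : V K} (hy : y ∈ Z2) : ∃ y' ∈ Z2, g * c.e y * g⁻¹ = c.e y' := by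
  obtain ⟨y', h, e⟩ := conj_mem_of_norm hg ⟨y, hy, rfl⟩
  exact ⟨y', h, e.symm⟩

theorem nB_τ {n : G} (hn : n ∈ c.P) (h : n ∉ 𝐍(c.S)) : n * c.τ * n⁻¹ ∉ Z.map c.e :=
  fun e => h (c.PC_le hn (c.nC_of e))

theorem Y_inf {n : G} (hn : n ∈ c.P) (h : n ∉ 𝐍(c.S)) {z : V K} (hz : z ∈ Z) (e : n * c.e z * n⁻¹ ∈ Z.map c.e) :
    z = 1 := by
  obtain ⟨t, ht, e1⟩ := c.P_act hn (Z_le_Z2 (x4_mem c.a))
  obtain ⟨z', hz', e2⟩ := e
  have h1 : t ∉ Z := fun e => c.nB_τ hn h ⟨t, e, e1.symm⟩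
  obtain ⟨s, hs⟩ := x1_Z2 ht (mul_mem ht (Z_le_Z2 hz')) h1 (by clear * - hz'; change _ ∈ Z at hz'; dst z' hz'; vp)
  have h2 : n⁻¹ * c.e (x1 s) * n * c.τ * (n⁻¹ * c.e (x1 s) * n)⁻¹ = c.e (x4 c.a * z) := by
    have := congrArg c.e hs
    simp only [map_mul, map_inv, ← e1, e2] at this ⊢
    calc _ = n⁻¹ * (c.e (x1 s) * (n * c.τ * n⁻¹) * (c.e (x1 s))⁻¹) * n := by group
      _ = _ := by rw [this]; group
  have h3 : n⁻¹ * c.e (x1 s) * n ∈ c.C := zpowers_le.1 (c.two_le (pgroup_of_le (isPGroup_conj c.pS n⁻¹)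
    (zpowers_le.2 (mem_conj.2 ⟨x1 s, by group⟩))) (zpowers_le.2 (c.nC_of ⟨_, mul_mem (x4_mem _) hz, h2.symm⟩)))
  rw [c.C_conj (x4_mem _) h3] at h2
  simpa using c.inj h2

variable {c} (hm : c.Main)
include hm

theorem Main.ex : ∃ n ∈ c.P, n ∉ 𝐍(c.S) := by
  obtain ⟨y, h1, h2, h3⟩ := hm
  obtain ⟨n, hn, t, -, h4, -, e⟩ := c.prin h3 h2 fun g hg => c.bru6 h1 h2 h1 hg
  rw [cent_Z2 h1 h2] at hn
  refine ⟨n, ?_, fun h => h4 (c.mem_map.1 (e ▸ conj_mem_of_norm (c.B_Z h) ⟨_, x4_mem _, rfl⟩))⟩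
  have : 𝐙(R.map c.e) = Z2.map c.e := le_antisymm (by
    rintro _ ⟨⟨t, ht, rfl⟩, h⟩
    exact ⟨t, Z2_of_R ht fun w hw => c.inj (by simpa using mem_cent.1 h _ ⟨w, hw, rfl⟩), rfl⟩) (by
    rintro _ ⟨t, ht, rfl⟩
    refine ⟨⟨t, ht.1, rfl⟩, mem_cent.2 ?_⟩
    rintro _ ⟨w, hw, rfl⟩
    rw [← map_mul, R_comm hw ht, map_mul])
  rw [P, ← this]
  exact norm_center (A := 𝐍(R.map c.e)) le_rfl hn

theorem Main.pt {y : V K} (hy : y ∈ Z2) (h : y ≠ 1) : c.Pt (c.e y) := by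
  have k : ∀ y ∈ Z2, y ∉ Z → c.Pt (c.e y) := fun y hy hZ => by
    obtain ⟨t, h1, h2, h3⟩ := hm
    obtain ⟨l, hl⟩ := T4_ex_c6 (a := t.c6) (b := y.c6) (fun e => h2 (by revert h1 e; vs; tauto))
      (fun e => hZ (by revert hy e; vs; tauto))
    obtain ⟨s, hs⟩ := x1_Z2 (aut_Z2 (tor l) h1) hy (fun e => h2 (by simpa using aut_Z (tor l.1)⁻¹ e)) (hl t rfl)
    simpa [← hs, c.he] using (h3.conj (c.h l)).conj (c.e (x1 s))
  by_cases hZ : y ∈ Z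
  · obtain ⟨n, hn, h1⟩ := hm.ex
    obtain ⟨t, ht, e⟩ := c.P_act hn hy
    simpa [← e, mul_assoc] using (k t ht fun e' => h (c.Y_inf hn h1 hZ ⟨t, e', e.symm⟩)).conj n⁻¹
  · exact k y hy hZ

theorem Main.TI {z : V K} (hz : z ∈ Z) (h : z ≠ 1) {g : G} (e : g * c.e z * g⁻¹ ∈ Z.map c.e) : g ∈ 𝐍(c.C) := by
  obtain ⟨k, hk⟩ := hm.pt (Z_le_Z2 hz) h
  refine (mul_mem_cancel_right (c.nC_of ⟨z, hz, hk.symm⟩)).1 (c.nC_of ?_)
  convert e using 1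
  rw [← hk]; group

theorem Main.dec {n g : G} (hn : n ∈ c.P) (h : n ∉ 𝐍(c.S)) (hg : g ∈ c.P) (h' : g ∉ 𝐍(c.S)) :
    ∃ s, g⁻¹ * c.e (x1 s) * n ∈ 𝐍(c.S) := by
  choose φ h1 h2 using fun a => c.P_act hn (Z_le_Z2 (x4_mem a))
  have k : ∀ a, (φ a).c6 = 0 → a = 0 := fun a e => x4_inj.1 (c.Y_inf hn h (x4_mem a)
    ⟨φ a, by have := h1 a; change _ ∈ Z; revert this e; vs; tauto, (h2 a).symm⟩)
  obtain ⟨t, ht, e⟩ := c.P_act hg (Z_le_Z2 (x4_mem c.a))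
  have h3 : t ∉ Z := fun e' => c.nB_τ hg h' ⟨t, e', e.symm⟩
  obtain ⟨a, ha⟩ := Finite.surjective_of_injective (f := fun a => (φ a).c6) (fun a b (e : (φ a).c6 = (φ b).c6) => by
    have e1 : φ (a + b) = φ a * φ b := c.inj (by
      rw [map_mul, ← h2, ← h2, ← h2, conj_mul, ← map_mul]; congr 3; clear * -; vp)
    have := k (a + b) (by
      have p := h1 a
      have q := h1 b
      rw [e1]; generalize φ a = u, φ b = w at *; clear * - p q e; dst u p; dst w q; vp)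
    grind) t.c6
  change (φ a).c6 = t.c6 at ha
  have h4 : φ a ∉ Z := fun e' => h3 (by clear * - ht ha e'; generalize φ a = u at *; dst u e'; dst t ht; vp)
  obtain ⟨s, hs⟩ := x1_Z2 (h1 a) ht h4 ha
  refine ⟨s, c.PC_le (mul_mem (mul_mem (inv_mem hg) (c.B_le_P (le_norm _ ⟨_, rfl⟩))) hn)
    (hm.TI (x4_mem a) (fun e => h4 ?_) ⟨_, x4_mem c.a, ?_⟩)⟩
  · have := h2 a
    rw [e, map_one, mul_one, mul_inv_cancel, eq_comm, map_eq_one_iff _ c.inj] at this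
    exact this ▸ one_mem _
  · have := congrArg c.e hs
    simp only [map_mul, map_inv, ← e, ← h2] at this
    calc _ = g⁻¹ * (g * c.e (x4 c.a) * g⁻¹) * g := by group
      _ = _ := by rw [← this]; group

end G0

namespace GD

variable {G : Type*} [Group G] (c : GD K G) [Finite K] [Finite G]

theorem D_le : c.D ≤ 𝐍(c.S) := le_sup_right.trans c.SD.le

theorem SD_bot : c.S ⊓ c.D = ⊥ := disjoint_of_coprime (cop_two c.pS c.oD)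

theorem SD_one {g : G} (h1 : g ∈ c.S) (h2 : g ∈ c.D) : g = 1 := mem_bot.1 (c.SD_bot.le ⟨h1, h2⟩)

theorem memB {g : G} (h : g ∈ 𝐍(c.S)) : ∃ v, ∃ d ∈ c.D, g = c.e v * d := by
  obtain ⟨_, ⟨v, rfl⟩, d, hd, rfl⟩ := (mem_sup_left_norm c.D_le).1 (c.SD.ge h)
  exact ⟨v, d, hd, rfl⟩

theorem hall : Hall {2}ᶜ c.D 𝐍(c.S) :=
  (Hall.of_sd ⟨c.D_le, c.SD_bot, c.SD⟩ (PiGrp.p_iff.2 c.pS) (pi_odd_iff.2 c.oD)).2

theorem D_C {d : G} (h1 : d ∈ c.D) (h2 : d ∈ c.C) : ∃ l, d = c.h l := by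
  obtain ⟨y, hy, e⟩ := c.P_act (c.B_le_P (c.D_le h1)) (y := x6 1) (by vs)
  obtain ⟨v, l, rfl⟩ := c.bru6 (y := x6 1) (by vs) (by vs; simp) hy h2 e
  exact ⟨l, by rw [c.SD_one ⟨v, rfl⟩ ((mul_mem_cancel_right (c.hD l)).1 h1), one_mul]⟩

theorem D_h {d : G} (hd : d ∈ c.D) (l : T4 K) : ∃ l', d * c.h l * d⁻¹ = c.h l' :=
  c.D_C (mul_mem (mul_mem hd (c.hD l)) (inv_mem hd)) (conj_mem_of_norm (c.NS_NC (c.D_le hd)) (c.h_mem l))

theorem D_one {d : G} (hd : d ∈ c.D) (h : ∀ v, d * c.e v * d⁻¹ = c.e v) : d = 1 := by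
  have h1 : ∀ l, d * c.h l = c.h l * d := fun l => by
    obtain ⟨l', e⟩ := c.D_h hd l
    obtain ⟨-, e'⟩ := CQ (v := 1) (l := l⁻¹ * l') fun w _ => c.inj (by
      have h' : d⁻¹ * c.e w * d = c.e w := by conv_lhs => rw [← h w]
                                              group
      rw [one_mul, inv_one, mul_one, ← c.he, map_mul, ← e, map_inv]
      calc _ = (c.h l)⁻¹ * (d * (c.h l * (d⁻¹ * c.e w * d) * (c.h l)⁻¹) * d⁻¹) * c.h l := by group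
        _ = _ := by rw [h', c.he, h, ← c.he]; group)
    rw [← mul_inv_eq_iff_eq_mul, e, ← inv_mul_eq_one.1 e']
  obtain ⟨l, h2, h3⟩ := c.lin d hd h1
  obtain rfl : l = 1 := by
    have a := congrArg V.a1 (c.inj ((h2 (x1 1)).symm.trans (h _)))
    have b := congrArg V.b8 (c.inj ((h2 (y8 1)).symm.trans (h _)))
    vs at a b
    exact Prod.ext (Units.ext a) (Units.ext b)
  refine c.SD_one (c.map_le _ (c.cC (cent_symm (A := c.C) (B := zpowers d) (cent_zpowers d ▸ c.C_le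
    (fun v => mem_cent1.2 (mul_inv_eq_iff_eq_mul.1 (h v)).symm) (fun l => mem_cent1.2 (h1 l).symm)
    (mem_cent1.2 (mul_inv_eq_iff_eq_mul.1 (h3.trans ?_)).symm)) (mem_zpowers d)))) hd
  rw [mul_eq_right, ← map_one c.h]
  congr 1
  simp [wr]

theorem D_T4 {d : G} (hd : d ∈ c.D) {l : T4 K} (h : ∀ v, d * c.e v * d⁻¹ = c.e (tor l v)) : d = c.h l :=
  (inv_mul_eq_one.1 (c.D_one (mul_mem (inv_mem (c.hD l)) hd) fun v => by
    calc _ = (c.h l)⁻¹ * (d * c.e v * d⁻¹) * c.h l := by group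
      _ = _ := by rw [h, ← c.he]; group)).symm

theorem D_CZ {d : G} (hd : d ∈ c.D) (h : ∀ a, d * c.e (x4 a) * d⁻¹ = c.e (x4 a)) : ∃ l, d = c.h l := by
  obtain ⟨φ, e⟩ := c.act (c.D_le hd)
  have h1 : ∀ v, (φ v).a1 * (φ (x6 1)).c6 = v.a1 := fun v => by
    have a := aut_Z2 φ (v := x6 1) (by vs)
    have b : φ (cm (x6 1) v) = cm (x6 1) v := c.inj (by rw [← e, eq_x4 (Z2_cm (v := x6 1) (by vs) v), h])
    rw [map_cm] at b
    have := congrArg V.c4 b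
    generalize φ (x6 1) = w, φ v = u at *
    clear * - a this
    dst w a
    simp only [cm] at this; vs at this ⊢
    simp only [map_add, map_mul, map_pow, σσ] at this
    grind
  obtain ⟨l, h2, -⟩ := c.lin d hd fun l => by
    obtain ⟨l', e'⟩ := c.D_h hd l
    have a : φ (tor l (x1 1)) = tor l' (φ (x1 1)) := c.inj (by rw [← e, ← c.he, ← c.he, ← e, ← e']; group)
    have b := h1 (tor l (x1 1))
    have b' := h1 (x1 1)
    rw [a] at b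
    generalize φ (x6 1) = w, φ (x1 1) = u at *
    vs at b b'
    have : l⁻¹ * l' = 1 := Subtype.ext (T4_fst (l⁻¹ * l').2 (by
      rw [coe_mul, coe_inv, Prod.fst_mul, Prod.fst_inv, inv_mul_eq_one]; exact Units.ext (by grind)))
    rw [← mul_inv_eq_iff_eq_mul, e', ← inv_mul_eq_one.1 this]
  exact ⟨⟨l, (T4_x4 one_ne_zero).1 (c.inj ((h2 _).symm.trans (h 1)))⟩, c.D_T4 hd h2⟩

theorem CZ {g : G} (h : ∀ a, g * c.e (x4 a) * g⁻¹ = c.e (x4 a)) : g ∈ c.C := by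
  obtain ⟨k, hk, b, hb, rfl⟩ := c.NC_dec (c.nC_of ⟨_, x4_mem _, (h _).symm⟩)
  obtain ⟨v, d, hd, rfl⟩ := c.memB hb
  obtain ⟨l, rfl⟩ := c.D_CZ hd fun a => by
    calc _ = (k * c.e v)⁻¹ * (k * (c.e v * d) * c.e (x4 a) * (k * (c.e v * d))⁻¹) * (k * c.e v)⁻¹⁻¹ := by group
      _ = _ := by rw [h, c.C_conj (x4_mem a) (inv_mem (mul_mem hk (c.e_mem v)))]
  exact mul_mem hk (mul_mem (c.e_mem v) (c.h_mem l))

theorem CZ2 {g : G} (h : ∀ a, g * c.e (x4 a) * g⁻¹ = c.e (x4 a)) (h' : g * c.e (x6 1) * g⁻¹ = c.e (x6 1)) :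
    g ∈ R.map c.e := by
  obtain ⟨v, l, rfl⟩ := c.bru6 (y := x6 1) (by vs) (by vs; simp) (by vs) (c.CZ h) h'
  have h1 : v * tor l (x6 1) * v⁻¹ = x6 1 := c.inj (by rw [← h', map_mul, map_mul, ← c.he, map_inv]; group)
  have h2 := T4_c6 l (x6 1)
  have h3 := aut_Z2 (tor l.1) (v := x6 1) (by vs)
  have h4 : (tor l.1 (x6 1)).c6 = 1 := by
    have := congrArg V.c6 h1
    generalize tor l.1 (x6 1) = w at *
    clear * - this h3; dst w h3; vs at *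
    simp only [map_add, map_mul, map_pow, σσ] at this
    grind
  obtain rfl : l = 1 := Subtype.ext (T4_fst l.2 (Units.ext (by rw [h4] at h2; simpa [x6] using h2)))
  exact ⟨v, R_of (by simpa [mul_inv_eq_iff_eq_mul] using h1), by simp⟩

theorem P_R : c.P ≤ 𝐍(R.map c.e) := by
  have : 𝐂(Z2.map c.e) = R.map c.e := le_antisymm (fun g hg => c.CZ2
    (fun a => mul_inv_eq_iff_eq_mul.2 (mem_cent.1 hg _ (mem_map_of_mem _ (Z_le_Z2 (x4_mem a)))).symm)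
    (mul_inv_eq_iff_eq_mul.2 (mem_cent.1 hg _ (mem_map_of_mem _ (by vs))).symm)) (by
      rintro _ ⟨t, ht, rfl⟩
      refine mem_cent.2 ?_
      rintro _ ⟨w, hw, rfl⟩
      rw [← map_mul, ← R_comm ht hw, map_mul])
  exact this ▸ norm_cent le_rfl

theorem exists_s1 (hm : c.Main) : ∃ s ∈ c.P, s ∉ 𝐍(c.S) ∧ s ∈ 𝐍(c.D) ∧ s * s ∈ 𝐍(c.S) := by
  obtain ⟨n, hn, h1⟩ := hm.ex
  obtain ⟨t, ht⟩ := hm.dec hn h1 (inv_mem hn) (mt inv_mem_iff.1 h1)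
  have hx : ∀ t, c.e (x1 t) ∈ 𝐍(c.S) := fun t => le_norm _ ⟨_, rfl⟩
  obtain ⟨s, hs, h2, h3⟩ : ∃ s ∈ c.P, s ∉ 𝐍(c.S) ∧ s * s ∈ 𝐍(c.S) := ⟨c.e (x1 t) * n, mul_mem (c.B_le_P (hx t)) hn,
    mt (mul_mem_cancel_left (hx t)).1 h1, by simpa [mul_assoc] using mul_mem (hx t) ht⟩
  set M := 𝐍(c.S) ⊓ s ⋆ 𝐍(c.S)
  have hM : s ∈ 𝐍(M) := norm_of_conj_eq (by rw [conj_inf, conj_conj, conj_eq_of_mem h3, inf_comm])
  have sM := sol_of_le c.sol_NS (inf_le_left : M ≤ _)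
  obtain ⟨E, hE⟩ := Hall.exists (π := {2}ᶜ) sM
  have h4 := hE.sup_eq (N := c.S ⊓ M) inf_le_right (by
    rw [inf_relIndex_right]
    exact PiNat.of_dvd (c.syl.of_le (le_norm _) le_top).idx (relIndex_dvd_of_norm inf_le_left le_rfl))
  have h5 : E ≤ 𝐍(c.S) := hE.le.trans inf_le_left
  have h6 : Hall {2}ᶜ E 𝐍(c.S) := (Hall.of_sd ⟨h5, (PiGrp.p_iff.2 c.pS).inf_eq_bot hE.pi, le_antisymm
    (sup_le (le_norm _) h5) fun b hb => by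
      obtain ⟨t, ht⟩ := hm.dec hs h2 (mul_mem (c.B_le_P hb) hs) (mt (mul_mem_cancel_left hb).1 h2)
      have : b⁻¹ * c.e (x1 t) ∈ M := mem_inf.2 ⟨mul_mem (inv_mem hb) (hx t), mem_conj.2 (by simpa [mul_assoc] using ht)⟩
      simpa using mul_mem (mem_sup_left ⟨x1 t, rfl⟩ : _ ∈ c.S ⊔ E)
        (inv_mem (sup_le_sup_right inf_le_left E (h4.ge this)))⟩ (PiGrp.p_iff.2 c.pS) hE.pi).2
  obtain ⟨m, hm', e⟩ := hE.exists_conj_eq (hE.conj_of_norm hM) sM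
  have hm1 : m ∈ 𝐍(c.S) := hm'.1
  obtain ⟨u, hu, rfl⟩ := c.hall.exists_conj_eq h6 c.sol_NS
  refine ⟨u⁻¹ * (m⁻¹ * s) * u, mul_mem (mul_mem (inv_mem (c.B_le_P hu)) (mul_mem (inv_mem (c.B_le_P hm1)) hs))
    (c.B_le_P hu), fun h => h2 ?_, norm_of_conj_eq ?_, ?_⟩
  · rwa [mul_mem_cancel_right hu, mul_mem_cancel_left (inv_mem hu), mul_mem_cancel_left (inv_mem hm1)] at h
  · rw [← conj_conj, ← conj_conj, ← conj_conj, e, inv_conj_conj, inv_conj_conj]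
  · have := mul_mem (mul_mem (inv_mem hu) (mul_mem (mul_mem (inv_mem hm1) (mem_inf.1 (conj_mem_of_norm hM (inv_mem hm'))).1) h3)) hu
    convert this using 1
    group

end GD

end Cfsg.Lib.RF4
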