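import Cfsg.Agent.Lib.RF4.Col
import Cfsg.Agent.Lib.Twisted.MultF4

/-!
The coordinates of the Sylow `2`-subgroup inside the Chevalley group of type `F₄`.
-/

set_option autoImplicit false
set_option maxRecDepth 100000

namespace Cfsg.Lib.RF4

open Cfsg.Lie Cfsg.Lib.Chev Cfsg.Lib.Twisted Cfsg.Lib.BN V

/-- The order of the positive roots. -/
def keyF (i : ℕ) : ℕ := t8 0xb110d0a070509100c0612040e0200130f17081614031501000000000000000000000000000000000000000000000000 i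

/-- The commutation rules in characteristic two. -/
def ruleT : List (List (List (ℕ × ℕ × ℕ))) := [
  [[], [(26, 1, 1)], [], [], [(29, 1, 1), (32, 2, 1)], [], [(31, 1, 1)], [], [], [], [], [(36, 1, 1), (43, 2, 1)],
    [], [(38, 1, 1), (45, 2, 1)], [], [], [], [(42, 1, 1)], [], [], [], [], [(47, 1, 1)], []],
  [[(26, 1, 1)], [], [], [(28, 1, 1), (30, 2, 1)], [], [], [], [(32, 1, 1)], [], [], [(35, 1, 1), (41, 2, 1)], [],
    [], [], [(39, 1, 1), (47, 2, 1)], [], [], [], [(43, 1, 1)], [], [], [(46, 1, 1)], [], []],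
  [[], [], [], [(29, 1, 1), (31, 2, 1)], [], [], [(32, 1, 1)], [], [], [], [(36, 1, 1), (42, 2, 1)], [], [], [(39,
    1, 1), (46, 2, 1)], [], [], [], [(43, 1, 1)], [], [], [], [(47, 1, 1)], [], []],
  [[], [(28, 1, 1), (30, 1, 2)], [(29, 1, 1), (31, 1, 2)], [], [], [], [], [], [], [(34, 1, 1)], [], [(37, 1, 1)],
    [(38, 1, 1)], [], [], [(40, 1, 1)], [], [], [], [(44, 1, 1), (45, 1, 2)], [], [], [], []],
  [[(29, 1, 1), (32, 1, 2)], [], [], [], [], [], [], [], [], [(35, 1, 1)], [(37, 1, 1)], [], [(39, 1, 1)], [],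
    [(40, 1, 1)], [], [], [], [(44, 1, 1), (46, 1, 2)], [], [], [], [], []],
  [[], [], [], [], [], [], [], [], [], [(36, 1, 1)], [(38, 1, 1)], [(39, 1, 1)], [], [(40, 1, 1)], [], [], [],
    [(44, 1, 1), (47, 1, 2)], [], [], [], [], [], []],
  [[(31, 1, 1)], [], [(32, 1, 1)], [], [], [], [], [], [], [(37, 1, 1), (41, 2, 1)], [], [], [(40, 1, 1), (47, 2,
    1)], [], [], [], [], [], [(45, 1, 1)], [(46, 1, 1)], [], [], [], []],
  [[], [(32, 1, 1)], [], [], [], [], [], [], [], [(38, 1, 1), (42, 2, 1)], [], [(40, 1, 1), (46, 2, 1)], [], [],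
    [], [], [], [(45, 1, 1)], [], [(47, 1, 1)], [], [], [], []],
  [[], [], [], [], [], [], [], [], [], [(39, 1, 1), (43, 2, 1)], [(40, 1, 1), (45, 2, 1)], [], [], [], [], [], [],
    [(46, 1, 1)], [(47, 1, 1)], [], [], [], [], []],
  [[], [], [], [(34, 1, 1)], [(35, 1, 1)], [(36, 1, 1)], [(37, 1, 1), (41, 1, 2)], [(38, 1, 1), (42, 1, 2)], [(39,
    1, 1), (43, 1, 2)], [], [], [], [], [], [], [], [(44, 1, 1)], [], [], [], [], [], [], []],
  [[], [(35, 1, 1), (41, 1, 2)], [(36, 1, 1), (42, 1, 2)], [], [(37, 1, 1)], [(38, 1, 1)], [], [], [(40, 1, 1),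
    (45, 1, 2)], [], [], [], [], [], [], [(44, 1, 1)], [], [], [], [], [], [], [], []],
  [[(36, 1, 1), (43, 1, 2)], [], [], [(37, 1, 1)], [], [(39, 1, 1)], [], [(40, 1, 1), (46, 1, 2)], [], [], [], [],
    [], [], [(44, 1, 1)], [], [], [], [], [], [], [], [], []],
  [[], [], [], [(38, 1, 1)], [(39, 1, 1)], [], [(40, 1, 1), (47, 1, 2)], [], [], [], [], [], [], [(44, 1, 1)], [],
    [], [], [], [], [], [], [], [], []],
  [[(38, 1, 1), (45, 1, 2)], [], [(39, 1, 1), (46, 1, 2)], [], [], [(40, 1, 1)], [], [], [], [], [], [], [(44, 1,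
    1)], [], [], [], [], [], [], [], [], [], [], []],
  [[], [(39, 1, 1), (47, 1, 2)], [], [], [(40, 1, 1)], [], [], [], [], [], [], [(44, 1, 1)], [], [], [], [], [],
    [], [], [], [], [], [], []],
  [[], [], [], [(40, 1, 1)], [], [], [], [], [], [], [(44, 1, 1)], [], [], [], [], [], [], [], [], [], [], [], [],
    []],
  [[], [], [], [], [], [], [], [], [], [(44, 1, 1)], [], [], [], [], [], [], [], [], [], [], [], [], [], []],
  [[(42, 1, 1)], [], [(43, 1, 1)], [], [], [(44, 1, 1), (47, 2, 1)], [], [(45, 1, 1)], [(46, 1, 1)], [], [], [],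
    [], [], [], [], [], [], [], [], [], [], [], []],
  [[], [(43, 1, 1)], [], [], [(44, 1, 1), (46, 2, 1)], [], [(45, 1, 1)], [], [(47, 1, 1)], [], [], [], [], [], [],
    [], [], [], [], [], [], [], [], []],
  [[], [], [], [(44, 1, 1), (45, 2, 1)], [], [], [(46, 1, 1)], [(47, 1, 1)], [], [], [], [], [], [], [], [], [],
    [], [], [], [], [], [], []],
  [[], [], [], [], [], [], [], [], [], [], [], [], [], [], [], [], [], [], [], [], [], [], [], []],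
  [[], [(46, 1, 1)], [(47, 1, 1)], [], [], [], [], [], [], [], [], [], [], [], [], [], [], [], [], [], [], [], [],
    []],
  [[(47, 1, 1)], [], [], [], [], [], [], [], [], [], [], [], [], [], [], [], [], [], [], [], [], [], [], []],
  [[], [], [], [], [], [], [], [], [], [], [], [], [], [], [], [], [], [], [], [], [], [], [], []]]

/-- The coordinates of a product. -/
def mulX : List Ex := [
  (.add (.v 0) (.v 12)),
  (.add (.add (.v 1) (.v 13)) (.mul (.v 10) (.v 12))),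
  (.add (.add (.add (.add (.add (.add (.add (.v 2) (.v 14)) (.mul (.v 1) (.s (.v 13)))) (.mul (.v 4) (.v 12)))
    (.mul (.v 7) (.s (.v 12)))) (.mul (.mul (.v 1) (.s (.v 10))) (.s (.v 12)))) (.mul (.mul (.v 10) (.v 12)) (.s (.v
    13)))) (.mul (.mul (.v 11) (.v 12)) (.s (.v 12)))),
  (.add (.add (.add (.add (.add (.add (.add (.add (.add (.add (.add (.v 3) (.v 15)) (.mul (.v 4) (.v 13))) (.mul
    (.s (.v 7)) (.v 12))) (.mul (.v 9) (.s (.v 12)))) (.mul (.v 10) (.v 14))) (.mul (.mul (.v 4) (.v 10)) (.v 12)))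
    (.mul (.mul (.v 10) (.v 13)) (.s (.v 13)))) (.mul (.mul (.v 11) (.s (.v 12))) (.v 13))) (.mul (.mul (.s (.v 11))
    (.v 12)) (.s (.v 12)))) (.mul (.mul (.mul (.v 10) (.v 11)) (.v 12)) (.s (.v 12)))) (.mul (.mul (.mul (.pow (.v
    10) 2) (.s (.v 10))) (.v 12)) (.s (.v 12)))),
  (.add (.add (.add (.v 4) (.v 16)) (.mul (.v 10) (.s (.v 13)))) (.mul (.v 11) (.s (.v 12)))),
  (.add (.add (.add (.add (.add (.add (.add (.add (.add (.add (.add (.add (.add (.add (.add (.add (.add (.add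
    (.add (.add (.add (.add (.add (.add (.add (.add (.add (.add (.add (.add (.add (.add (.add (.add (.add (.add
    (.add (.add (.add (.add (.add (.add (.add (.v 5) (.v 17)) (.mul (.v 4) (.s (.v 16)))) (.mul (.v 6) (.v 13)))
    (.mul (.v 7) (.v 15))) (.mul (.v 8) (.v 12))) (.mul (.v 9) (.v 14))) (.mul (.v 10) (.s (.v 15)))) (.mul (.v 11)
    (.s (.v 14)))) (.mul (.mul (.v 6) (.v 10)) (.v 12))) (.mul (.mul (.v 7) (.v 9)) (.s (.v 12)))) (.mul (.mul (.v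
    7) (.v 10)) (.v 14))) (.mul (.mul (.v 9) (.v 13)) (.s (.v 13)))) (.mul (.mul (.s (.v 9)) (.v 12)) (.v 13)))
    (.mul (.mul (.v 10) (.s (.v 13))) (.s (.v 16)))) (.mul (.mul (.s (.v 10)) (.v 13)) (.v 15))) (.mul (.mul (.v 11)
    (.v 12)) (.v 15))) (.mul (.mul (.v 11) (.s (.v 12))) (.s (.v 16)))) (.mul (.mul (.v 11) (.v 13)) (.v 14))) (.mul
    (.mul (.s (.v 11)) (.v 12)) (.v 14))) (.mul (.mul (.v 4) (.s (.v 10))) (.pow (.v 13) 2))) (.mul (.mul (.v 4) (.s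
    (.v 11))) (.pow (.v 12) 2))) (.mul (.mul (.mul (.v 7) (.v 10)) (.v 13)) (.s (.v 13)))) (.mul (.mul (.mul (.v 7)
    (.v 11)) (.s (.v 12))) (.v 13))) (.mul (.mul (.mul (.v 7) (.s (.v 11))) (.v 12)) (.s (.v 12)))) (.mul (.mul
    (.mul (.v 9) (.s (.v 10))) (.s (.v 12))) (.v 13))) (.mul (.mul (.mul (.v 9) (.v 11)) (.v 12)) (.s (.v 12))))
    (.mul (.mul (.s (.v 9)) (.v 10)) (.pow (.v 12) 2))) (.mul (.mul (.mul (.v 10) (.s (.v 10))) (.v 12)) (.v 15)))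
    (.mul (.mul (.mul (.v 10) (.s (.v 10))) (.v 13)) (.v 14))) (.mul (.mul (.v 11) (.pow (.v 13) 2)) (.s (.v 13))))
    (.mul (.mul (.mul (.s (.v 11)) (.v 12)) (.v 13)) (.s (.v 13)))) (.mul (.mul (.mul (.mul (.v 7) (.v 10)) (.v 11))
    (.v 12)) (.s (.v 12)))) (.mul (.mul (.mul (.mul (.v 9) (.v 10)) (.s (.v 10))) (.v 12)) (.s (.v 12)))) (.mul
    (.mul (.mul (.v 10) (.s (.v 10))) (.pow (.v 13) 2)) (.s (.v 13)))) (.mul (.mul (.mul (.s (.v 10)) (.v 11)) (.s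
    (.v 12))) (.pow (.v 13) 2))) (.mul (.mul (.mul (.mul (.s (.v 10)) (.s (.v 11))) (.v 12)) (.s (.v 12))) (.v 13)))
    (.mul (.mul (.mul (.pow (.v 11) 2) (.v 12)) (.s (.v 12))) (.v 13))) (.mul (.mul (.mul (.v 11) (.s (.v 11)))
    (.pow (.v 12) 2)) (.s (.v 12)))) (.mul (.mul (.mul (.mul (.v 7) (.pow (.v 10) 2)) (.s (.v 10))) (.v 12)) (.s (.v
    12)))) (.mul (.mul (.mul (.mul (.v 10) (.s (.v 10))) (.s (.v 11))) (.pow (.v 12) 2)) (.s (.v 12)))) (.mul (.mul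
    (.mul (.v 10) (.pow (.v 11) 2)) (.pow (.v 12) 2)) (.s (.v 12)))) (.mul (.mul (.mul (.mul (.pow (.v 10) 2) (.pow
    (.s (.v 10)) 2)) (.v 12)) (.s (.v 12))) (.v 13))) (.mul (.mul (.mul (.pow (.v 10) 3) (.pow (.s (.v 10)) 2))
    (.pow (.v 12) 2)) (.s (.v 12)))),
  (.add (.add (.add (.add (.add (.add (.add (.add (.add (.add (.add (.add (.add (.add (.add (.add (.add (.v 6) (.v
    18)) (.mul (.v 7) (.v 16))) (.mul (.v 9) (.s (.v 13)))) (.mul (.s (.v 9)) (.v 12))) (.mul (.s (.v 10)) (.v 15)))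
    (.mul (.v 11) (.v 14))) (.mul (.mul (.v 7) (.v 10)) (.s (.v 13)))) (.mul (.mul (.v 7) (.v 11)) (.s (.v 12))))
    (.mul (.mul (.v 9) (.s (.v 10))) (.s (.v 12)))) (.mul (.mul (.v 10) (.s (.v 10))) (.v 14))) (.mul (.mul (.s (.v
    10)) (.v 13)) (.v 16))) (.mul (.mul (.v 11) (.v 12)) (.v 16))) (.mul (.mul (.s (.v 11)) (.v 12)) (.s (.v 13))))
    (.mul (.mul (.mul (.v 10) (.s (.v 10))) (.v 12)) (.v 16))) (.mul (.mul (.mul (.s (.v 10)) (.s (.v 11))) (.v 12))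
    (.s (.v 12)))) (.mul (.mul (.pow (.v 11) 2) (.v 12)) (.s (.v 12)))) (.mul (.mul (.mul (.pow (.v 10) 2) (.pow (.s
    (.v 10)) 2)) (.v 12)) (.s (.v 12)))),
  (.add (.add (.add (.add (.v 7) (.v 19)) (.mul (.s (.v 10)) (.v 13))) (.mul (.v 11) (.v 12))) (.mul (.mul (.v 10)
    (.s (.v 10))) (.v 12))),
  (.add (.add (.add (.add (.add (.add (.add (.add (.add (.add (.add (.add (.add (.add (.add (.add (.add (.add
    (.add (.add (.add (.add (.add (.add (.add (.add (.add (.add (.add (.add (.v 8) (.v 20)) (.mul (.v 7) (.s (.v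
    19)))) (.mul (.v 9) (.v 16))) (.mul (.s (.v 9)) (.v 13))) (.mul (.v 10) (.v 18))) (.mul (.v 11) (.v 15))) (.mul
    (.s (.v 11)) (.v 14))) (.mul (.mul (.v 7) (.s (.v 11))) (.s (.v 12)))) (.mul (.mul (.v 9) (.v 10)) (.s (.v
    13)))) (.mul (.mul (.v 9) (.v 11)) (.s (.v 12)))) (.mul (.mul (.s (.v 9)) (.v 10)) (.v 12))) (.mul (.mul (.v 10)
    (.v 11)) (.v 14))) (.mul (.mul (.s (.v 10)) (.v 13)) (.s (.v 19)))) (.mul (.mul (.v 11) (.v 12)) (.s (.v 19))))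
    (.mul (.mul (.v 11) (.v 13)) (.v 16))) (.mul (.mul (.s (.v 11)) (.v 12)) (.v 16))) (.mul (.mul (.s (.v 11)) (.v
    13)) (.s (.v 13)))) (.mul (.mul (.v 7) (.pow (.v 10) 2)) (.s (.v 13)))) (.mul (.mul (.pow (.v 10) 2) (.s (.v
    10))) (.v 14))) (.mul (.mul (.mul (.v 10) (.s (.v 10))) (.v 12)) (.s (.v 19)))) (.mul (.mul (.mul (.v 10) (.v
    11)) (.v 12)) (.v 16))) (.mul (.mul (.mul (.v 10) (.s (.v 11))) (.v 12)) (.s (.v 13)))) (.mul (.mul (.mul (.s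
    (.v 10)) (.s (.v 11))) (.s (.v 12))) (.v 13))) (.mul (.mul (.pow (.v 11) 2) (.s (.v 12))) (.v 13))) (.mul (.mul
    (.mul (.v 7) (.pow (.v 10) 2)) (.s (.v 10))) (.s (.v 12)))) (.mul (.mul (.mul (.pow (.v 10) 2) (.s (.v 10))) (.v
    12)) (.v 16))) (.mul (.mul (.mul (.mul (.v 10) (.s (.v 10))) (.s (.v 11))) (.v 12)) (.s (.v 12)))) (.mul (.mul
    (.mul (.v 10) (.pow (.v 11) 2)) (.v 12)) (.s (.v 12)))) (.mul (.mul (.mul (.pow (.v 10) 2) (.pow (.s (.v 10))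
    2)) (.s (.v 12))) (.v 13))) (.mul (.mul (.mul (.pow (.v 10) 3) (.pow (.s (.v 10)) 2)) (.v 12)) (.s (.v 12)))),
  (.add (.add (.add (.add (.add (.add (.v 9) (.v 21)) (.mul (.v 10) (.v 19))) (.mul (.v 11) (.v 13))) (.mul (.s
    (.v 11)) (.v 12))) (.mul (.mul (.v 10) (.v 11)) (.v 12))) (.mul (.mul (.pow (.v 10) 2) (.s (.v 10))) (.v 12))),
  (.add (.v 10) (.v 22)),
  (.add (.add (.v 11) (.v 23)) (.mul (.v 10) (.s (.v 22))))]

/-- The coordinates of the first reflection. -/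
def rX : List Ex := [
  (.v 9),
  (.v 7),
  (.add (.add (.v 8) (.mul (.v 1) (.s (.v 9)))) (.mul (.v 4) (.v 9))),
  (.add (.add (.add (.v 6) (.mul (.v 0) (.s (.v 9)))) (.mul (.s (.v 1)) (.v 9))) (.mul (.v 4) (.v 7))),
  (.v 4),
  (.add (.add (.add (.add (.add (.add (.add (.add (.add (.v 5) (.mul (.v 0) (.v 8))) (.mul (.v 1) (.v 6))) (.mul
    (.v 2) (.v 9))) (.mul (.v 3) (.v 7))) (.mul (.mul (.v 0) (.v 1)) (.s (.v 9)))) (.mul (.mul (.v 0) (.v 4)) (.v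
    9))) (.mul (.mul (.v 0) (.v 7)) (.s (.v 7)))) (.mul (.mul (.s (.v 0)) (.v 7)) (.v 9))) (.mul (.mul (.v 1) (.v
    4)) (.v 7))),
  (.add (.add (.add (.v 3) (.mul (.v 0) (.s (.v 7)))) (.mul (.s (.v 0)) (.v 9))) (.mul (.v 1) (.v 4))),
  (.v 1),
  (.add (.add (.v 2) (.mul (.v 0) (.v 4))) (.mul (.s (.v 0)) (.v 7))),
  (.v 0),
  .zero,
  .zero]

/-- The coordinates of the second reflection. -/
def sX : List Ex := [
  .zero,
  (.v 10),
  (.v 11),
  (.add (.add (.add (.v 9) (.mul (.v 1) (.v 11))) (.mul (.v 7) (.v 10))) (.mul (.mul (.v 1) (.v 10)) (.s (.v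
    10)))),
  (.add (.v 7) (.mul (.v 1) (.s (.v 10)))),
  (.add (.add (.add (.add (.add (.add (.add (.add (.add (.add (.add (.add (.add (.v 8) (.mul (.v 1) (.s (.v 9))))
    (.mul (.v 2) (.s (.v 11)))) (.mul (.v 3) (.v 11))) (.mul (.v 4) (.v 9))) (.mul (.v 6) (.v 10))) (.mul (.mul (.s
    (.v 1)) (.v 9)) (.v 10))) (.mul (.mul (.v 2) (.v 10)) (.v 11))) (.mul (.mul (.v 3) (.v 10)) (.s (.v 10)))) (.mul
    (.mul (.v 4) (.v 7)) (.v 10))) (.mul (.mul (.mul (.v 1) (.s (.v 1))) (.v 10)) (.v 11))) (.mul (.mul (.s (.v 1))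
    (.v 7)) (.pow (.v 10) 2))) (.mul (.mul (.v 2) (.pow (.v 10) 2)) (.s (.v 10)))) (.mul (.mul (.mul (.v 1) (.s (.v
    1))) (.pow (.v 10) 2)) (.s (.v 10)))),
  (.add (.add (.add (.add (.add (.v 6) (.mul (.s (.v 1)) (.v 9))) (.mul (.v 2) (.v 11))) (.mul (.v 3) (.s (.v
    10)))) (.mul (.v 4) (.v 7))) (.mul (.mul (.v 1) (.s (.v 1))) (.v 11))),
  (.add (.v 4) (.mul (.s (.v 1)) (.v 10))),
  (.add (.add (.add (.add (.add (.add (.add (.add (.add (.add (.add (.v 5) (.mul (.v 1) (.v 6))) (.mul (.v 2) (.v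
    9))) (.mul (.s (.v 2)) (.v 11))) (.mul (.v 3) (.v 7))) (.mul (.s (.v 3)) (.v 10))) (.mul (.mul (.v 1) (.v 2))
    (.v 11))) (.mul (.mul (.v 1) (.v 3)) (.s (.v 10)))) (.mul (.mul (.v 1) (.v 4)) (.v 7))) (.mul (.mul (.s (.v 1))
    (.s (.v 4))) (.v 10))) (.mul (.mul (.s (.v 2)) (.v 10)) (.s (.v 10)))) (.mul (.mul (.pow (.v 1) 2) (.s (.v 1)))
    (.v 11))),
  (.add (.add (.v 3) (.mul (.v 1) (.v 4))) (.mul (.v 2) (.v 10))),
  (.v 1),
  (.v 2)]

/-- Admissible pairs. -/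
def okF (i j : ℕ) : Bool := Nat.ble 24 i && Nat.blt i 48 && Nat.ble 24 j && Nat.blt j 48 && !Nat.beq i j

/-- The rule for a pair. -/
def ruleF (i j : ℕ) : List (ℕ × ℕ × ℕ) := (ruleT.getD (i - 24) []).getD (j - 24) []

set_option synthInstance.maxSize 2000 in
theorem ruleF_spec : ∀ i < 48, ∀ j < 48, okF i j = true → i ≠ j ∧ i ≠ chevF4.neg j ∧
    ((chevF4.commTerms j i).filter fun a => a.2.1 % 2 = 1).map (fun a => (a.1, a.2.2)) = ruleF i j := by
  decide +kernel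

variable {K : Type*} [Field K] [Tw K]

theorem ruleF_sound (i j : ℕ) (h : okF i j = true) (t u : K) : xN checkedF4 i t * xN checkedF4 j u =
    xN checkedF4 j u * xN checkedF4 i t * ((ruleF i j).map fun a => xN checkedF4 a.1 (u ^ a.2.1 * t ^ a.2.2)).prod := by
  have hi : i < 48 ∧ j < 48 := by simp [okF] at h; omega
  obtain ⟨h1, h2, h3⟩ := ruleF_spec i hi.1 j hi.2 h
  rw [xN_comm checkedF4 ⟨hi.2, hi.1, h1, h2, rfl⟩, ← h3]
  congr 1
  induction chevF4.commTerms j i with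
  | nil => rfl
  | cons a l ih =>
    obtain ⟨k, e | e⟩ := Int.even_or_odd' a.2.1
    · rw [List.filter_cons_of_neg (by simp; omega), List.map_cons, List.prod_cons, ih, e]
      simp [Tw.two]
    · rw [List.filter_cons_of_pos (by simp; omega), List.map_cons, List.prod_cons, ih, e]
      simp [Tw.two, CharTwo.neg_eq]

/-- The positive roots. -/
def ordF : List ℕ := [33, 24, 34, 26, 36, 42, 38, 43, 29, 41, 44, 47, 39, 45, 35, 31, 40, 46, 37, 32, 27, 25, 28, 30]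

/-- The arguments of the root elements. -/
def wK (v : V K) : List K := [v.a1, σ v.a1, v.b2, σ v.b2, v.b2 * σ v.b2 + v.c2, σ v.c2, v.a3, σ v.a3,
  v.b4, σ v.b4, v.b4 * σ v.b4 + v.c4, σ v.c4, v.a5, σ v.a5, v.b6, σ v.b6, v.b6 * σ v.b6 + v.c6, σ v.c6,
  v.a7, σ v.a7, v.b8, σ v.b8, v.b8 * σ v.b8 + v.c8, σ v.c8]

/-- The arguments as expressions. -/
def wE : List Ex → List Ex
  | [a1, b2, c2, a3, b4, c4, a5, b6, c6, a7, b8, c8] => [a1, .s a1, b2, .s b2, .add (.mul b2 (.s b2)) c2, .s c2,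
      a3, .s a3, b4, .s b4, .add (.mul b4 (.s b4)) c4, .s c4, a5, .s a5, b6, .s b6, .add (.mul b6 (.s b6)) c6, .s c6,
      a7, .s a7, b8, .s b8, .add (.mul b8 (.s b8)) c8, .s c8]
  | _ => []

/-- A word in root elements. -/
noncomputable def EW (o : List ℕ) (t : List K) : chevF4.group K := (List.zipWith (xN checkedF4) o t).prod

theorem snd {w w' : List (ℕ × Ex)} (h : col keyF okF ruleF 5000 [] (nfW w) = col keyF okF ruleF 5000 [] (nfW w'))
    {L : List K} (hL : L.length ≤ 24) :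
    (w.map fun a => xN checkedF4 a.1 (a.2.ev L)).prod = (w'.map fun a => xN checkedF4 a.1 (a.2.ev L)).prod :=
  col_sound (xN_zero _) (xN_add _) ruleF_sound h hL

/-- The coordinates as a list. -/
def V.co (v : V K) : List K := [v.a1, v.b2, v.c2, v.a3, v.b4, v.c4, v.a5, v.b6, v.c6, v.a7, v.b8, v.c8]

theorem EW_mul (v w : V K) : EW ordF (wK (v * w)) = EW ordF (wK v) * EW ordF (wK w) := by
  have := snd (w := ordF.zip (wE mulX)) (w' := ordF.zip (wE ((List.range 12).map .v)) ++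
    ordF.zip (wE ((List.range 12).map fun i => .v (12 + i)))) (by decide +kernel) (L := v.co ++ w.co) le_rfl
  rw [List.map_append, List.prod_append] at this
  exact this

/-- The embedding into the Chevalley group. -/
noncomputable def eF : V K →* chevF4.group K := .mk' (fun v => EW ordF (wK v)) EW_mul

theorem eF_apply (v : V K) : eF v = EW ordF (wK v) := rfl

theorem EW_r {v : V K} (h : v ∈ Q) : EW [37, 32, 35, 31, 40, 46, 39, 45, 29, 41, 44, 47, 38, 43, 34, 26, 36, 42, 33,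
    24, 20, 22, 19, 17] (wK v) = eF (ρr v) := by
  obtain ⟨a1, b2, c2, a3, b4, c4, a5, b6, c6, a7, b8, c8⟩ := v
  obtain ⟨rfl, rfl⟩ : b8 = 0 ∧ c8 = 0 := h
  exact snd (w' := ordF.zip (wE rX)) (w := [37, 32, 35, 31, 40, 46, 39, 45, 29, 41, 44, 47, 38, 43, 34, 26, 36, 42,
    33, 24, 20, 22, 19, 17].zip (wE ((List.range 10).map .v ++ [.zero, .zero]))) (by decide +kernel)
    (L := [a1, b2, c2, a3, b4, c4, a5, b6, c6, a7]) (by simp)

theorem EW_s {v : V K} (h : v ∈ R) : EW [14, 23, 27, 25, 28, 30, 37, 32, 35, 31, 40, 46, 39, 45, 29, 41, 44, 47, 38,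
    43, 34, 26, 36, 42] (wK v) = eF (ρs v) := by
  obtain ⟨a1, b2, c2, a3, b4, c4, a5, b6, c6, a7, b8, c8⟩ := v
  obtain rfl : a1 = 0 := h
  exact snd (w' := ordF.zip (wE sX)) (w := [14, 23, 27, 25, 28, 30, 37, 32, 35, 31, 40, 46, 39, 45, 29, 41, 44, 47,
    38, 43, 34, 26, 36, 42].zip (wE (.zero :: (List.range 11).map fun i => .v (i + 1)))) (by decide +kernel)
    (L := [0, b2, c2, a3, b4, c4, a5, b6, c6, a7, b8, c8]) (by simp)

end Cfsg.Lib.RF4
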