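import Cfsg.Agent.Lib.RF4.Cent
import Cfsg.Agent.Lib.PGroup.Critical

/-!
Characteristic subgroups and automorphisms of the Sylow `2`-subgroup.
-/

set_option autoImplicit false

namespace Cfsg.Lib.RF4

open V Subgroup Cfsg.Lib.PGroup

variable {K : Type*} [Field K] [Tw K]

omit [Field K] [Tw K] in
theorem card_V : Nat.card (V K) = Nat.card K ^ 12 := by
  rw [← Nat.card_fin 12, ← Nat.card_fun]
  refine Nat.card_congr ⟨fun v => ![v.a1, v.b2, v.c2, v.a3, v.b4, v.c4, v.a5, v.b6, v.c6, v.a7, v.b8, v.c8],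
    fun f => ⟨f 0, f 1, f 2, f 3, f 4, f 5, f 6, f 7, f 8, f 9, f 10, f 11⟩, fun _ => rfl, fun f => ?_⟩
  funext i
  fin_cases i <;> rfl

instance finV [Finite K] : Finite (V K) :=
  Nat.finite_of_card_ne_zero (by rw [card_V]; exact pow_ne_zero _ Nat.card_pos.ne')

theorem card_K [Finite K] : ∃ n, 0 < n ∧ Nat.card K = 2 ^ n := by
  have := Fintype.ofFinite K
  obtain ⟨n, -, h⟩ := FiniteField.card K 2
  exact ⟨n, n.2, Nat.card_eq_fintype_card.trans h⟩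

theorem pgV [Finite K] : IsPGroup 2 (V K) := by
  obtain ⟨n, -, h⟩ := card_K (K := K)
  exact .of_card (n := n * 12) (by rw [card_V, h, pow_mul])

theorem odd_units [Finite K] : Odd (Nat.card Kˣ) := by
  obtain ⟨n, hn, h⟩ := card_K (K := K)
  rw [Nat.card_units, h]
  exact Nat.Even.sub_odd Nat.one_le_two_pow ((Nat.even_pow' hn.ne').2 even_two) odd_one

theorem odd_T [Finite K] : Odd (Nat.card (Kˣ × Kˣ)) := by
  rw [Nat.card_prod]; exact odd_units.mul odd_units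

/-- The commutator. -/
def cm {G : Type*} [Group G] (v w : G) : G := v * w * v⁻¹ * w⁻¹

theorem map_cm {G H F : Type*} [Group G] [Group H] [FunLike F G H] [MonoidHomClass F G H] (f : F) (v w : G) :
    f (cm v w) = cm (f v) (f w) := by simp [cm]

theorem Z_of {v : V K} (h : ∀ w, v * w = w * v) : v ∈ Z := by
  have h1 := h (x1 1)
  have h2 := h (y8 1)
  have h3 := h (y2 1)
  have h4 := h (y4 1)
  have h5 := h (x8 1)
  have h6 := h (x2 1)
  have h7 := h (y6 1)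
  vs at *
  grind

theorem cm_eq {G : Type*} [Group G] {N : Subgroup G} {v w : G} (h : cm v w ∈ N) : ∃ z ∈ N, v * w = z * (w * v) :=
  ⟨_, h, by simp [cm, mul_assoc]⟩

theorem cm_of {G : Type*} [Group G] {N : Subgroup G} {v w z : G} (hz : z ∈ N) (h : v * w = z * (w * v)) :
    cm v w ∈ N := by
  rwa [cm, h, mul_assoc z, mul_inv_cancel_right, mul_inv_cancel_right]

/-- Substitute the vanishing coordinates. -/
scoped macro "dst" v:ident h:ident : tactic =>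
  `(tactic| (obtain ⟨_, _, _, _, _, _, _, _, _, _, _, _⟩ := $v; vs at $h:ident; (try casesm* _ ∧ _); subst_vars))

/-- Verify a statement in coordinates. -/
scoped macro "vp" : tactic =>
  `(tactic| ((try simp only [cm]); vs <;> ((try constructorm* _ ∧ _) <;> pol)))

theorem Z2_of {v : V K} (h : ∀ w, cm v w ∈ Z) : v ∈ Z2 := by
  obtain ⟨z1, k1, h1⟩ := cm_eq (h (x1 1))
  obtain ⟨z2, k2, h2⟩ := cm_eq (h (y8 1))
  obtain ⟨z3, k3, h3⟩ := cm_eq (h (y2 1))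
  obtain ⟨z4, k4, h4⟩ := cm_eq (h (y4 1))
  obtain ⟨z5, k5, h5⟩ := cm_eq (h (x8 1))
  clear h
  dst z1 k1; dst z2 k2; dst z3 k3; dst z4 k4; dst z5 k5
  vs at *
  grind

theorem Z2_cm {v : V K} (h : v ∈ Z2) (w : V K) : cm v w ∈ Z := by
  dst v h; vp

theorem Z3_of {v : V K} (h : ∀ w, cm v w ∈ Z2) : v ∈ Z3 := by
  obtain ⟨z1, k1, h1⟩ := cm_eq (h (x1 1))
  obtain ⟨z2, k2, h2⟩ := cm_eq (h (y8 1))
  obtain ⟨z3, k3, h3⟩ := cm_eq (h (y2 1))
  obtain ⟨z4, k4, h4⟩ := cm_eq (h (y4 1))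
  obtain ⟨z5, k5, h5⟩ := cm_eq (h (x8 1))
  obtain ⟨z6, k6, h6⟩ := cm_eq (h (y6 1))
  clear h
  dst z1 k1; dst z2 k2; dst z3 k3; dst z4 k4; dst z5 k5; dst z6 k6
  vs at *
  grind

theorem Z3_cm {v : V K} (h : v ∈ Z3) (w : V K) : cm v w ∈ Z2 := by
  dst v h; vp

theorem R_of {v : V K} (h : v * x6 1 = x6 1 * v) : v ∈ R := by
  vs at *; grind

theorem R_comm {v w : V K} (h : v ∈ R) (hw : w ∈ Z2) : v * w = w * v := by
  dst v h; dst w hw; vp

theorem Q8_of {v : V K} (h : cm v (x5 1) ∈ Z) : v ∈ Q8 := by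
  obtain ⟨z1, k1, h1⟩ := cm_eq h
  clear h
  dst z1 k1
  vs at *
  grind

theorem Q8_cm {v w : V K} (h : v ∈ Q8) (hw : w ∈ Z3) : cm v w ∈ Z := by
  dst v h; dst w hw; vp

theorem aut_Z (φ : MulAut (V K)) {v : V K} (h : v ∈ Z) : φ v ∈ Z := Z_of fun w => by
  simpa using congrArg φ (Z_comm h (φ.symm w)).symm

theorem aut_Z2 (φ : MulAut (V K)) {v : V K} (h : v ∈ Z2) : φ v ∈ Z2 := Z2_of fun w => by
  simpa [map_cm] using aut_Z φ (Z2_cm h (φ.symm w))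

theorem aut_Z3 (φ : MulAut (V K)) {v : V K} (h : v ∈ Z3) : φ v ∈ Z3 := Z3_of fun w => by
  simpa [map_cm] using aut_Z2 φ (Z3_cm h (φ.symm w))

theorem aut_R (φ : MulAut (V K)) {v : V K} (h : v ∈ R) : φ v ∈ R := R_of (by
  simpa using congrArg φ (R_comm h (aut_Z2 φ.symm (v := x6 1) (by vs))))

theorem aut_Q8 (φ : MulAut (V K)) {v : V K} (h : v ∈ Q8) : φ v ∈ Q8 := Q8_of (by
  simpa [map_cm] using aut_Z φ (Q8_cm h (aut_Z3 φ.symm (v := x5 1) (by vs))))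

theorem aut_Ph (φ : MulAut (V K)) {v : V K} (h : v ∈ Ph) : φ v ∈ Ph := ⟨aut_R φ h.1, aut_Q8 φ h.2⟩

theorem Xs_le [Finite K] {N : Subgroup (V K)} (h1 : ∀ v, v * v ∈ N) (h2 : ∀ v w, cm v w ∈ N) : Xs ≤ N := by
  intro v hv
  obtain ⟨b2, e2⟩ := nm_surj v.c2
  obtain ⟨b4, e4⟩ := nm_surj v.c4
  obtain ⟨b6, e6⟩ := nm_surj v.c6
  obtain ⟨b8, e8⟩ := nm_surj v.c8
  have := mul_mem (mul_mem (mul_mem (mul_mem (mul_mem (mul_mem (h1 (y2 b2)) (h2 (y4 v.a3) (y2 1))) (h1 (y4 b4)))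
    (h2 (y6 v.a5) (y4 1))) (h1 (y6 b6))) (h2 (y8 v.a7) (y6 1))) (h1 (y8 b8))
  rw [show y2 b2 * y2 b2 = x2 v.c2 by vs; grind, show y4 b4 * y4 b4 = x4 v.c4 by vs; grind,
    show y6 b6 * y6 b6 = x6 v.c6 by vs; grind, show y8 b8 * y8 b8 = x8 v.c8 by vs; grind,
    show cm (y4 v.a3) (y2 1) = x3 v.a3 by vp, show cm (y6 v.a5) (y4 1) = x5 v.a5 by vp,
    show cm (y8 v.a7) (y6 1) = x7 v.a7 by vp] at this
  convert this using 1
  revert hv; vs; tauto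

theorem Ph_dec {v : V K} (h : v ∈ Ph) {w : V K} (hw : w ∈ Ph) (h2 : v.b2 = w.b2) (h4 : v.b4 = w.b4)
    (h6 : v.b6 = w.b6) : v * w⁻¹ ∈ Xs := by
  dst v h; dst w hw; vp

theorem Ph_mem [Finite K] {N : Subgroup (V K)} (h1 : ∀ v, v * v ∈ N) (h2 : ∀ v w, cm v w ∈ N) {v w : V K}
    (hv : v ∈ Ph) (hw : w ∈ N) (hw' : w ∈ Ph) (a : v.b2 = w.b2) (b : v.b4 = w.b4) (c : v.b6 = w.b6) : v ∈ N :=
  (mul_mem_cancel_right (inv_mem hw)).1 (Xs_le h1 h2 (Ph_dec hv hw' a b c))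

theorem Ph_even [Finite K] {N : Subgroup (V K)} (h1 : ∀ v, v * v ∈ N) (h2 : ∀ v w, cm v w ∈ N) {v : V K}
    (hv : v ∈ Ph) (e : v.b2 + v.b4 + v.b6 = 0) : v ∈ N := by
  refine Ph_mem h1 h2 hv (mul_mem (h2 (x1 v.b2) (y8 1)) (h2 (x1 1) (x8 v.b4))) ?_ ?_ ?_ ?_ <;> clear h1 h2 <;> vp

theorem add_σ_ne {a : K} (a0 : a ≠ 0) (a1 : a ≠ 1) : a + σ a ≠ 0 := fun e => by
  have := congrArg σ e
  simp only [map_add, σσ, map_zero] at this
  grind

theorem Ph_le [Finite K] {N : Subgroup (V K)} (h1 : ∀ v, v * v ∈ N) (h2 : ∀ v w, cm v w ∈ N) {a : K} (a0 : a ≠ 0)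
    (a1 : a ≠ 1) : Ph ≤ N := fun v hv => by
  obtain ⟨t, ht⟩ : ∃ t, t * (a + σ a) = v.b2 + v.b4 + v.b6 := ⟨_, div_mul_cancel₀ _ (add_σ_ne a0 a1)⟩
  refine (mul_mem_cancel_right (h2 (x1 a) (x8 t))).1 (Ph_even h1 h2 (mul_mem hv ?_) ?_) <;> clear h1 h2
  · vp
  · dst v hv; vp

/-- An automorphism of odd order acting trivially on the quotient by `Ph` is trivial. -/
theorem aut_eq_one [Finite K] {φ : MulAut (V K)} (ho : Odd (orderOf φ)) (h : ∀ v, v⁻¹ * φ v ∈ Ph) : φ = 1 := by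
  have h1 : ∀ v : V K, v * v ∈ frattini _ := fun v => sq v ▸ pow_mem_frattini pgV v
  have h2 : ∀ v w : V K, cm v w ∈ frattini _ := commutatorElement_mem_frattini pgV
  by_cases hq : ∀ t : K, t = 0 ∨ t = 1
  · have : φ ^ 2 = 1 := mulAut_eq_one_of_trivial_mod_frattini pgV
      ((Nat.coprime_two_right.2 ho).coprime_dvd_left (orderOf_pow_dvd 2)) fun v => by
        rw [show v⁻¹ * (φ ^ 2) v = v⁻¹ * φ v * φ (v⁻¹ * φ v) by simp [sq, mul_assoc]]
        have hw := h v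
        generalize v⁻¹ * φ v = w at hw
        by_cases e : w ∈ frattini _
        · exact mul_mem e ((characteristic_iff_le_comap.1 inferInstance φ) e)
        have hw' := aut_Ph φ hw
        have a := (hq _).resolve_left (mt (Ph_even h1 h2 hw) e)
        have b := (hq _).resolve_left (mt (Ph_even h1 h2 hw') fun e' =>
          e ((characteristic_iff_comap_le.1 inferInstance φ) e'))
        refine Ph_even h1 h2 (mul_mem hw hw') ?_
        generalize φ w = w' at *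
        clear * - hw hw' a b
        dst w hw; dst w' hw'; vp
    exact orderOf_eq_one_iff.1 ((Nat.coprime_two_right.2 ho).eq_one_of_dvd (orderOf_dvd_of_pow_eq_one this))
  push Not at hq
  obtain ⟨a, a0, a1⟩ := hq
  exact mulAut_eq_one_of_trivial_mod_frattini pgV (Nat.coprime_two_right.2 ho) fun v => Ph_le h1 h2 a0 a1 (h v)

theorem R_iff {v w : V K} : v * w⁻¹ ∈ R ↔ v.a1 = w.a1 := by vs; grind

theorem Q8_iff {v w : V K} : v * w⁻¹ ∈ Q8 ↔ v.b8 = w.b8 := by vs; grind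

/-- An automorphism commuting with the torus acts linearly. -/
theorem aut_lin [Finite K] {φ : MulAut (V K)} (h : ∀ l : T4 K, ∀ v, φ (tor l v) = tor l (φ v)) :
    ∃ l, ∀ v, (tor l v)⁻¹ * φ v ∈ Ph := by
  have h1 : ∀ v, (φ v).a1 = (φ (x1 v.a1)).a1 := fun v => R_iff.1 (by simpa using aut_R φ (dec_R v))
  have h2 : ∀ v, (φ v).b8 = (φ (y8 v.b8)).b8 := fun v =>
    Q8_iff.1 (by simpa using aut_Q8 φ (Q8_iff.2 (show v.b8 = (y8 v.b8).b8 from rfl)))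
  have a0 : (φ (x1 1)).a1 ≠ 0 := fun e => by simpa [mem_R, x1] using aut_R φ.symm e
  have b0 : (φ (y8 1)).b8 ≠ 0 := fun e => by simpa [mem_Q8, y8] using aut_Q8 φ.symm e
  refine ⟨(.mk0 _ a0, .mk0 _ b0), fun v => ?_⟩
  have k1 : (φ v).a1 = (φ (x1 1)).a1 * v.a1 := by
    by_cases e : v.a1 = 0
    · rw [e, mul_zero]; exact aut_R φ e
    obtain ⟨l, hl, e'⟩ := T4_ex_fst (.mk0 _ e)
    rw [h1, show x1 v.a1 = tor l (x1 1) by vs; simp [e'], h ⟨l, hl⟩]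
    vs; simp [e', mul_comm]
  have k2 : (φ v).b8 = (φ (y8 1)).b8 * v.b8 := by
    by_cases e : v.b8 = 0
    · rw [e, mul_zero]; exact aut_Q8 φ e
    obtain ⟨l, hl, e'⟩ := T4_ex_snd (.mk0 _ e)
    rw [h2, show y8 v.b8 = tor l (y8 1) by vs; simp [e'], h ⟨l, hl⟩]
    vs; simp [e', mul_comm]
  generalize (φ (x1 1)).a1 = a, (φ (y8 1)).b8 = b, φ v = w at *
  vs
  simp only [k1, k2, Units.val_mk0]
  clear * -
  constructor <;> grind

end Cfsg.Lib.RF4
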