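import Cfsg.Agent.Lib.RF4.Std1
import Cfsg.Agent.Lib.RF4.VL

/-!
The root datum of octagon type in the large Ree groups.
-/

set_option autoImplicit false
set_option maxRecDepth 100000

namespace Cfsg.Lib.RF4

open Cfsg.Lie Cfsg.Lib.Chev Cfsg.Lib.Chev.ChevSys Cfsg.Lib.Twisted Cfsg.Lib.Twisted.Twist Cfsg.Lib.BN V Subgroup

variable {K : Type*} [Field K] [Tw K]

/-- Representatives of the Weyl group. -/
noncomputable def nW (K : Type*) [Field K] (l : List (Fin 4)) : chevF4.group K :=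
  wp (fun i => (CF4 K).n (RF4.simple i) 1) l

/-- The action on the roots. -/
def wN (l : List (Fin 4)) (r : ℕ) : ℕ := l.foldr (fun (i : Fin 4) s => t8 (wT certF4 i) s) r

theorem wN_eq (l : List (Fin 4)) (r : Fin 48) : (wp RF4.sref l r).val = wN l r := wp_val checkedF4 _ _

theorem acts_nW (l : List (Fin 4)) : (CF4 K).Acts (nW K l) (wp RF4.sref l) 1 := by
  induction l with
  | nil => exact (CF4 K).acts_one
  | cons i l ih =>
    rw [nW, wp_cons, wp_cons]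
    refine (((CF4 K).acts_n_simple i).mul ih).congr rfl fun s => Units.ext ?_
    have := congrArg Units.val ((CF4 K).η_sq i (wp RF4.sref l s))
    simp only [Units.val_mul, Units.val_one, Pi.one_apply, mul_one] at this ⊢
    grind

theorem nW_eq {l l' : List (Fin 4)} (h : ∀ r : Fin 48, wN l r = wN l' r) : nW K l = nW K l' := by
  have e : wp RF4.sref l = wp RF4.sref l' := Equiv.ext fun r => Fin.ext (by rw [wN_eq, wN_eq, h])
  refine mul_inv_eq_one.1 (adjoint_F4 _ (NW.mem_H ?_) ?_)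
  · simpa [e, nW] using ((CF4 K).nw_wp l).mul ((CF4 K).nw_wp l').inv
  · exact ((acts_nW l).mul (acts_nW l').inv).congr (by simp [e]) (by simp)

omit [Tw K] in
theorem nW_append (l l' : List (Fin 4)) : nW K (l ++ l') = nW K l * nW K l' := wp_append _ _ _

omit [Tw K] in
theorem conj_EW {g : chevF4.group K} {w : ℕ → ℕ} {χ : ℕ → K} {o : List ℕ}
    (h : ∀ k ∈ o, ∀ t, g * xN checkedF4 k t * g⁻¹ = xN checkedF4 (w k) (χ k * t)) (t : List K) :
    g * EW o t * g⁻¹ = EW (o.map w) (List.zipWith (fun k t => χ k * t) o t) := by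
  induction o generalizing t with
  | nil => simp [EW]
  | cons k o ih =>
    rcases t with _ | ⟨a, t⟩
    · simp [EW]
    · have := ih (fun k hk => h k (List.mem_cons_of_mem _ hk)) t
      simp only [EW, List.zipWith_cons_cons, List.map_cons, List.prod_cons] at this ⊢
      rw [← conj_mul, this, h k List.mem_cons_self]

theorem nW_x (l : List (Fin 4)) {k : ℕ} (hk : k < 48) (t : K) :
    nW K l * xN checkedF4 k t * (nW K l)⁻¹ = xN checkedF4 (wN l k) t := by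
  simpa [x_F4, wN_eq] using (acts_nW l).conj ⟨k, hk⟩ t

theorem nW_e (l : List (Fin 4)) (v : V K) : nW K l * eF v * (nW K l)⁻¹ = EW (ordF.map (wN l)) (wK v) :=
  (conj_EW (χ := 1) (fun k hk t => by
    simpa using nW_x l ((by decide : ∀ k ∈ ordF, k < 48) k hk) t) _).trans (by simp [ordF, wK])

theorem nW_r {v : V K} (h : v ∈ Q) : nW K [1, 2, 1, 2] * eF v * (nW K [1, 2, 1, 2])⁻¹ = eF (ρr v) :=
  (nW_e _ _).trans ((congrArg (EW · _) (by decide +kernel)).trans (EW_r h))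

theorem nW_s {v : V K} (h : v ∈ R) : nW K [0, 3] * eF v * (nW K [0, 3])⁻¹ = eF (ρs v) :=
  (nW_e _ _).trans ((congrArg (EW · _) (by decide +kernel)).trans (EW_s h))

/-- The parameters of a torus element. -/
def cF : Kˣ × Kˣ →* (Fin 4 → Kˣ) := .mk' (fun l => ![l.1 ^ 2 * σu l.1 * l.2 ^ 3 * σu l.2 ^ 2,
    l.1 ^ 3 * σu l.1 ^ 2 * l.2 ^ 6 * σu l.2 ^ 4, σu (l.1 ^ 3 * σu l.1 ^ 2 * l.2 ^ 6 * σu l.2 ^ 4),
    σu (l.1 ^ 2 * σu l.1 * l.2 ^ 3 * σu l.2 ^ 2)]) fun a b => by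
  funext i
  fin_cases i <;> simp [mul_pow] <;> ac_rfl

theorem σuσu (t : Kˣ) : σu (σu t) = t ^ 2 := Units.ext (by simp)

theorem chr_cF (l : Kˣ × Kˣ) (j : Fin 4) : RF4.chr (cF l) (RF4.simple j) = ![l.1, l.2, σu l.2, σu l.1] j := by
  rw [chr_simple, RF4_A]
  have h1 := l.1.ne_zero
  have h2 := l.2.ne_zero
  have h3 := mt σ_eq_zero.1 h1
  have h4 := mt σ_eq_zero.1 h2
  fin_cases j <;> simp [cF, Fin.prod_univ_four, σuσu, Units.ext_iff] <;> field_simp

theorem chr_cF' (l : Kˣ × Kˣ) (r : Fin 48) : RF4.chr (cF l) r = l.1 ^ aN chevF4 certF4 r 0 *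
    l.2 ^ aN chevF4 certF4 r 1 * σu l.2 ^ aN chevF4 certF4 r 2 * σu l.1 ^ aN chevF4 certF4 r 3 := by
  rw [chr_eq_prod, Fin.prod_univ_four]
  simp only [chr_cF]
  rfl

/-- The torus. -/
noncomputable def hF : Kˣ × Kˣ →* chevF4.group K := (Twisted.tor adjoint_F4).comp cF

theorem acts_hF (l : Kˣ × Kˣ) : (CF4 K).Acts (hF l) 1 (RF4.chr (cF l)) := acts_tor adjoint_F4 _

theorem hF_mem (l : Kˣ × Kˣ) : hF l ∈ (CF4 K).H := tor_mem adjoint_F4 _

theorem hF_e (l : Kˣ × Kˣ) (v : V K) : hF l * eF v * (hF l)⁻¹ = eF (tor l v) := by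
  refine (conj_EW (w := id) (χ := fun k => (l.1 : K) ^ (aN chevF4 certF4 k 0).toNat *
    l.2 ^ (aN chevF4 certF4 k 1).toNat * σ (l.2 : K) ^ (aN chevF4 certF4 k 2).toNat *
    σ (l.1 : K) ^ (aN chevF4 certF4 k 3).toNat) (fun k hk t => ?_) _).trans ?_
  · obtain ⟨h1, h2⟩ := (by decide +kernel : ∀ k ∈ ordF, k < 48 ∧ ∀ i < 4,
      aN chevF4 certF4 k i = (aN chevF4 certF4 k i).toNat) k hk
    have := (acts_hF l).conj ⟨k, h1⟩ t
    rw [chr_cF', h2 0 (by omega), h2 1 (by omega), h2 2 (by omega), h2 3 (by omega)] at this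
    simp only [zpow_natCast, Units.val_mul, Units.val_pow_eq_pow_val, coe_σu, x_F4] at this
    exact this
  rw [List.map_id, eF_apply]
  congr 1
  have : ordF.map (fun k => ((aN chevF4 certF4 k 0).toNat, (aN chevF4 certF4 k 1).toNat, (aN chevF4 certF4 k 2).toNat,
      (aN chevF4 certF4 k 3).toNat)) = [(1, 0, 0, 0), (0, 0, 0, 1), (1, 1, 0, 0), (0, 0, 1, 1), (1, 1, 1, 1),
      (2, 2, 1, 1), (1, 2, 1, 1), (2, 2, 2, 1), (0, 1, 1, 1), (2, 2, 1, 0), (2, 3, 2, 1), (2, 4, 3, 2), (1, 2, 2, 1),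
      (2, 4, 2, 1), (1, 1, 1, 0), (0, 2, 1, 1), (1, 3, 2, 1), (2, 4, 3, 1), (1, 2, 1, 0), (0, 2, 2, 1), (0, 1, 0, 0),
      (0, 0, 1, 0), (0, 1, 1, 0), (0, 2, 1, 0)] := by decide +kernel
  have k := congrArg (fun L => List.zipWith (fun (p : ℕ × ℕ × ℕ × ℕ) (t : K) => (l.1 : K) ^ p.1 * l.2 ^ p.2.1 *
    σ (l.2 : K) ^ p.2.2.1 * σ (l.1 : K) ^ p.2.2.2 * t) L (wK v)) this
  simp only [List.zipWith_map_left] at k
  rw [k]
  simp only [wK, tor_apply, V.dg, List.zipWith_cons_cons, List.zipWith_nil_left, List.cons.injEq, and_true]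
  refine ⟨?_, ?_, ?_, ?_, ?_, ?_, ?_, ?_, ?_, ?_, ?_, ?_, ?_, ?_, ?_, ?_, ?_, ?_, ?_, ?_, ?_, ?_, ?_, ?_⟩ <;> pol

theorem eq_hF {g : chevF4.group K} (hg : g ∈ (CF4 K).H) {χ : Fin 48 → Kˣ} (h : (CF4 K).Acts g 1 χ) {l : Kˣ × Kˣ}
    (e : ∀ j, χ (RF4.simple j) = ![l.1, l.2, σu l.2, σu l.1] j) : g = hF l := by
  obtain ⟨c, rfl⟩ := exists_eq_tor adjoint_F4 hg
  rw [← mul_inv_eq_one, hF, MonoidHom.comp_apply, ← map_inv, ← map_mul]
  refine eq_one_of_chr adjoint_F4 (tor_mem adjoint_F4 _) (acts_tor adjoint_F4 _) fun j => ?_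
  rw [RootSys.chr_mul, RootSys.chr_inv, chr_cF, (faithful_F4 (K := K)).acts_unique (acts_tor adjoint_F4 c) h, e, mul_inv_cancel]

theorem nW_h (w : List (Fin 4)) (hw : ∀ r : Fin 48, wN w (wN w r) = r) {l l' : Kˣ × Kˣ} {o : Fin 4 → Fin 48}
    (ho : ∀ j, wN w (![33, 27, 25, 24] j) = o j)
    (e : ∀ j, RF4.chr (cF l) (o j) = ![l'.1, l'.2, σu l'.2, σu l'.1] j) :
    nW K w * hF l * (nW K w)⁻¹ = hF l' := by
  refine eq_hF ((CF4 K).conj_mem_H ((CF4 K).wp_mem_N w) (hF_mem l))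
    ((((acts_nW w).mul (acts_hF l)).mul (acts_nW w).inv).congr (by simp) fun _ => rfl) fun j => ?_
  have : (wp RF4.sref w)⁻¹ (RF4.simple j) = o j := by
    rw [Equiv.Perm.inv_eq_iff_eq, simple_F4]
    refine Fin.ext ?_
    rw [wN_eq, ← ho]
    fin_cases j
    exacts [(hw 33).symm, (hw 27).symm, (hw 25).symm, (hw 24).symm]
  simpa [this] using e j

theorem eF_inj : Function.Injective (eF : V K → _) := fun v w h => by
  have k : ∀ t : List K, EW ordF t = (List.zipWith (CF4 K).x [33, 24, 34, 26, 36, 42, 38, 43, 29, 41, 44, 47, 39, 45,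
      35, 31, 40, 46, 37, 32, 27, 25, 28, 30] t).prod := fun t => by
    rw [EW, show ordF = List.map Fin.val ([33, 24, 34, 26, 36, 42, 38, 43, 29, 41, 44, 47, 39, 45, 35, 31, 40, 46, 37,
      32, 27, 25, 28, 30] : List (Fin 48)) from rfl, List.zipWith_map_left]
    simp only [← x_F4]
  rw [eF_apply, eF_apply, k, k] at h
  have := word_inj (faithful_F4 (K := K)) (f := RootSys.htL _) (by decide)
    (fun r hr => RootSys.IsPos.ht_pos ((pos_F4 r).2 (by revert r; decide))) rfl rfl h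
  simp only [wK, List.cons.injEq, σ_inj] at this
  ext <;> tauto

theorem e_x1 (t : K) : eF (x1 t) = xN checkedF4 33 t * xN checkedF4 24 (σ t) := by
  simp [eF_apply, EW, ordF, wK, x1]

theorem s3F : nW K [0, 3] * eF (x1 1) * nW K [0, 3] = eF (x1 1) * nW K [0, 3] * eF (x1 1) := by
  have ss : nW K [0, 3] * nW K [0, 3] = 1 := (nW_append _ _).symm.trans (nW_eq (l' := []) (by decide +kernel))
  have a := nW_x (K := K) [0, 3] (k := 33) (by omega) 1
  have b := nW_x (K := K) [0, 3] (k := 24) (by omega) 1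
  have c := mul_inv_eq_iff_eq_mul.1 (nW_x (K := K) [0] (k := 24) (by omega) 1)
  have d := mul_inv_eq_iff_eq_mul.1 (nW_x (K := K) [3] (k := 33) (by omega) 1)
  have e : xN checkedF4 24 (1 : K) * xN checkedF4 33 1 = xN checkedF4 33 1 * xN checkedF4 24 1 := by
    simpa using xN_comm checkedF4 (r := 33) (s := 24) (L := []) (by decide +kernel) (1 : K) 1
  have f := (CF4 K).x_neg_eq (RF4.simple 0) 1
  have g := (CF4 K).x_neg_eq (RF4.simple 3) 1
  rw [neg_simple_F4, ← wp_singleton (fun i => (CF4 K).n (RF4.simple i) 1), simple_F4] at f g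
  simp only [x_F4, CharTwo.neg_eq, inv_one, Units.val_one] at f g
  change xN checkedF4 14 1 = xN checkedF4 33 1 * nW K [0] * xN checkedF4 33 1 at f
  change xN checkedF4 23 1 = xN checkedF4 24 1 * nW K [3] * xN checkedF4 24 1 at g
  rw [show wN [0, 3] 33 = 14 by decide +kernel] at a
  rw [show wN [0, 3] 24 = 23 by decide +kernel] at b
  rw [show wN [0] 24 = 24 by decide +kernel] at c
  rw [show wN [3] 33 = 33 by decide +kernel] at d
  rw [e_x1, map_one]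
  nth_rewrite 2 [← inv_eq_of_mul_eq_one_left ss]
  rw [← conj_mul, a, b, f, g, show nW K [0, 3] = nW K [0] * nW K [3] from nW_append [0] [3]]
  simp only [mul_assoc, Hex.sw e, Hex.sw d, ← Hex.sw c]

variable {m : ℕ} {S : Twist (CF4 K) symF4} {φ : K →+* K} (h : Twisted.IsF4 m S φ σ)
include h

theorem HFix : (CF4 K).H ⊓ S.Fix ≤ KF4 K (2 ^ m) := by
  refine (H_inf_Fix adjoint_F4 (n := 2) (m := 1) (by decide) (fun c => funext fun i => Units.ext ?_)
      fun c hc => (pow_one c).trans (Twisted.IsF4.tor_inj hc)).le.trans (h.H_inf.ge.trans inf_le_right)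
  have h2 : ∀ i, πF4 (πF4 i) = i := by decide
  rw [← h2 i]
  refine (S.coe_σT_apply _ _).trans ((congrArg _ (S.coe_σT_apply _ _)).trans ?_)
  rw [h.θ_eq]
  fin_cases i
  exacts [h.φψ _, h.φψ _, h.ψφ _, h.ψφ _]

theorem nW_mem {l : List (Fin 4)} (hl : ∀ r : Fin 48, wN (l.map πF4) r = wN l r) : nW K l ∈ KF4 K (2 ^ m) := by
  rw [h.isTw.eq_of_H_le (HFix h)]
  refine ⟨(CF4 K).N_le_grp ((CF4 K).wp_mem_N l), Eq.trans ?_ (nW_eq hl)⟩
  clear hl
  induction l with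
  | nil => exact map_one _
  | cons i l ih => exact (map_mul _ _ _).trans (congrArg₂ _ (S.σ_n_one i) ih)

theorem h_range : hF.range = (CF4 K).H ⊓ KF4 K (2 ^ m) := by
  rw [h.H_inf]
  refine le_antisymm ?_ ?_
  · rintro _ ⟨l, rfl⟩
    exact ⟨cF l, by simp [h.mem_TFix, cF, -map_mul, -map_pow, h.φψ], rfl⟩
  · rintro _ ⟨c, hc, rfl⟩
    refine ⟨(RF4.chr c (RF4.simple 0), RF4.chr c (RF4.simple 1)), (eq_hF (tor_mem adjoint_F4 _) (acts_tor adjoint_F4 _) fun j => ?_).symm⟩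
    obtain ⟨a, b, -⟩ := h.mem_TFix.1 hc
    have h1 := (c 0).ne_zero
    have h2 := (c 1).ne_zero
    have h3 := mt σ_eq_zero.1 h1
    have h4 := mt σ_eq_zero.1 h2
    fin_cases j <;> simp [chr_simple, RF4_A, Fin.prod_univ_four, Units.ext_iff, a, b] <;> field_simp

theorem e_mem (v : V K) : eF v ∈ KF4 K (2 ^ m) := by
  have r := nW_mem h (l := [1, 2, 1, 2]) (by decide +kernel)
  have s := nW_mem h (l := [0, 3]) (by decide +kernel)
  have cr : ∀ {v : V K}, v ∈ Q → eF v ∈ KF4 K (2 ^ m) → eF (ρr v) ∈ KF4 K (2 ^ m) := fun hv e => by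
    rw [← nW_r hv]
    exact mul_mem (mul_mem r e) (inv_mem r)
  have cs : ∀ {v : V K}, v ∈ R → eF v ∈ KF4 K (2 ^ m) → eF (ρs v) ∈ KF4 K (2 ^ m) := fun hv e => by
    rw [← nW_s hv]
    exact mul_mem (mul_mem s e) (inv_mem s)
  have k1 : ∀ t, eF (x1 t) ∈ KF4 K (2 ^ m) := fun t =>
    h.isTw.pos 0 (h.mem_X0.2 ⟨σ t, by rw [e_x1, h.φψ, x_F4, x_F4]; rfl⟩)
  have k8 : ∀ a b, eF (y8 a * x8 b) ∈ KF4 K (2 ^ m) := fun a b => h.isTw.pos 1 (h.mem_X1.2 ⟨σ a, b, by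
    simp [eF_apply, EW, ordF, wK, h.φψ, x_F4, mul_def, V.mul, y8, x8]⟩)
  have k7 := fun t => cr (by vs) (k1 t)
  have k3 := fun t => cs (by vs) (k7 t)
  have k5 := fun t => cr (by vs) (k3 t)
  have k2 := fun a b => cs (by vs) (k8 a b)
  have k6 := fun a b => cr (by vs) (k2 a b)
  have k4 := fun a b => cs (by vs) (k6 a b)
  have := mul_mem (mul_mem (mul_mem (mul_mem (mul_mem (mul_mem (mul_mem (k1 v.a1) (k2 v.b2 v.c2)) (k3 v.a3))
    (k4 v.b4 v.c4)) (k5 v.a5)) (k6 v.b6 v.c6)) (k7 v.a7)) (k8 v.b8 v.c8)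
  simp only [← map_mul] at this
  convert this using 2
  vs

theorem e_range : eF.range = (CF4 K).U ⊓ KF4 K (2 ^ m) := by
  have := h.finite
  refine eq_of_le_of_card_ge ?_ ?_
  · rintro _ ⟨v, rfl⟩
    refine ⟨list_prod_mem fun x hx => ?_, e_mem h v⟩
    obtain ⟨i, hi, rfl⟩ := List.mem_iff_getElem.1 hx
    rw [List.getElem_zipWith]
    obtain ⟨h1, h2⟩ := (by decide : ∀ k ∈ ordF, k < 48 ∧ 24 ≤ k) _ (List.getElem_mem (l := ordF) (n := i) (by
      rw [List.length_zipWith] at hi; omega))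
    exact x_F4 (K := K) ⟨_, h1⟩ _ ▸ (CF4 K).x_mem_U ((pos_F4 ⟨_, h1⟩).2 h2) _
  · rw [h.cardU, ← h.card, ← card_V]
    exact (Nat.card_congr (MonoidHom.ofInjective eF_inj).toEquiv).le

end Cfsg.Lib.RF4
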