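import Cfsg.Agent.Lib.RF4.Bit
import Cfsg.Agent.Lib.RF4.Par

/-!
The field with two elements: the set-up and changes of coordinates.
-/

set_option autoImplicit false
set_option synthInstance.maxSize 100000
set_option synthInstance.maxHeartbeats 400000

namespace Cfsg.Lib.RF4

open V Subgroup Cfsg.Lib.BG Cfsg.Lib.Transfer Cfsg.Lib.GW

variable {K : Type*} [Field K] [Q2 K]

theorem Q2.one {a : K} (h : a ≠ 0) : a = 1 := (Q2.h a).resolve_left h

instance finQ2 : Finite K := Finite.of_surjective (fun b : Bool => bif b then (1 : K) else 0) fun t => by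
  rcases Q2.h t with rfl | rfl
  exacts [⟨false, rfl⟩, ⟨true, rfl⟩]

theorem T_one (l : Kˣ × Kˣ) : l = 1 :=
  Prod.ext (Units.ext (Q2.one l.1.ne_zero)) (Units.ext (Q2.one l.2.ne_zero))

variable [Tw K]

theorem T4_one (l : T4 K) : l = 1 := Subtype.ext (T_one _)

theorem tor_one (l : Kˣ × Kˣ) (v : V K) : tor l v = v := by rw [T_one l, map_one, MulAut.one_apply]

theorem U8_cases : ∀ u : V K, u ∈ U8 → u = 1 ∨ u = y8 1 ∨ u = x8 1 ∨ u = y8 1 * x8 1 := chk1 (by decide +kernel)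

theorem Z_cases : ∀ u : V K, u ∈ Z → u = 1 ∨ u = x4 1 := chk1 (by decide +kernel)

theorem Z2_cases : ∀ u : V K, u ∈ Z2 → u ∉ Z → u = x6 1 ∨ u = x1 1 * x6 1 * (x1 1)⁻¹ := chk1 (by decide +kernel)

theorem aut_x4 (α : MulAut (V K)) : α (x4 1) = x4 1 :=
  (Z_cases _ (aut_Z α (x4_mem 1))).resolve_left (by rw [MulEquiv.map_eq_one_iff]; exact chk0 (by decide +kernel))

open Classical in
/-- The rank one relations. -/
noncomputable def f0 (x : V K) : V K × T4 K × V K :=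
  if x = y8 1 then (y8 1, 1, x8 1) else if x = x8 1 then (y8 1 * x8 1, 1, y8 1) else (x8 1, 1, y8 1 * x8 1)

section
variable {G : Type*} [Group G] {e : V K →* G} {r : G} (rr : r * r = 1) (ry : r * e (y8 1) * r = e (y8 1) * r * e (x8 1))
include rr ry

omit [Q2 K] in
theorem ry3 : r * e (y8 1 * x8 1) * r = e (x8 1) * r * e (y8 1 * x8 1) := by
  have h1 : (y8 1 * x8 1 : V K) = (y8 1)⁻¹ := chk0 (by decide +kernel)
  have h2 : (x8 1 : V K) = (x8 1)⁻¹ := chk0 (by decide +kernel)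
  have h3 := inv_eq_of_mul_eq_one_left rr
  have := congrArg (·⁻¹) ry
  simp only [mul_inv_rev, h3, ← mul_assoc, ← map_inv, ← h1, ← h2] at this
  exact this

omit [Q2 K] in
theorem ry2 : r * e (x8 1) * r = e (y8 1 * x8 1) * r * e (y8 1) := by
  have h1 : (x8 1 : V K) = y8 1 * y8 1 := chk0 (by decide +kernel)
  have h2 : (x8 1 * y8 1 : V K) = y8 1 * x8 1 := chk0 (by decide +kernel)
  have h3 : (y8 1 * x8 1 * x8 1 : V K) = y8 1 := chk0 (by decide +kernel)
  calc _ = r * e (y8 1) * (r * r) * e (y8 1) * r := by rw [rr, h1, map_mul]; group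
    _ = e (y8 1) * (r * e (x8 1 * y8 1) * r) * e (x8 1) := by
      rw [← mul_assoc, ry, mul_assoc, mul_assoc, ← mul_assoc r, ry, map_mul]; group
    _ = _ := by rw [h2, ry3 rr ry, ← mul_assoc, ← mul_assoc, ← map_mul, mul_assoc, mul_assoc, ← map_mul, h3, mul_assoc]

theorem sz_f0 {h : T4 K → G} (h1 : h 1 = 1) (x : V K) (hx : x ∈ U8) (x1 : x ≠ 1) :
    (f0 x).2.2 ∈ U8 ∧ r * e x * r = e (f0 x).1 * h (f0 x).2.1 * r * e (f0 x).2.2 := by
  have a : (x8 1 : V K) ≠ y8 1 := chk0 (by decide +kernel)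
  have b : (y8 1 * x8 1 : V K) ≠ y8 1 := chk0 (by decide +kernel)
  have c : (y8 1 * x8 1 : V K) ≠ x8 1 := chk0 (by decide +kernel)
  obtain rfl | rfl | rfl := (U8_cases x hx).resolve_left x1 <;>
    simp only [f0, a, b, c, if_true, if_false, h1, mul_one]
  exacts [⟨by vs, ry⟩, ⟨by vs, ry2 rr ry⟩, ⟨mem_U8' _ _, ry3 rr ry⟩]

end

theorem f_mod : ∀ (v : V K) (a b _c : K), ρr (y8 1 * ρr (x1 1) * (y8 1)⁻¹) = v * ρr (y8 a * x8 b * x1 1 * (y8 a * x8 b)⁻¹) * v⁻¹ →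
    ρr (y8 1 * ρr (y2 1) * (y8 1)⁻¹) = v * ρr (y8 a * x8 b * y2 1 * (y8 a * x8 b)⁻¹) * v⁻¹ →
    ρr (y8 1 * ρr (y4 1) * (y8 1)⁻¹) = v * ρr (y8 a * x8 b * y4 1 * (y8 a * x8 b)⁻¹) * v⁻¹ →
    ρr (y8 1 * ρr (y6 1) * (y8 1)⁻¹) = v * ρr (y8 a * x8 b * y6 1 * (y8 a * x8 b)⁻¹) * v⁻¹ →
    ρr (y8 1 * ρr (x7 1) * (y8 1)⁻¹) = v * ρr (y8 a * x8 b * x7 1 * (y8 a * x8 b)⁻¹) * v⁻¹ →
    y8 a * x8 b = x8 1 ∧ (v = y8 1 ∨ v = y8 1 * x4 1) := chk3 (by decide +kernel)

namespace Full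

variable {G : Type*} [Group G] (F : Full K G)

theorem ry : F.r * F.e (y8 1) * F.r = F.e (y8 1) * F.r * F.e (x8 1) := by
  obtain ⟨hu, h⟩ := F.sz (y8 1) (by vs) (chk0 (by decide +kernel))
  generalize F.f (y8 1) = p at *
  obtain ⟨v, l, u⟩ := p
  obtain ⟨a, b, rfl⟩ : ∃ a b, u = y8 a * x8 b := ⟨u.b8, u.c8, by revert hu; vs; tauto⟩
  simp only [T_one l.1, map_one, mul_one] at h
  have k : ∀ w ∈ Q, ρr (y8 1 * ρr w * (y8 1)⁻¹) = v * ρr (y8 a * x8 b * w * (y8 a * x8 b)⁻¹) * v⁻¹ := fun w hw =>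
    F.inj (by
      rw [← F.re _ (Q_norm _ (ρr_Q _)), map_mul F.e (v * _), map_mul F.e v, ← F.re _ (Q_norm _ hw), map_mul F.e (_ * ρr w),
        map_mul F.e _ (ρr w), ← F.re _ hw, map_mul F.e (_ * w), map_mul F.e _ w, map_inv, map_inv, map_inv]
      calc _ = F.r * F.e (y8 1) * F.r * F.e w * (F.r * F.e (y8 1) * F.r)⁻¹ := by group
        _ = _ := by rw [h]; group)
  obtain ⟨e, rfl | rfl⟩ := f_mod v a b 0 (k _ (by vs)) (k _ (by vs)) (k _ (by vs)) (k _ (by vs)) (k _ (by vs))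
  · rwa [e] at h
  exfalso
  set w := F.s * F.r * F.s
  have wi : w⁻¹ = w := by rw [mul_inv_rev, mul_inv_rev, F.s_inv, F.r_inv, ← mul_assoc]
  have cw : ∀ {x y z t : V K}, x ∈ R → ρs x = y → y ∈ Q → ρr y = z → z ∈ R → ρs z = t → w * F.e x * w⁻¹ = F.e t := by
    rintro x _ _ _ h1 rfl h2 rfl h3 rfl
    rw [← F.se _ h3, ← F.re _ h2, ← F.se _ h1]; simp only [w]; group
  have c4 := cw (x := y4 1) (y := y6 1) (z := y2 1) (t := y8 1) (by vs) (by vs) (by vs) (by vs) (by vs) (by vs)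
  have c8 := cw (x := x8 1) (y := x2 1) (z := x6 1) (t := x4 1) (by vs) (by vs) (by vs) (by vs) (by vs) (by vs)
  have h1 : Commute (w * F.r * w⁻¹) F.r := by
    rw [wi]; simpa [Commute, SemiconjBy, w, pow_succ, mul_assoc] using F.braid
  have h2 : Commute (w * F.r * w⁻¹) (F.e (y8 1)) := by
    rw [← c4]
    exact (show Commute F.r _ from mul_inv_eq_iff_eq_mul.1 ((F.re _ (by vs)).trans (by congr 1; vs))).conj w
  have h3 : Commute (w * F.r * w⁻¹) (F.e (x8 1)) := by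
    rw [show x8 (1 : K) = y8 1 * y8 1 from chk0 (by decide +kernel), map_mul]; exact h2.mul_right h2
  have h4 : Commute (w * F.r * w⁻¹) (F.e (x4 1)) := by
    rw [e, map_mul] at h
    rw [show F.e (x4 1) = (F.e (y8 1))⁻¹ * (F.r * F.e (y8 1) * F.r) * (F.e (x8 1))⁻¹ * F.r⁻¹ by rw [h]; group]
    exact ((h2.inv_right.mul_right ((h1.mul_right h2).mul_right h1)).mul_right h3.inv_right).mul_right h1.inv_right
  rw [← c8] at h4
  exact absurd (not_rB F.inj F.re (x := x8 1) (v := x8 1) (l := 1) (b := 1) (by vs) (by simp) (by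
    rw [mul_one, mul_inv_eq_iff_eq_mul]; exact (Commute.conj_iff w).1 h4)) (chk0 (by decide +kernel))

/-- The datum with the rank one relations in standard form. -/
noncomputable def to0 : Full K G := { F with f := f0, sz := sz_f0 F.rr F.ry (h := fun l => F.h l) (map_one _) }

end Full

variable (K) in
/-- The hypothesis over the field with two elements. -/
structure G2 (G : Type*) [Group G] extends G0 K G where
  NS : 𝐍(e.range) ≤ e.range
  ry : r * e (y8 1) * r = e (y8 1) * r * e (x8 1)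

variable {G : Type*} [Group G]

theorem B0.h1 (c : B0 K G) (l : T4 K) : c.h l = 1 := by rw [T4_one l, map_one]

theorem B0.mem' (c : B0 K G) {g : G} (h : g ∈ c.C) : ∃ v, g = c.e v ∨ ∃ u ∈ U8, g = c.e v * c.r * c.e u := by
  simpa [c.h1] using (c.mem g).1 h

theorem G0.a1 (c : G0 K G) : c.a = 1 := Q2.one c.a0

theorem G0.τ1 (c : G0 K G) : c.τ = c.e (x4 1) := by rw [G0.τ, c.a1]

variable [Finite G]

/-- The complement is trivial. -/
def GD.toG2 (c : GD K G) (hf : c.f = f0) : G2 K G where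
  toG0 := c.toG0
  NS g hg := by
    obtain ⟨v, d, hd, rfl⟩ := c.memB hg
    obtain ⟨l, h, -⟩ := c.lin d hd fun l => by simp [c.h1]
    exact ⟨v, by rw [c.D_one hd fun v => by rw [h, tor_one], mul_one]⟩
  ry := by simpa [hf, f0] using (c.sz (y8 1) (by vs) (chk0 (by decide +kernel))).2

namespace G2

variable (c : G2 K G)

theorem NC : 𝐍(c.C) ≤ c.C := fun g hg => by
  obtain ⟨k, hk, b, hb, rfl⟩ := c.NC_dec hg
  exact mul_mem hk (c.S_le (c.NS hb))

theorem cτ : 𝐂[c.e (x4 1)] = c.C := le_antisymm (c.τ1 ▸ c.nC.trans c.NC) (c.C_cent (x4_mem _))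

theorem P_R : c.P ≤ 𝐍(R.map c.e) := by
  have : 𝐂(Z2.map c.e) = R.map c.e := le_antisymm (fun g hg => by
      have k := fun v (h : v ∈ Z2) => (mem_cent.1 hg _ (mem_map_of_mem _ h)).symm
      obtain ⟨v, l, rfl⟩ := c.bru6 (y := x6 1) (by vs) (by vs; simp) (by vs)
        (c.cτ.le (mem_cent1.2 (k _ (by vs)))) (mul_inv_eq_iff_eq_mul.2 (k _ (by vs)))
      rw [c.h1, mul_one] at k ⊢
      exact ⟨v, R_of (c.inj (by simpa using k (x6 1) (by vs))), rfl⟩) (by
      rintro _ ⟨t, ht, rfl⟩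
      refine mem_cent.2 ?_
      rintro _ ⟨w, hw, rfl⟩
      rw [← map_mul, ← R_comm ht hw, map_mul])
  exact this ▸ norm_cent le_rfl

omit [Finite G] in
theorem range_comp (α : MulAut (V K)) : (c.e.comp α.toMonoidHom).range = c.e.range := by
  rw [MonoidHom.range_comp, MonoidHom.range_eq_top.2 α.surjective, ← MonoidHom.range_eq_map]

/-- A change of coordinates. -/
noncomputable def chg (α : MulAut (V K)) (z : V K) (hz : z ∈ Z) (hm : ∀ v, α v * v⁻¹ ∈ Q)
    (hr : ∀ v ∈ Q, α (ρr v) = ρr (α v))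
    (hy : ρr (α (y8 1) * (y8 1)⁻¹) * y8 1 = α (y8 1) * z * ρr (α (x8 1) * (x8 1)⁻¹)) : G2 K G :=
  have zr : c.r * c.e z = c.e z * c.r := mem_cent1.1 (c.C_cent hz c.r_mem)
  have zz : c.e z * c.e z = 1 := by rw [← map_mul, eq_x4 hz, ← map_one c.e]; congr 1; vp
  have rr : c.e z * c.r * (c.e z * c.r) = 1 := by
    rw [mul_assoc, ← mul_assoc c.r, zr, mul_assoc, c.rr, mul_one, zz]
  have ry : c.e z * c.r * c.e (α (y8 1)) * (c.e z * c.r) = c.e (α (y8 1)) * (c.e z * c.r) * c.e (α (x8 1)) := by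
    calc _ = c.e z * (c.r * c.e (α (y8 1) * z) * c.r) := by rw [map_mul]; group
      _ = c.r * c.e (α (y8 1) * (y8 1)⁻¹) * c.r⁻¹ * (c.r * c.e (y8 1) * c.r) := by
        rw [Z_comm hz, map_mul, ← mul_assoc c.r, zr, map_mul, map_inv]; simp only [← mul_assoc, zz]; group
      _ = c.e (α (y8 1) * z) * (c.r * c.e (α (x8 1) * (x8 1)⁻¹) * c.r⁻¹) * c.r * c.e (x8 1) := by
        rw [c.re _ (hm _), c.re _ (hm _), c.ry, ← map_mul, ← hy, map_mul]; group
      _ = _ := by rw [map_mul, map_mul, map_inv]; group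
  { e := c.e.comp α.toMonoidHom
    h := c.h
    r := c.e z * c.r
    f := f0
    C := c.C
    inj := c.inj.comp α.injective
    he l v := by simp [c.h1, tor_one]
    rr := rr
    re v hv := by
      change _ * c.e (α v) * _ = c.e (α _)
      rw [hr v hv, mul_inv_rev, mul_assoc (c.e z), mul_assoc (c.e z), ← mul_assoc (_ * _),
        c.re _ ((mul_mem_cancel_right (inv_mem hv)).1 (hm v)), ← map_inv, ← map_mul, ← map_mul, ← mul_assoc,
        ← Z_comm hz, mul_inv_cancel_right]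
    rh l := by simp [c.h1]
    sz := sz_f0 rr ry (map_one _)
    mem g := by
      refine ⟨fun h => ?_, ?_⟩
      · obtain ⟨v, rfl | ⟨u, hu, rfl⟩⟩ := c.mem' h
        · exact ⟨α.symm v, 1, .inl (by simp)⟩
        · refine ⟨α.symm (v * ρr (α u * u⁻¹)⁻¹ * z⁻¹), 1, .inr ⟨u, hu, ?_⟩⟩
          simp only [MonoidHom.comp_apply, MulEquiv.coe_toMonoidHom, MulEquiv.apply_symm_apply, map_one]
          rw [map_mul, map_mul, ← c.re _ (inv_mem (hm u)), map_inv, map_inv, map_mul, map_inv]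
          group
      · rintro ⟨v, l, rfl | ⟨u, -, rfl⟩⟩
        exacts [mul_mem (c.e_mem _) (c.h_mem _),
          mul_mem (mul_mem (mul_mem (c.e_mem _) (c.h_mem _)) (mul_mem (c.e_mem _) c.r_mem)) (c.e_mem _)]
    a := 1
    a0 := one_ne_zero
    syl := (c.range_comp α).symm ▸ c.syl
    nC := by simpa [aut_x4, c.cτ] using le_norm _
    oH := by simpa [aut_x4, ← c.τ1] using c.oH
    NS := (c.range_comp α).symm ▸ c.NS
    ry := ry }

end G2

end Cfsg.Lib.RF4
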