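import Mathlib.Algebra.CharP.Two
import Mathlib.Algebra.CharP.Lemmas
import Mathlib.Algebra.Field.Basic
import Mathlib.Tactic.Ring
import Mathlib.Tactic.ReduceModChar
import Mathlib.Algebra.CharP.Basic
import Mathlib.Algebra.Ring.GrindInstances
import Mathlib.Tactic.LinearCombination

/-!
Coordinates on the Sylow `2`-subgroup of the large Ree groups.
-/

set_option autoImplicit false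

namespace Cfsg.Lib.RF4

/-- A field of characteristic two with a square root of the Frobenius map. -/
class Tw (K : Type*) [Field K] where
  sg : K →+* K
  two : (2 : K) = 0
  sgsg : ∀ t, sg (sg t) = t ^ 2

/-- The square root of the Frobenius map. -/
scoped notation "σ" => Tw.sg

variable {K : Type*} [Field K] [Tw K]

instance charTwo : CharP K 2 := CharTwo.of_one_ne_zero_of_two_eq_zero one_ne_zero Tw.two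

@[simp] theorem σσ (t : K) : σ (σ t) = t ^ 2 := Tw.sgsg t

/-- Coordinates `x₁(a1) y₂(b2) x₂(c2) x₃(a3) y₄(b4) x₄(c4) x₅(a5) y₆(b6) x₆(c6) x₇(a7) y₈(b8) x₈(c8)`. -/
@[ext] structure V (K : Type*) where
  (a1 b2 c2 a3 b4 c4 a5 b6 c6 a7 b8 c8 : K)

namespace V

/-- The product. -/
def mul (v w : V K) : V K where
  a1 := v.a1 + w.a1
  b2 := v.b2 + w.b2 + v.b8 * w.a1
  c2 := v.c2 + w.c2 + v.b2 * σ w.b2 + v.b4 * w.a1 + v.b6 * σ w.a1 + v.b2 * σ v.b8 * σ w.a1 + v.b8 * w.a1 * σ w.b2 +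
    v.c8 * w.a1 * σ w.a1
  a3 := v.a3 + w.a3 + v.b4 * w.b2 + σ v.b6 * w.a1 + v.a7 * σ w.a1 + v.b8 * w.c2 + v.b4 * v.b8 * w.a1 +
    v.b8 * w.b2 * σ w.b2 + v.c8 * σ w.a1 * w.b2 + σ v.c8 * w.a1 * σ w.a1 + v.b8 * v.c8 * w.a1 * σ w.a1 +
    v.b8 ^ 2 * σ v.b8 * w.a1 * σ w.a1
  b4 := v.b4 + w.b4 + v.b8 * σ w.b2 + v.c8 * σ w.a1
  c4 := v.c4 + w.c4 + v.b4 * σ w.b4 + v.a5 * w.b2 + v.b6 * w.a3 + v.c6 * w.a1 + v.a7 * w.c2 + v.b8 * σ w.a3 +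
    v.c8 * σ w.c2 + v.a5 * v.b8 * w.a1 + v.b6 * v.a7 * σ w.a1 + v.b6 * v.b8 * w.c2 + v.a7 * w.b2 * σ w.b2 +
    σ v.a7 * w.a1 * w.b2 + v.b8 * σ w.b2 * σ w.b4 + σ v.b8 * w.b2 * w.a3 + v.c8 * w.a1 * w.a3 +
    v.c8 * σ w.a1 * σ w.b4 + v.c8 * w.b2 * w.c2 + σ v.c8 * w.a1 * w.c2 + v.b4 * σ v.b8 * w.b2 ^ 2 +
    v.b4 * σ v.c8 * w.a1 ^ 2 + v.b6 * v.b8 * w.b2 * σ w.b2 + v.b6 * v.c8 * σ w.a1 * w.b2 +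
    v.b6 * σ v.c8 * w.a1 * σ w.a1 + v.a7 * σ v.b8 * σ w.a1 * w.b2 + v.a7 * v.c8 * w.a1 * σ w.a1 +
    σ v.a7 * v.b8 * w.a1 ^ 2 + v.b8 * σ v.b8 * w.a1 * w.a3 + v.b8 * σ v.b8 * w.b2 * w.c2 +
    v.c8 * w.b2 ^ 2 * σ w.b2 + σ v.c8 * w.a1 * w.b2 * σ w.b2 + v.b6 * v.b8 * v.c8 * w.a1 * σ w.a1 +
    v.a7 * v.b8 * σ v.b8 * w.a1 * σ w.a1 + v.b8 * σ v.b8 * w.b2 ^ 2 * σ w.b2 + σ v.b8 * v.c8 * σ w.a1 * w.b2 ^ 2 +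
    σ v.b8 * σ v.c8 * w.a1 * σ w.a1 * w.b2 + v.c8 ^ 2 * w.a1 * σ w.a1 * w.b2 + v.c8 * σ v.c8 * w.a1 ^ 2 * σ w.a1 +
    v.b6 * v.b8 ^ 2 * σ v.b8 * w.a1 * σ w.a1 + v.b8 * σ v.b8 * σ v.c8 * w.a1 ^ 2 * σ w.a1 +
    v.b8 * v.c8 ^ 2 * w.a1 ^ 2 * σ w.a1 + v.b8 ^ 2 * σ v.b8 ^ 2 * w.a1 * σ w.a1 * w.b2 +
    v.b8 ^ 3 * σ v.b8 ^ 2 * w.a1 ^ 2 * σ w.a1
  a5 := v.a5 + w.a5 + v.b6 * w.b4 + v.a7 * σ w.b2 + σ v.a7 * w.a1 + σ v.b8 * w.a3 + v.c8 * w.c2 + v.b6 * v.b8 * σ w.b2 +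
    v.b6 * v.c8 * σ w.a1 + v.a7 * σ v.b8 * σ w.a1 + v.b8 * σ v.b8 * w.c2 + σ v.b8 * w.b2 * w.b4 +
    v.c8 * w.a1 * w.b4 + σ v.c8 * w.a1 * σ w.b2 + v.b8 * σ v.b8 * w.a1 * w.b4 + σ v.b8 * σ v.c8 * w.a1 * σ w.a1 +
    v.c8 ^ 2 * w.a1 * σ w.a1 + v.b8 ^ 2 * σ v.b8 ^ 2 * w.a1 * σ w.a1
  b6 := v.b6 + w.b6 + σ v.b8 * w.b2 + v.c8 * w.a1 + v.b8 * σ v.b8 * w.a1
  c6 := v.c6 + w.c6 + v.b6 * σ w.b6 + v.a7 * w.b4 + σ v.a7 * w.b2 + v.b8 * w.a5 + v.c8 * w.a3 + σ v.c8 * w.c2 +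
    v.b6 * σ v.c8 * σ w.a1 + v.a7 * v.b8 * σ w.b2 + v.a7 * v.c8 * σ w.a1 + σ v.a7 * v.b8 * w.a1 +
    v.b8 * v.c8 * w.c2 + σ v.b8 * w.b2 * σ w.b6 + v.c8 * w.a1 * σ w.b6 + v.c8 * w.b2 * w.b4 + σ v.c8 * w.a1 * w.b4 +
    σ v.c8 * w.b2 * σ w.b2 + v.b6 * v.b8 ^ 2 * σ w.b2 + v.b8 ^ 2 * σ v.b8 * w.c2 + v.b8 * σ v.b8 * w.a1 * σ w.b6 +
    v.b8 * v.c8 * w.a1 * w.b4 + v.b8 * σ v.c8 * w.a1 * σ w.b2 + σ v.b8 * σ v.c8 * σ w.a1 * w.b2 +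
    v.c8 ^ 2 * σ w.a1 * w.b2 + v.b6 * v.b8 ^ 2 * σ v.b8 * σ w.a1 + v.b8 ^ 2 * σ v.b8 * w.a1 * w.b4 +
    v.b8 * σ v.b8 * σ v.c8 * w.a1 * σ w.a1 + v.b8 * v.c8 ^ 2 * w.a1 * σ w.a1 +
    v.b8 ^ 2 * σ v.b8 ^ 2 * σ w.a1 * w.b2 + v.b8 ^ 3 * σ v.b8 ^ 2 * w.a1 * σ w.a1
  a7 := v.a7 + w.a7 + v.b8 * w.b6 + v.c8 * w.b2 + σ v.c8 * w.a1 + v.b8 * v.c8 * w.a1 + v.b8 ^ 2 * σ v.b8 * w.a1
  b8 := v.b8 + w.b8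
  c8 := v.c8 + w.c8 + v.b8 * σ w.b8

/-- The inverse. -/
def inv (v : V K) : V K where
  a1 := v.a1
  b2 := v.b2 + v.a1 * v.b8
  c2 := v.c2 + v.a1 * v.b4 + σ v.a1 * v.b6 + v.b2 * σ v.b2 + v.a1 * σ v.a1 * v.c8 + v.a1 * σ v.b2 * v.b8 +
    v.a1 * σ v.a1 * v.b8 * σ v.b8
  a3 := v.a3 + v.a1 * σ v.b6 + σ v.a1 * v.a7 + v.b2 * v.b4 + v.c2 * v.b8 + v.a1 * σ v.a1 * σ v.c8 + v.a1 * v.b4 * v.b8 +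
    σ v.a1 * v.b2 * v.c8 + σ v.a1 * v.b6 * v.b8 + v.a1 * σ v.a1 * v.b8 * v.c8 + σ v.a1 * v.b2 * v.b8 * σ v.b8 +
    v.a1 * σ v.a1 * v.b8 ^ 2 * σ v.b8
  b4 := v.b4 + σ v.a1 * v.c8 + σ v.b2 * v.b8 + σ v.a1 * v.b8 * σ v.b8
  c4 := v.c4 + v.a1 * v.c6 + v.b2 * v.a5 + v.c2 * v.a7 + σ v.c2 * v.c8 + v.a3 * v.b6 + σ v.a3 * v.b8 + v.b4 * σ v.b4 +
    v.a1 * v.b2 * σ v.a7 + v.a1 * v.c2 * σ v.c8 + v.a1 * v.a3 * v.c8 + v.a1 * v.b4 * v.a7 + v.a1 * v.b6 * σ v.b6 +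
    σ v.a1 * v.b6 * v.a7 + v.b2 * v.c2 * v.c8 + v.b2 * v.a3 * σ v.b8 + v.b2 * v.b4 * v.b6 + σ v.c2 * v.b8 * σ v.b8 +
    v.a1 ^ 2 * v.b4 * σ v.c8 + v.a1 ^ 2 * σ v.a7 * v.b8 + v.a1 * σ v.a1 * v.b6 * σ v.c8 +
    v.a1 * σ v.a1 * v.a7 * v.c8 + v.a1 * v.b2 * σ v.b6 * σ v.b8 + σ v.a1 * v.b2 * v.b6 * v.c8 +
    σ v.a1 * v.b2 * v.a7 * σ v.b8 + σ v.a1 * v.b6 ^ 2 * v.b8 + v.b2 ^ 2 * σ v.b2 * v.c8 + v.b2 ^ 2 * v.b4 * σ v.b8 +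
    v.a1 ^ 2 * σ v.a1 * v.c8 * σ v.c8 + v.a1 ^ 2 * σ v.b6 * v.b8 * σ v.b8 + v.a1 * σ v.a1 * v.b2 * σ v.b8 * σ v.c8 +
    v.a1 * σ v.a1 * v.b2 * v.c8 ^ 2 + v.a1 * v.c2 * v.b8 ^ 2 * σ v.b8 + σ v.a1 * v.b2 ^ 2 * σ v.b8 * v.c8 +
    v.b2 ^ 2 * σ v.b2 * v.b8 * σ v.b8 + v.a1 ^ 2 * σ v.a1 * v.b8 * v.c8 ^ 2 + v.a1 ^ 2 * v.b4 * v.b8 ^ 2 * σ v.b8 +
    v.a1 * σ v.a1 * v.b6 * v.b8 ^ 2 * σ v.b8 + σ v.a1 * v.b2 ^ 2 * v.b8 * σ v.b8 ^ 2 +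
    v.a1 ^ 2 * σ v.a1 * v.b8 ^ 2 * σ v.b8 * v.c8 + v.a1 * σ v.a1 * v.b2 * v.b8 ^ 2 * σ v.b8 ^ 2
  a5 := v.a5 + v.a1 * σ v.a7 + σ v.b2 * v.a7 + v.c2 * v.c8 + v.a3 * σ v.b8 + v.b4 * v.b6 + v.a1 * σ v.b2 * σ v.c8 +
    v.a1 * σ v.b6 * σ v.b8 + σ v.a1 * v.b6 * v.c8 + σ v.a1 * v.a7 * σ v.b8 + v.b2 * σ v.b2 * v.c8 +
    v.a1 * σ v.a1 * σ v.b8 * σ v.c8 + v.a1 * σ v.a1 * v.c8 ^ 2 + v.a1 * σ v.b2 * v.b8 ^ 2 * σ v.b8 +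
    v.a1 * σ v.a1 * v.b8 ^ 2 * σ v.b8 ^ 2
  b6 := v.b6 + v.a1 * v.c8 + v.b2 * σ v.b8
  c6 := v.c6 + v.b2 * σ v.a7 + v.c2 * σ v.c8 + v.a3 * v.c8 + v.b4 * v.a7 + v.a5 * v.b8 + v.b6 * σ v.b6 +
    v.a1 * σ v.a7 * v.b8 + σ v.a1 * v.b6 * σ v.c8 + σ v.a1 * v.a7 * v.c8 + v.b2 * σ v.b6 * σ v.b8 +
    σ v.b2 * v.a7 * v.b8 + v.c2 * v.b8 * v.c8 + v.a3 * v.b8 * σ v.b8 + v.b4 * v.b6 * v.b8 +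
    v.a1 * σ v.b2 * v.b8 * σ v.c8 + v.a1 * σ v.b6 * v.b8 * σ v.b8 + σ v.a1 * v.b2 * σ v.b8 * σ v.c8 +
    σ v.a1 * v.b2 * v.c8 ^ 2 + σ v.a1 * v.b6 * v.b8 * v.c8 + σ v.a1 * v.a7 * v.b8 * σ v.b8 +
    v.b2 * σ v.b2 * v.b8 * v.c8 + v.c2 * v.b8 ^ 2 * σ v.b8 + v.a1 * σ v.a1 * v.b8 * σ v.b8 * σ v.c8 +
    v.a1 * σ v.a1 * v.b8 * v.c8 ^ 2 + σ v.a1 * v.b6 * v.b8 ^ 2 * σ v.b8 + v.a1 * σ v.b2 * v.b8 ^ 3 * σ v.b8 +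
    σ v.a1 * v.b2 * v.b8 ^ 2 * σ v.b8 ^ 2 + v.a1 * σ v.a1 * v.b8 ^ 3 * σ v.b8 ^ 2
  a7 := v.a7 + v.a1 * σ v.c8 + v.b2 * v.c8 + v.b6 * v.b8 + v.a1 * v.b8 * v.c8 + v.b2 * v.b8 * σ v.b8 +
    v.a1 * v.b8 ^ 2 * σ v.b8
  b8 := v.b8
  c8 := v.c8 + v.b8 * σ v.b8


/-- Polynomial identities in the coordinates. -/
scoped macro "pol" : tactic =>
  `(tactic| ((try simp only [map_add, map_mul, map_pow, map_zero, map_one, σσ]); grind))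

instance group : Group (V K) where
  mul := mul
  one := ⟨0, 0, 0, 0, 0, 0, 0, 0, 0, 0, 0, 0⟩
  inv := inv
  mul_assoc u v w := by
    change mul (mul u v) w = mul u (mul v w)
    ext <;> simp only [mul] <;> pol
  one_mul v := by
    change mul ⟨0, 0, 0, 0, 0, 0, 0, 0, 0, 0, 0, 0⟩ v = v
    ext <;> simp [mul]
  mul_one v := by
    change mul v ⟨0, 0, 0, 0, 0, 0, 0, 0, 0, 0, 0, 0⟩ = v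
    ext <;> simp [mul]
  inv_mul_cancel v := by
    change mul (inv v) v = ⟨0, 0, 0, 0, 0, 0, 0, 0, 0, 0, 0, 0⟩
    ext <;> simp only [mul, inv] <;> pol

theorem mul_def (v w : V K) : v * w = mul v w := rfl

theorem inv_def (v : V K) : v⁻¹ = inv v := rfl

theorem one_def : (1 : V K) = ⟨0, 0, 0, 0, 0, 0, 0, 0, 0, 0, 0, 0⟩ := rfl

/-- A root element. -/
def x1 (t : K) : V K := ⟨t, 0, 0, 0, 0, 0, 0, 0, 0, 0, 0, 0⟩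

/-- A root element. -/
def y2 (t : K) : V K := ⟨0, t, 0, 0, 0, 0, 0, 0, 0, 0, 0, 0⟩

/-- A root element. -/
def x2 (t : K) : V K := ⟨0, 0, t, 0, 0, 0, 0, 0, 0, 0, 0, 0⟩

/-- A root element. -/
def x3 (t : K) : V K := ⟨0, 0, 0, t, 0, 0, 0, 0, 0, 0, 0, 0⟩

/-- A root element. -/
def y4 (t : K) : V K := ⟨0, 0, 0, 0, t, 0, 0, 0, 0, 0, 0, 0⟩

/-- A root element. -/
def x4 (t : K) : V K := ⟨0, 0, 0, 0, 0, t, 0, 0, 0, 0, 0, 0⟩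

/-- A root element. -/
def x5 (t : K) : V K := ⟨0, 0, 0, 0, 0, 0, t, 0, 0, 0, 0, 0⟩

/-- A root element. -/
def y6 (t : K) : V K := ⟨0, 0, 0, 0, 0, 0, 0, t, 0, 0, 0, 0⟩

/-- A root element. -/
def x6 (t : K) : V K := ⟨0, 0, 0, 0, 0, 0, 0, 0, t, 0, 0, 0⟩

/-- A root element. -/
def x7 (t : K) : V K := ⟨0, 0, 0, 0, 0, 0, 0, 0, 0, t, 0, 0⟩

/-- A root element. -/
def y8 (t : K) : V K := ⟨0, 0, 0, 0, 0, 0, 0, 0, 0, 0, t, 0⟩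

/-- A root element. -/
def x8 (t : K) : V K := ⟨0, 0, 0, 0, 0, 0, 0, 0, 0, 0, 0, t⟩

/-- The action of the reflection `i ↦ 8 - i`. -/
def ρr (v : V K) : V K where
  a1 := v.a7
  b2 := v.b6
  c2 := v.c6 + v.b2 * σ v.a7 + v.b4 * v.a7
  a3 := v.a5 + v.a1 * σ v.a7 + σ v.b2 * v.a7 + v.b4 * v.b6
  b4 := v.b4
  c4 := v.c4 + v.a1 * v.c6 + v.b2 * v.a5 + v.c2 * v.a7 + v.a3 * v.b6 + v.a1 * v.b2 * σ v.a7 + v.a1 * v.b4 * v.a7 +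
    v.a1 * v.b6 * σ v.b6 + σ v.a1 * v.b6 * v.a7 + v.b2 * v.b4 * v.b6
  a5 := v.a3 + v.a1 * σ v.b6 + σ v.a1 * v.a7 + v.b2 * v.b4
  b6 := v.b2
  c6 := v.c2 + v.a1 * v.b4 + σ v.a1 * v.b6
  a7 := v.a1
  b8 := 0
  c8 := 0

/-- The action of the reflection `i ↦ 10 - i`. -/
def ρs (v : V K) : V K where
  a1 := 0
  b2 := v.b8
  c2 := v.c8
  a3 := v.a7 + v.b2 * v.c8 + v.b6 * v.b8 + v.b2 * v.b8 * σ v.b8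
  b4 := v.b6 + v.b2 * σ v.b8
  c4 := v.c6 + v.b2 * σ v.a7 + v.c2 * σ v.c8 + v.a3 * v.c8 + v.b4 * v.a7 + v.a5 * v.b8 + σ v.b2 * v.a7 * v.b8 +
    v.c2 * v.b8 * v.c8 + v.a3 * v.b8 * σ v.b8 + v.b4 * v.b6 * v.b8 + v.b2 * σ v.b2 * v.b8 * v.c8 +
    σ v.b2 * v.b6 * v.b8 ^ 2 + v.c2 * v.b8 ^ 2 * σ v.b8 + v.b2 * σ v.b2 * v.b8 ^ 2 * σ v.b8
  a5 := v.a5 + σ v.b2 * v.a7 + v.c2 * v.c8 + v.a3 * σ v.b8 + v.b4 * v.b6 + v.b2 * σ v.b2 * v.c8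
  b6 := v.b4 + σ v.b2 * v.b8
  c6 := v.c4 + v.b2 * v.a5 + v.c2 * v.a7 + σ v.c2 * v.c8 + v.a3 * v.b6 + σ v.a3 * v.b8 + v.b2 * v.c2 * v.c8 +
    v.b2 * v.a3 * σ v.b8 + v.b2 * v.b4 * v.b6 + σ v.b2 * σ v.b4 * v.b8 + σ v.c2 * v.b8 * σ v.b8 +
    v.b2 ^ 2 * σ v.b2 * v.c8
  a7 := v.a3 + v.b2 * v.b4 + v.c2 * v.b8
  b8 := v.b2
  c8 := v.c2

/-- Diagonal maps. -/
def dg (l m : K) (v : V K) : V K where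
  a1 := l * v.a1
  b2 := l * m * v.b2
  c2 := l * m * σ l * σ m * v.c2
  a3 := l * σ l * m ^ 2 * σ m * v.a3
  b4 := σ l * m * σ m * v.b4
  c4 := l ^ 2 * σ l * m ^ 3 * σ m ^ 2 * v.c4
  a5 := l * σ l * m ^ 2 * σ m ^ 2 * v.a5
  b6 := l * m * σ m * v.b6
  c6 := l * σ l * m ^ 3 * σ m ^ 2 * v.c6
  a7 := l * m ^ 2 * σ m * v.a7
  b8 := m * v.b8
  c8 := m * σ m * v.c8

theorem dg_mul (l m : K) (v w : V K) : dg l m (v * w) = dg l m v * dg l m w := by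
  ext <;> simp only [mul_def, mul, dg] <;> pol

theorem dg_dg (l m l' m' : K) (v : V K) : dg l m (dg l' m' v) = dg (l * l') (m * m') v := by
  ext <;> simp only [dg] <;> pol

theorem dg_one (v : V K) : dg 1 1 v = v := by ext <;> simp [dg]

/-- The action of the torus. -/
def tor : Kˣ × Kˣ →* MulAut (V K) where
  toFun l :=
    { toFun := dg (l.1 : K) l.2
      invFun := dg ((l.1⁻¹ : Kˣ) : K) (l.2⁻¹ : Kˣ)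
      left_inv := fun v => by rw [dg_dg, Units.inv_mul, Units.inv_mul, dg_one]
      right_inv := fun v => by rw [dg_dg, Units.mul_inv, Units.mul_inv, dg_one]
      map_mul' := dg_mul _ _ }
  map_one' := MulEquiv.ext dg_one
  map_mul' l l' := MulEquiv.ext fun v => (dg_dg _ _ _ _ v).symm

theorem tor_apply (l : Kˣ × Kˣ) (v : V K) : tor l v = dg (l.1 : K) l.2 v := rfl

/-- `U₂ ⋯ U₈` -/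
def R : Subgroup (V K) where
  carrier := {v | v.a1 = 0}
  one_mem' := by simp [one_def]
  mul_mem' := fun {v w} hv hw => by simp_all [mul_def, mul]
  inv_mem' := fun {v} hv => by simp_all [inv_def, inv]

theorem mem_R {v : V K} : v ∈ R ↔
    v.a1 = 0 := Iff.rfl

/-- `U₁ ⋯ U₇` -/
def Q : Subgroup (V K) where
  carrier := {v | v.b8 = 0 ∧ v.c8 = 0}
  one_mem' := by simp [one_def]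
  mul_mem' := fun {v w} hv hw => by simp_all [mul_def, mul]
  inv_mem' := fun {v} hv => by simp_all [inv_def, inv]

theorem mem_Q {v : V K} : v ∈ Q ↔
    v.b8 = 0 ∧ v.c8 = 0 := Iff.rfl

/-- `U₁ ⋯ U₇ V₈` -/
def Q8 : Subgroup (V K) where
  carrier := {v | v.b8 = 0}
  one_mem' := by simp [one_def]
  mul_mem' := fun {v w} hv hw => by simp_all [mul_def, mul]
  inv_mem' := fun {v} hv => by simp_all [inv_def, inv]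

theorem mem_Q8 {v : V K} : v ∈ Q8 ↔
    v.b8 = 0 := Iff.rfl

/-- `V₄` -/
def Z : Subgroup (V K) where
  carrier := {v | v.a1 = 0 ∧ v.b2 = 0 ∧ v.c2 = 0 ∧ v.a3 = 0 ∧ v.b4 = 0 ∧ v.a5 = 0 ∧ v.b6 = 0 ∧ v.c6 = 0 ∧ v.a7 = 0 ∧ v.b8 = 0 ∧ v.c8 = 0}
  one_mem' := by simp [one_def]
  mul_mem' := fun {v w} hv hw => by simp_all [mul_def, mul]
  inv_mem' := fun {v} hv => by simp_all [inv_def, inv]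

theorem mem_Z {v : V K} : v ∈ Z ↔
    v.a1 = 0 ∧ v.b2 = 0 ∧ v.c2 = 0 ∧ v.a3 = 0 ∧ v.b4 = 0 ∧ v.a5 = 0 ∧ v.b6 = 0 ∧ v.c6 = 0 ∧ v.a7 = 0 ∧ v.b8 = 0 ∧ v.c8 = 0 := Iff.rfl

/-- `V₄ V₆` -/
def Z2 : Subgroup (V K) where
  carrier := {v | v.a1 = 0 ∧ v.b2 = 0 ∧ v.c2 = 0 ∧ v.a3 = 0 ∧ v.b4 = 0 ∧ v.a5 = 0 ∧ v.b6 = 0 ∧ v.a7 = 0 ∧ v.b8 = 0 ∧ v.c8 = 0}
  one_mem' := by simp [one_def]
  mul_mem' := fun {v w} hv hw => by simp_all [mul_def, mul]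
  inv_mem' := fun {v} hv => by simp_all [inv_def, inv]

theorem mem_Z2 {v : V K} : v ∈ Z2 ↔
    v.a1 = 0 ∧ v.b2 = 0 ∧ v.c2 = 0 ∧ v.a3 = 0 ∧ v.b4 = 0 ∧ v.a5 = 0 ∧ v.b6 = 0 ∧ v.a7 = 0 ∧ v.b8 = 0 ∧ v.c8 = 0 := Iff.rfl

/-- `V₄ U₅ V₆` -/
def Z3 : Subgroup (V K) where
  carrier := {v | v.a1 = 0 ∧ v.b2 = 0 ∧ v.c2 = 0 ∧ v.a3 = 0 ∧ v.b4 = 0 ∧ v.b6 = 0 ∧ v.a7 = 0 ∧ v.b8 = 0 ∧ v.c8 = 0}
  one_mem' := by simp [one_def]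
  mul_mem' := fun {v w} hv hw => by simp_all [mul_def, mul]
  inv_mem' := fun {v} hv => by simp_all [inv_def, inv]

theorem mem_Z3 {v : V K} : v ∈ Z3 ↔
    v.a1 = 0 ∧ v.b2 = 0 ∧ v.c2 = 0 ∧ v.a3 = 0 ∧ v.b4 = 0 ∧ v.b6 = 0 ∧ v.a7 = 0 ∧ v.b8 = 0 ∧ v.c8 = 0 := Iff.rfl

/-- `V₂ U₃ V₄ U₅ V₆` -/
def A : Subgroup (V K) where
  carrier := {v | v.a1 = 0 ∧ v.b2 = 0 ∧ v.b4 = 0 ∧ v.b6 = 0 ∧ v.a7 = 0 ∧ v.b8 = 0 ∧ v.c8 = 0}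
  one_mem' := by simp [one_def]
  mul_mem' := fun {v w} hv hw => by simp_all [mul_def, mul]
  inv_mem' := fun {v} hv => by simp_all [inv_def, inv]

theorem mem_A {v : V K} : v ∈ A ↔
    v.a1 = 0 ∧ v.b2 = 0 ∧ v.b4 = 0 ∧ v.b6 = 0 ∧ v.a7 = 0 ∧ v.b8 = 0 ∧ v.c8 = 0 := Iff.rfl

/-- `V₆` -/
def V6 : Subgroup (V K) where
  carrier := {v | v.a1 = 0 ∧ v.b2 = 0 ∧ v.c2 = 0 ∧ v.a3 = 0 ∧ v.b4 = 0 ∧ v.c4 = 0 ∧ v.a5 = 0 ∧ v.b6 = 0 ∧ v.a7 = 0 ∧ v.b8 = 0 ∧ v.c8 = 0}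
  one_mem' := by simp [one_def]
  mul_mem' := fun {v w} hv hw => by simp_all [mul_def, mul]
  inv_mem' := fun {v} hv => by simp_all [inv_def, inv]

theorem mem_V6 {v : V K} : v ∈ V6 ↔
    v.a1 = 0 ∧ v.b2 = 0 ∧ v.c2 = 0 ∧ v.a3 = 0 ∧ v.b4 = 0 ∧ v.c4 = 0 ∧ v.a5 = 0 ∧ v.b6 = 0 ∧ v.a7 = 0 ∧ v.b8 = 0 ∧ v.c8 = 0 := Iff.rfl

/-- `U₁` -/
def U1 : Subgroup (V K) where
  carrier := {v | v.b2 = 0 ∧ v.c2 = 0 ∧ v.a3 = 0 ∧ v.b4 = 0 ∧ v.c4 = 0 ∧ v.a5 = 0 ∧ v.b6 = 0 ∧ v.c6 = 0 ∧ v.a7 = 0 ∧ v.b8 = 0 ∧ v.c8 = 0}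
  one_mem' := by simp [one_def]
  mul_mem' := fun {v w} hv hw => by simp_all [mul_def, mul]
  inv_mem' := fun {v} hv => by simp_all [inv_def, inv]

theorem mem_U1 {v : V K} : v ∈ U1 ↔
    v.b2 = 0 ∧ v.c2 = 0 ∧ v.a3 = 0 ∧ v.b4 = 0 ∧ v.c4 = 0 ∧ v.a5 = 0 ∧ v.b6 = 0 ∧ v.c6 = 0 ∧ v.a7 = 0 ∧ v.b8 = 0 ∧ v.c8 = 0 := Iff.rfl

/-- `U₂` -/
def U2 : Subgroup (V K) where
  carrier := {v | v.a1 = 0 ∧ v.a3 = 0 ∧ v.b4 = 0 ∧ v.c4 = 0 ∧ v.a5 = 0 ∧ v.b6 = 0 ∧ v.c6 = 0 ∧ v.a7 = 0 ∧ v.b8 = 0 ∧ v.c8 = 0}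
  one_mem' := by simp [one_def]
  mul_mem' := fun {v w} hv hw => by simp_all [mul_def, mul]
  inv_mem' := fun {v} hv => by simp_all [inv_def, inv]

theorem mem_U2 {v : V K} : v ∈ U2 ↔
    v.a1 = 0 ∧ v.a3 = 0 ∧ v.b4 = 0 ∧ v.c4 = 0 ∧ v.a5 = 0 ∧ v.b6 = 0 ∧ v.c6 = 0 ∧ v.a7 = 0 ∧ v.b8 = 0 ∧ v.c8 = 0 := Iff.rfl

/-- `U₄` -/
def U4 : Subgroup (V K) where
  carrier := {v | v.a1 = 0 ∧ v.b2 = 0 ∧ v.c2 = 0 ∧ v.a3 = 0 ∧ v.a5 = 0 ∧ v.b6 = 0 ∧ v.c6 = 0 ∧ v.a7 = 0 ∧ v.b8 = 0 ∧ v.c8 = 0}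
  one_mem' := by simp [one_def]
  mul_mem' := fun {v w} hv hw => by simp_all [mul_def, mul]
  inv_mem' := fun {v} hv => by simp_all [inv_def, inv]

theorem mem_U4 {v : V K} : v ∈ U4 ↔
    v.a1 = 0 ∧ v.b2 = 0 ∧ v.c2 = 0 ∧ v.a3 = 0 ∧ v.a5 = 0 ∧ v.b6 = 0 ∧ v.c6 = 0 ∧ v.a7 = 0 ∧ v.b8 = 0 ∧ v.c8 = 0 := Iff.rfl

/-- `U₆` -/
def U6 : Subgroup (V K) where
  carrier := {v | v.a1 = 0 ∧ v.b2 = 0 ∧ v.c2 = 0 ∧ v.a3 = 0 ∧ v.b4 = 0 ∧ v.c4 = 0 ∧ v.a5 = 0 ∧ v.a7 = 0 ∧ v.b8 = 0 ∧ v.c8 = 0}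
  one_mem' := by simp [one_def]
  mul_mem' := fun {v w} hv hw => by simp_all [mul_def, mul]
  inv_mem' := fun {v} hv => by simp_all [inv_def, inv]

theorem mem_U6 {v : V K} : v ∈ U6 ↔
    v.a1 = 0 ∧ v.b2 = 0 ∧ v.c2 = 0 ∧ v.a3 = 0 ∧ v.b4 = 0 ∧ v.c4 = 0 ∧ v.a5 = 0 ∧ v.a7 = 0 ∧ v.b8 = 0 ∧ v.c8 = 0 := Iff.rfl

/-- `U₈` -/
def U8 : Subgroup (V K) where
  carrier := {v | v.a1 = 0 ∧ v.b2 = 0 ∧ v.c2 = 0 ∧ v.a3 = 0 ∧ v.b4 = 0 ∧ v.c4 = 0 ∧ v.a5 = 0 ∧ v.b6 = 0 ∧ v.c6 = 0 ∧ v.a7 = 0}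
  one_mem' := by simp [one_def]
  mul_mem' := fun {v w} hv hw => by simp_all [mul_def, mul]
  inv_mem' := fun {v} hv => by simp_all [inv_def, inv]

theorem mem_U8 {v : V K} : v ∈ U8 ↔
    v.a1 = 0 ∧ v.b2 = 0 ∧ v.c2 = 0 ∧ v.a3 = 0 ∧ v.b4 = 0 ∧ v.c4 = 0 ∧ v.a5 = 0 ∧ v.b6 = 0 ∧ v.c6 = 0 ∧ v.a7 = 0 := Iff.rfl

/-- `U₃ ⋯ U₈` and `V₂` -/
def R3 : Subgroup (V K) where
  carrier := {v | v.a1 = 0 ∧ v.b2 = 0}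
  one_mem' := by simp [one_def]
  mul_mem' := fun {v w} hv hw => by simp_all [mul_def, mul]
  inv_mem' := fun {v} hv => by simp_all [inv_def, inv]

theorem mem_R3 {v : V K} : v ∈ R3 ↔
    v.a1 = 0 ∧ v.b2 = 0 := Iff.rfl

/-- `U₁ V₂ U₃ ⋯ U₇ V₈` -/
def X1 : Subgroup (V K) where
  carrier := {v | v.b2 = 0 ∧ v.b8 = 0}
  one_mem' := by simp [one_def]
  mul_mem' := fun {v w} hv hw => by simp_all [mul_def, mul]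
  inv_mem' := fun {v} hv => by simp_all [inv_def, inv]

theorem mem_X1 {v : V K} : v ∈ X1 ↔
    v.b2 = 0 ∧ v.b8 = 0 := Iff.rfl

/-- `V₂ U₃ ⋯ U₇` -/
def X2 : Subgroup (V K) where
  carrier := {v | v.a1 = 0 ∧ v.b2 = 0 ∧ v.b8 = 0 ∧ v.c8 = 0}
  one_mem' := by simp [one_def]
  mul_mem' := fun {v w} hv hw => by simp_all [mul_def, mul]
  inv_mem' := fun {v} hv => by simp_all [inv_def, inv]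

theorem mem_X2 {v : V K} : v ∈ X2 ↔
    v.a1 = 0 ∧ v.b2 = 0 ∧ v.b8 = 0 ∧ v.c8 = 0 := Iff.rfl

/-- `U₄ ⋯ U₈` -/
def T8 : Subgroup (V K) where
  carrier := {v | v.a1 = 0 ∧ v.b2 = 0 ∧ v.c2 = 0 ∧ v.a3 = 0}
  one_mem' := by simp [one_def]
  mul_mem' := fun {v w} hv hw => by simp_all [mul_def, mul]
  inv_mem' := fun {v} hv => by simp_all [inv_def, inv]

theorem mem_T8 {v : V K} : v ∈ T8 ↔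
    v.a1 = 0 ∧ v.b2 = 0 ∧ v.c2 = 0 ∧ v.a3 = 0 := Iff.rfl

/-- `V₄ U₅ V₆ U₇ V₈` -/
def A6 : Subgroup (V K) where
  carrier := {v | v.a1 = 0 ∧ v.b2 = 0 ∧ v.c2 = 0 ∧ v.a3 = 0 ∧ v.b4 = 0 ∧ v.b6 = 0 ∧ v.b8 = 0}
  one_mem' := by simp [one_def]
  mul_mem' := fun {v w} hv hw => by simp_all [mul_def, mul]
  inv_mem' := fun {v} hv => by simp_all [inv_def, inv]

theorem mem_A6 {v : V K} : v ∈ A6 ↔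
    v.a1 = 0 ∧ v.b2 = 0 ∧ v.c2 = 0 ∧ v.a3 = 0 ∧ v.b4 = 0 ∧ v.b6 = 0 ∧ v.b8 = 0 := Iff.rfl

/-- `U₂ ⋯ U₇ V₈` -/
def Ph : Subgroup (V K) where
  carrier := {v | v.a1 = 0 ∧ v.b8 = 0}
  one_mem' := by simp [one_def]
  mul_mem' := fun {v w} hv hw => by simp_all [mul_def, mul]
  inv_mem' := fun {v} hv => by simp_all [inv_def, inv]

theorem mem_Ph {v : V K} : v ∈ Ph ↔
    v.a1 = 0 ∧ v.b8 = 0 := Iff.rfl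

/-- The product of the groups `Vᵢ`, `2 ≤ i ≤ 8` -/
def Xs : Subgroup (V K) where
  carrier := {v | v.a1 = 0 ∧ v.b2 = 0 ∧ v.b4 = 0 ∧ v.b6 = 0 ∧ v.b8 = 0}
  one_mem' := by simp [one_def]
  mul_mem' := fun {v w} hv hw => by simp_all [mul_def, mul]
  inv_mem' := fun {v} hv => by simp_all [inv_def, inv]

theorem mem_Xs {v : V K} : v ∈ Xs ↔
    v.a1 = 0 ∧ v.b2 = 0 ∧ v.b4 = 0 ∧ v.b6 = 0 ∧ v.b8 = 0 := Iff.rfl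

/-- Unfold everything to coordinates. -/
scoped macro "vs" loc:(Lean.Parser.Tactic.location)? : tactic =>
  `(tactic| simp only [V.ext_iff, mul_def, inv_def, one_def, mul, inv, x1, y2, x2, x3, y4, x4, x5, y6, x6, x7, y8, x8,
    ρr, ρs, tor_apply, dg, mem_R, mem_Q, mem_Q8, mem_Z, mem_Z2, mem_Z3, mem_A, mem_V6, mem_U1, mem_U2, mem_U4, mem_U6, mem_U8, mem_R3, mem_X1, mem_X2, mem_T8, mem_A6, mem_Ph, mem_Xs,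
    map_zero, map_one, mul_zero, zero_mul, add_zero, zero_add, mul_one, one_mul, one_pow, ne_eq, OfNat.ofNat_ne_zero,
    not_false_eq_true, zero_pow, true_and, and_true, and_self] $[$loc]?)

end V

end Cfsg.Lib.RF4
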